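import Groth.Agent.FormalB.HHLin
import Groth.Agent.CurvesC.CurveNum
import Groth.Agent.VarietyB.RestrSeq

/-!
# Cohomological dimension counting

`hd k M q = dim_k H^q(X, M)`, `Van M q`: `H^q(X, M) = 0`, `FinD k M q`: `H^q(X, M)` is finite dimensional, with the
consequences of the long exact sequence in terms of these (everything below is about numbers, so that the types
`Coh.HH X M q`, expensive for the kernel, do not appear any more).
-/

set_option autoImplicit false
universe u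

open CategoryTheory CategoryTheory.Limits AlgebraicGeometry
open Groth.Agent.FormalB.HHLin

namespace K882.Coho

variable {X : Scheme.{u}}

/-- `dim_k H^q(X, M)` -/
noncomputable def hd (k : Type u) [CommRing k] [X.Over (Spec (CommRingCat.of k))] (M : X.Modules) (q : ℕ) : ℕ :=
  Module.finrank k (Coh.HH X M q)

/-- `H^q(X, M) = 0` -/
def Van (M : X.Modules) (q : ℕ) : Prop := Subsingleton (Coh.HH X M q)

/-- `H^q(X, M)` is a finite `k`-module -/
def FinD (k : Type u) [CommRing k] [X.Over (Spec (CommRingCat.of k))] (M : X.Modules) (q : ℕ) : Prop :=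
  Module.Finite k (Coh.HH X M q)

section Abstract

/-! ### A piece of the long exact sequence, abstractly -/

variable {k : Type u} [CommRing k] [X.Over (Spec (CommRingCat.of k))]

variable (k) in
/-- `H^q` as a functor to `k`-modules. -/
noncomputable def HF (q : ℕ) : X.Modules ⥤ ModuleCat.{u} k where
  obj M := ModuleCat.of k (Coh.HH X M q)
  map f := ModuleCat.ofHom (hmap k f q)
  map_id M := by
    refine ModuleCat.hom_ext (LinearMap.ext fun x => ?_)
    exact hm_id M q x
  map_comp f g := by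
    refine ModuleCat.hom_ext (LinearMap.ext fun x => ?_)
    exact hm_comp f g q x

variable (k) in
/-- the connecting map -/
noncomputable def dl {S : ShortComplex X.Modules} (hS : S.ShortExact) (q : ℕ) :
    (HF k q).obj S.X₃ ⟶ (HF k (q + 1)).obj S.X₁ := ModuleCat.ofHom (hδ k hS q)

theorem hd_eq (M : X.Modules) (q : ℕ) : hd k M q = Module.finrank k ((HF k q).obj M) := rfl

theorem van_iff (M : X.Modules) (q : ℕ) : Van M q ↔ Subsingleton ((HF k q).obj M) := Iff.rfl

theorem finD_iff (M : X.Modules) (q : ℕ) : FinD k M q ↔ Module.Finite k ((HF k q).obj M) := Iff.rfl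

variable {S : ShortComplex X.Modules} (hS : S.ShortExact)

include hS in
theorem exact_fg (q : ℕ) : Function.Exact ((HF k q).map S.f).hom ((HF k q).map S.g).hom := by
  intro x
  constructor
  · intro h
    exact exact₂ hS q x h
  · rintro ⟨y, rfl⟩
    exact hm_comp_f_g S q y

theorem exact_gd (q : ℕ) : Function.Exact ((HF k q).map S.g).hom (dl k hS q).hom := by
  intro x
  constructor
  · intro h
    exact exact₃ hS q x h
  · rintro ⟨y, rfl⟩
    exact hd_hm_g hS q y

theorem exact_df (q : ℕ) : Function.Exact (dl k hS q).hom ((HF k (q + 1)).map S.f).hom := by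
  intro x
  constructor
  · intro h
    exact exact₁ hS q x h
  · rintro ⟨y, rfl⟩
    exact hm_f_hd hS q y

theorem injective_zero_aux {M N : X.Modules} (f : M ⟶ N) (hf : Mono ((tS X).map f)) (a b : Coh.HH X M 0)
    (hab : hm f 0 a = hm f 0 b) : a = b := by
  have h3 : a.comp (Abelian.Ext.mk₀ ((tS X).map f)) (add_zero 0) =
      b.comp (Abelian.Ext.mk₀ ((tS X).map f)) (add_zero 0) := hab
  obtain ⟨a', rfl⟩ := (Abelian.Ext.mk₀_bijective _ _).2 a
  obtain ⟨b', rfl⟩ := (Abelian.Ext.mk₀_bijective _ _).2 b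
  rw [Abelian.Ext.mk₀_comp_mk₀, Abelian.Ext.mk₀_comp_mk₀] at h3
  exact congrArg _ (hf.right_cancellation _ _ ((Abelian.Ext.mk₀_bijective _ _).1 h3))

include hS in
theorem mono_tS : Mono ((tS X).map S.f) := by
  have := hS.mono_f
  infer_instance

include hS in
theorem injective_f_zero : Function.Injective ((HF k 0).map S.f).hom := fun a b hab =>
  injective_zero_aux S.f (mono_tS hS) a b hab

end Abstract

/-! ### Numerical consequences -/

section Num

variable {k : Type u} [Field k] [X.Over (Spec (CommRingCat.of k))]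

theorem hd_iso {M N : X.Modules} (e : Nonempty (M ≅ N)) (q : ℕ) : hd k M q = hd k N q := by
  obtain ⟨e⟩ := e
  rw [hd_eq, hd_eq]
  exact LinearEquiv.finrank_eq ((HF k q).mapIso e).toLinearEquiv

theorem finD_iso {M N : X.Modules} (e : Nonempty (M ≅ N)) (q : ℕ) (h : FinD k M q) : FinD k N q := by
  obtain ⟨e⟩ := e
  rw [finD_iff] at h ⊢
  exact Module.Finite.equiv ((HF k q).mapIso e).toLinearEquiv

theorem van_zeroMod {M : X.Modules} (hM : IsZero M) (q : ℕ) : Van M q := by
  refine ⟨fun x y => ?_⟩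
  have h : ∀ z : Coh.HH X M q, z = 0 := fun z => by
    rw [← hm_id M q z, hM.eq_of_src (𝟙 M) 0, hm_zero]
  rw [h x, h y]

end Num

theorem van_iso {M N : X.Modules} (e : Nonempty (M ≅ N)) (q : ℕ) (h : Van M q) : Van N q := by
  obtain ⟨e⟩ := e
  refine ⟨fun x y => ?_⟩
  have h1 : ∀ z : Coh.HH X N q, hm e.hom q (hm e.inv q z) = z := fun z => by
    rw [← hm_comp, e.inv_hom_id, hm_id]
  rw [← h1 x, ← h1 y, h.elim (hm e.inv q x) (hm e.inv q y)]

section Van

variable {S : ShortComplex X.Modules} (hS : S.ShortExact)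
include hS

theorem van₃ (q : ℕ) (h2 : Van S.X₂ q) (h1 : Van S.X₁ (q + 1)) : Van S.X₃ q := by
  refine ⟨fun x y => ?_⟩
  obtain ⟨a, rfl⟩ := exact₃ hS q x (h1.elim _ _)
  obtain ⟨b, rfl⟩ := exact₃ hS q y (h1.elim _ _)
  rw [h2.elim a b]

theorem van₂ (q : ℕ) (h1 : Van S.X₁ q) (h3 : Van S.X₃ q) : Van S.X₂ q := by
  refine ⟨fun x y => ?_⟩
  obtain ⟨a, rfl⟩ := exact₂ hS q x (h3.elim _ _)
  obtain ⟨b, rfl⟩ := exact₂ hS q y (h3.elim _ _)
  rw [h1.elim a b]

theorem van₁_succ (q : ℕ) (h3 : Van S.X₃ q) (h2 : Van S.X₂ (q + 1)) : Van S.X₁ (q + 1) := by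
  refine ⟨fun x y => ?_⟩
  obtain ⟨a, rfl⟩ := exact₁ hS q x (h2.elim _ _)
  obtain ⟨b, rfl⟩ := exact₁ hS q y (h2.elim _ _)
  rw [h3.elim a b]

theorem van₁_zero (h2 : Van S.X₂ 0) : Van S.X₁ 0 :=
  ⟨fun x y => injective_zero_aux S.f (mono_tS hS) x y (h2.elim _ _)⟩

end Van

section Num

variable {k : Type u} [Field k] [X.Over (Spec (CommRingCat.of k))]
variable {S : ShortComplex X.Modules} (hS : S.ShortExact)

theorem hd_of_van {M : X.Modules} {q : ℕ} (h : Van M q) : hd k M q = 0 := by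
  rw [van_iff (k := k)] at h
  rw [hd_eq]
  exact Module.finrank_zero_of_subsingleton

include hS

/-- `h^q(S₂) = h^q(S₃)` if `H^q(S₁) = H^{q+1}(S₁) = 0`. -/
theorem hd₂₃ (q : ℕ) (h : Van S.X₁ q) (h' : Van S.X₁ (q + 1)) : hd k S.X₂ q = hd k S.X₃ q := by
  rw [van_iff (k := k)] at h h'
  rw [hd_eq, hd_eq]
  refine LinearEquiv.finrank_eq (LinearEquiv.ofBijective ((HF k q).map S.g).hom ⟨?_, ?_⟩)
  · rw [injective_iff_map_eq_zero]
    intro x hx
    obtain ⟨y, rfl⟩ := (exact_fg hS q x).mp hx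
    rw [Subsingleton.elim y 0, map_zero]
  · intro x
    exact (exact_gd hS q x).mp (Subsingleton.elim _ _)

/-- `h^{q+1}(S₁) = h^{q+1}(S₂)` if `H^q(S₃) = H^{q+1}(S₃) = 0`. -/
theorem hd₁₂_succ (q : ℕ) (h : Van S.X₃ q) (h' : Van S.X₃ (q + 1)) : hd k S.X₁ (q + 1) = hd k S.X₂ (q + 1) := by
  rw [van_iff (k := k)] at h h'
  rw [hd_eq, hd_eq]
  refine LinearEquiv.finrank_eq (LinearEquiv.ofBijective ((HF k (q + 1)).map S.f).hom ⟨?_, ?_⟩)
  · rw [injective_iff_map_eq_zero]
    intro x hx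
    obtain ⟨y, rfl⟩ := (exact_df hS q x).mp hx
    rw [Subsingleton.elim y 0, map_zero]
  · intro x
    exact (exact_fg hS (q + 1) x).mp (Subsingleton.elim _ _)

/-- `h^0(S₁) = h^0(S₂)` if `H^0(S₃) = 0`. -/
theorem hd₁₂_zero (h' : Van S.X₃ 0) : hd k S.X₁ 0 = hd k S.X₂ 0 := by
  rw [van_iff (k := k)] at h'
  rw [hd_eq, hd_eq]
  refine LinearEquiv.finrank_eq (LinearEquiv.ofBijective ((HF k 0).map S.f).hom ⟨injective_f_zero hS, ?_⟩)
  intro x
  exact (exact_fg hS 0 x).mp (Subsingleton.elim _ _)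

/-- `h^q(S₃) = h^{q+1}(S₁)` if `H^q(S₂) = H^{q+1}(S₂) = 0`. -/
theorem hd₃₁ (q : ℕ) (h : Van S.X₂ q) (h' : Van S.X₂ (q + 1)) : hd k S.X₃ q = hd k S.X₁ (q + 1) := by
  rw [van_iff (k := k)] at h h'
  rw [hd_eq, hd_eq]
  refine LinearEquiv.finrank_eq (LinearEquiv.ofBijective (dl k hS q).hom ⟨?_, ?_⟩)
  · rw [injective_iff_map_eq_zero]
    intro x hx
    obtain ⟨y, rfl⟩ := (exact_gd hS q x).mp hx
    rw [Subsingleton.elim y 0, map_zero]
  · intro x
    exact (exact_df hS q x).mp (Subsingleton.elim _ _)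

end Num

section Restrict

open Groth.Agent.VarietyB.RestrSeq

variable (k : Type u) [Field k] [X.Over (Spec (CommRingCat.of k))] (D : X.IdealSheafData)

variable {Z : Scheme.{u}} [Z.Over (Spec (CommRingCat.of k))] (i : Z ⟶ X) [IsClosedImmersion i]

/-- cohomology of a direct image along a closed immersion -/
theorem hd_push (hi : i ≫ (X ↘ Spec (CommRingCat.of k)) = Z ↘ Spec (CommRingCat.of k)) (M : Z.Modules) (q : ℕ) :
    hd k ((Scheme.Modules.pushforward i).obj M) q = hd k M q :=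
  (LinearEquiv.finrank_eq (Groth.Agent.CurvesC.CurveNum.hhPushₗ k i hi M q)).symm

omit [Z.Over (Spec (CommRingCat.of k))] in
theorem van_push (M : Z.Modules) (q : ℕ) (h : Van ((Scheme.Modules.pushforward i).obj M) q) : Van M q :=
  ⟨fun _ _ => (Groth.Agent.CurvesC.CurveNum.hhPush i M q).injective (h.elim _ _)⟩

omit [Z.Over (Spec (CommRingCat.of k))] in
theorem van_push' (M : Z.Modules) (q : ℕ) (h : Van M q) : Van ((Scheme.Modules.pushforward i).obj M) q :=
  ⟨fun _ _ => (Groth.Agent.CurvesC.CurveNum.hhPush i M q).symm.injective (h.elim _ _)⟩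

variable {E : X.Modules} (hE : FlatMod.IsFinLocFree E)

include hE in
theorem van_restrict (q : ℕ) (h1 : Van E q) (h2 : Van (CohB1.tensorMod E (ClSub.idealMod D)) (q + 1)) :
    Van ((Scheme.Modules.pullback D.subschemeι).obj E) q :=
  van_push D.subschemeι _ q (van₃ (restrSeq_shortExact
    (Groth.Agent.VarietyB.TensCoh.HasBases.of_isFinLocFree hE) D) q h1 h2)

include hE in
theorem hd_restrict [D.subscheme.Over (Spec (CommRingCat.of k))]
    (hD : D.subschemeι ≫ (X ↘ Spec (CommRingCat.of k)) = D.subscheme ↘ Spec (CommRingCat.of k)) (q : ℕ)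
    (h1 : Van (CohB1.tensorMod E (ClSub.idealMod D)) q)
    (h2 : Van (CohB1.tensorMod E (ClSub.idealMod D)) (q + 1)) :
    hd k E q = hd k ((Scheme.Modules.pullback D.subschemeι).obj E) q :=
  (hd₂₃ (restrSeq_shortExact (Groth.Agent.VarietyB.TensCoh.HasBases.of_isFinLocFree hE) D) q h1 h2).trans
    (hd_push k D.subschemeι hD _ q)

end Restrict

end K882.Coho
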