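import Groth.Agent.HodgeNum.K882.Divisor
import Groth.Agent.Sga2.ESZ
import Groth.Agent.Sga2lef.H503.RegNil
import Groth.Agent.Lefpen.H705.ClosedPoint
import Groth.Agent.PerfA.CohSerre
import Groth.Agent.Grpsch.PicGrp

/-!
# Vanishing of the cohomology of large negative twists on a smooth proper scheme
-/

set_option autoImplicit false
universe u

open CategoryTheory CategoryTheory.Limits AlgebraicGeometry
open K882.Coho K882.IsoMon K882.Divisor

namespace K882.AmpleVan

/-- `H^q(X, E ⊗ L^{-d}) = 0` for `q < dim X` and `d ≥ d₀`, `E` finite locally free, `L` ample, `X` smooth and proper. -/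
theorem exists_bound (k : Type u) [Field k] {X : Scheme.{u}} [X.Over (Spec (CommRingCat.of k))]
    [IsProper (X ↘ Spec (CommRingCat.of k))] (N : ℕ) [SmoothOfRelativeDimension N (X ↘ Spec (CommRingCat.of k))]
    {L : X.Modules} (hL : CohB1.IsAmple L) {E : X.Modules} (hE : FlatMod.IsFinLocFree E) :
    ∃ d₀ : ℕ, ∀ d : ℕ, d₀ ≤ d → ∀ M : X.Modules, ClSub.IsInverseOf M (CohB1.tensorPow L d) →
      ∀ q : ℕ, q < N → Subsingleton (Coh.HH X (CohB1.tensorMod E M) q) := by
  cases N with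
  | zero => exact ⟨0, fun d _ M _ q hq => absurd hq (Nat.not_lt_zero q)⟩
  | succ n =>
    haveI : Smooth (X ↘ Spec (CommRingCat.of k)) := SmoothOfRelativeDimension.smooth (n + 1) _
    haveI : IsLocallyNoetherian X := LocallyOfFiniteType.isLocallyNoetherian (X ↘ Spec (CommRingCat.of k))
    obtain ⟨P, hP, hPL⟩ := Groth.Agent.Grpsch.PicGrp.exists_inverse hL.1
    have hLP : c L * c P = 1 := by
      rw [← c_tensor, ← c_unit, c_eq_iff]
      exact hPL
    have hEc : Coh.IsCoh E := Groth.Agent.PerfA.CohSerre.isCoh_of_isFinLocFree hE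
    obtain ⟨m₀, hm₀⟩ := Groth.Agent.Sga2.ESZ.esz k X (isInverseOf_iff.mpr hLP) hL E hEc n (by
      intro x hx
      haveI := Groth.Agent.Lefpen.H705.ClosedPoint.isRegularLocalRing_stalk (X ↘ Spec (CommRingCat.of k)) x
      have h1 := Groth.Agent.Lefpen.H705.ClosedPoint.ringKrullDim_stalk (X ↘ Spec (CommRingCat.of k)) (n + 1) x hx
      refine lt_of_lt_of_le ?_ (Groth.Agent.Sga2lef.H503.RegNil.le_depth_flf hEc hE x h1)
      exact_mod_cast Nat.lt_succ_self n)
    refine ⟨m₀, fun d hd M hM q hq => ?_⟩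
    have h2 := hm₀ d hd q (Nat.lt_succ_iff.mp hq)
    refine van_c ?_ q h2
    rw [c_tensor, c_tensor, c_pow]
    congr 1
    have h3 : c M * c L ^ d = 1 := by
      rw [← c_pow]
      exact isInverseOf_iff.mp hM
    have h4 : c L ^ d * c P ^ d = 1 := by rw [← mul_pow, hLP, one_pow]
    rw [← one_mul (c P ^ d), ← h3, mul_assoc, h4, mul_one]

/-- A common bound for the exterior powers of `Ω`. -/
theorem exists_bound_omega (k : Type u) [Field k] {X : Scheme.{u}} [X.Over (Spec (CommRingCat.of k))]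
    [IsProper (X ↘ Spec (CommRingCat.of k))] (N : ℕ) [SmoothOfRelativeDimension N (X ↘ Spec (CommRingCat.of k))]
    {L : X.Modules} (hL : CohB1.IsAmple L) (P : ℕ) :
    ∃ d₀ : ℕ, 1 ≤ d₀ ∧ ∀ d : ℕ, d₀ ≤ d → ∀ M : X.Modules, ClSub.IsInverseOf M (CohB1.tensorPow L d) →
      ∀ p q : ℕ, p ≤ P → q < N → ∀ E : X.Modules,
        ExtPow.IsExtPow p (Omega.sheaf (X ↘ Spec (CommRingCat.of k))) E →
        Subsingleton (Coh.HH X (CohB1.tensorMod E M) q) := by
  haveI : Smooth (X ↘ Spec (CommRingCat.of k)) := SmoothOfRelativeDimension.smooth N _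
  obtain ⟨A, hA⟩ := exists_pows (Groth.Agent.Vancyc.H878.OmegaRank.isFinLocFree_omega (X ↘ Spec (CommRingCat.of k)))
  have hflf : ∀ p, FlatMod.IsFinLocFree (A p) := fun p =>
    Groth.Agent.Sga67.LocBasis.isFinLocFree_of_isExtPow
      (Groth.Agent.Vancyc.H878.OmegaRank.isFinLocFree_omega (X ↘ Spec (CommRingCat.of k))) (hA p)
  choose b hb using fun p => exists_bound k N hL (hflf p)
  refine ⟨(Finset.range (P + 1)).sup b + 1, Nat.le_add_left 1 _, fun d hd M hM p q hp hq E hE => ?_⟩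
  have h1 : b p ≤ d := (Finset.le_sup (f := b) (Finset.mem_range.mpr (Nat.lt_succ_of_le hp))).trans
    ((Nat.le_succ _).trans hd)
  have h2 := hb p d h1 M hM q hq
  refine van_c ?_ q h2
  rw [c_tensor, c_tensor, c_extPow_unique rfl (hA p) hE]

end K882.AmpleVan
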