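import Groth.Agent.HodgeNum.K882.Divisor
import Mathlib.FieldTheory.IsAlgClosed.Basic

/-!
# The form of the comparison used in S16275
-/

set_option autoImplicit false
universe u

open CategoryTheory CategoryTheory.Limits AlgebraicGeometry
open K882.Coho K882.IsoMon K882.Divisor

namespace K882.DivisorMain

theorem main (k : Type u) [Field k] (n : ℕ)
    (X : Scheme.{u}) [X.Over (Spec (CommRingCat.of k))]
    [Smooth (X ↘ Spec (CommRingCat.of k))] [IsSeparated (X ↘ Spec (CommRingCat.of k))]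
    (L : X.Modules) (hL : PicF.IsInvertible L) (d₀ : ℕ) (hd₀ : 1 ≤ d₀)
    (hvan : ∀ d : ℕ, d₀ ≤ d → ∀ M : X.Modules, ClSub.IsInverseOf M (CohB1.tensorPow L d) →
      ∀ p q : ℕ, p + q ≤ n → ∀ E : X.Modules, ExtPow.IsExtPow p (Omega.sheaf (X ↘ Spec (CommRingCat.of k))) E →
        Subsingleton (Coh.HH X (CohB1.tensorMod E M) q))
    (d : ℕ) (hd : d₀ ≤ d) (M : X.Modules) (hM : ClSub.IsInverseOf M (CohB1.tensorPow L d))
    (I : X.IdealSheafData) (hI : Nonempty (ClSub.idealMod I ≅ M))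
    [I.subscheme.Over (Spec (CommRingCat.of k))] (hover : I.subscheme ↘ Spec (CommRingCat.of k) = I.subschemeι ≫ X ↘ Spec (CommRingCat.of k))
    [Smooth (I.subscheme ↘ Spec (CommRingCat.of k))]
    (p q : ℕ) (hpq : p + q + 1 ≤ n)
    (F : I.subscheme.Modules) (hF : ExtPow.IsExtPow p (Omega.sheaf (I.subscheme ↘ Spec (CommRingCat.of k))) F)
    (E : X.Modules) (hE : ExtPow.IsExtPow p (Omega.sheaf (X ↘ Spec (CommRingCat.of k))) E) :
    Module.finrank k (Coh.HH I.subscheme F q) = Module.finrank k (Coh.HH X E q) := by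
  have hcM : c M * c L ^ d = 1 := by
    rw [← c_pow]
    exact isInverseOf_iff.mp hM
  have hcI : c (ClSub.idealMod I) = c M := c_eq_iff.mpr hI
  have hIinv : PicF.IsInvertible (ClSub.idealMod I) := by
    refine inv_of_mul (inv_pow hL d) ?_
    rw [c_pow, hcI]
    exact hcM
  have hs : Smooth (I.subschemeι ≫ X ↘ Spec (CommRingCat.of k)) := by
    rw [← hover]
    infer_instance
  have hΩX : FlatMod.IsFinLocFree (Omega.sheaf (X ↘ Spec (CommRingCat.of k))) :=
    Groth.Agent.Vancyc.H878.OmegaRank.isFinLocFree_omega _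
  have hΩY : FlatMod.IsFinLocFree (Omega.sheaf (I.subschemeι ≫ X ↘ Spec (CommRingCat.of k))) :=
    Groth.Agent.Vancyc.H878.OmegaRank.isFinLocFree_omega _
  obtain ⟨AX, hAX⟩ := exists_pows hΩX
  obtain ⟨AY, hAY⟩ := exists_pows hΩY
  have h1 := hd_main (X ↘ Spec (CommRingCat.of k)) I hIinv AX hAX AY hAY (n := n) (by
    intro j hj a q haq
    refine hvan (d * j) (hd.trans (Nat.le_mul_of_pos_right d hj)) _ ?_ a q haq (AX a) (hAX a)
    rw [isInverseOf_iff, c_pow, c_pow, hcI, pow_mul, ← mul_pow, hcM, one_pow]) hover.symm p q hpq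
  have e1 : c F = c (AY p) := by
    rw [hover] at hF
    exact c_extPow_unique rfl hF (hAY p)
  have e2 : c E = c (AX p) := c_extPow_unique rfl hE (hAX p)
  have h2 : Coho.hd k F q = Coho.hd k E q := by
    rw [hd_c e1, hd_c e2, h1]
  exact h2

end K882.DivisorMain
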