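import Groth.Agent.HodgeNum.K882.RelDual
import Groth.Agent.Krr.H488.Atlas
import Groth.Agent.Krr.H496.ExcBundle

/-!
# `h^{1,q}` and `h^{0,q}` of a blow-up in a smooth centre of codimension two
-/

set_option autoImplicit false
universe u

open CategoryTheory CategoryTheory.Limits AlgebraicGeometry TopologicalSpace Opposite

namespace K882.BlowTwo

open K882.Coho K882.IsoMon K882.RelLeray K882.BlowOmega K882.RelDual

section Push

variable {k : Type u} [Field k] {X X' Z : Scheme.{u}} (p : X ⟶ Spec (CommRingCat.of k))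
  (b : X' ⟶ X) (i : Z ⟶ X) [IsClosedImmersion i]
  (m r : ℕ) [SmoothOfRelativeDimension (m + (r + 1)) p] [hZ : SmoothOfRelativeDimension m (i ≫ p)]
  [IsProper p] (hb : BlowUp.IsBlowUp b i.ker)

include hb p m r hZ in
theorem c_push_gE : c ((Scheme.Modules.pushforward (gE b i)).obj
    (Coh.structureModule (i.ker.comap b).subscheme)) = 1 := by
  have : Smooth (i ≫ p) := hZ.smooth
  have : Smooth p := SmoothOfRelativeDimension.smooth (n := m + (r + 1)) _
  have hi : Mor2.IsRegularClosedImmersion i := K935.SmoothImm.isRegularClosedImmersion i p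
  have : CompactSpace Z := QuasiCompact.compactSpace_of_compactSpace (i ≫ p)
  have B := Groth.Agent.Krr.H496.ExcBundle.isProjBundle_exc hi hb (isPullback_gE b i)
  have hE := rank_conormal i p m r
  obtain ⟨ι, hι, A, hA, h, j, hh, hsurj, hpb, hO1⟩ := Groth.Agent.Krr.H484.PBCharts.exists_charts hE B
  let 𝔸 : Groth.Agent.Krr.H488.Atlas.Atlas r (gE b i) _ A h := ⟨j, hpb, hsurj, hO1⟩
  have h1 := Groth.Agent.Krr.H488.Atlas.isIso_unit 𝔸 (E := Coh.structureModule Z)
    Groth.Agent.Sga67.TensorOps.isFinLocFree_structureModule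
  exact (c_push_iso _ (c_pull_unit _)).symm.trans (c_iso (@asIso _ _ _ _ _ h1)).symm

include hb p m r hZ in
theorem isZero_R_gE (q : ℕ) (hq : 1 ≤ q) : IsZero ((Coh.Rpush (gE b i) q).obj
    (Coh.structureModule (i.ker.comap b).subscheme)) := by
  obtain ⟨M, hM, hM'⟩ := Groth.Agent.Grpsch.PicGrp.exists_inverse (inv_idealMod b i hb)
  have hMI : c M * c (ClSub.idealMod (i.ker.comap b)) = 1 := by
    rw [mul_comm, ← c_tensor, ← c_unit, c_eq_iff]
    exact hM'
  refine isZero_exc p b i m r hb (K882.Divisor.flf_of_inv hM) hMI (Nat.zero_le r) (G := Coh.structureModule Z)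
    Groth.Agent.Sga67.TensorOps.isFinLocFree_structureModule ?_ q (Or.inr hq)
  rw [pow_zero, one_mul, c_pull_unit, c_unit]

end Push

variable {k : Type u} [Field k] {X X' Z : Scheme.{u}} [X.Over (Spec (CommRingCat.of k))]
  [X'.Over (Spec (CommRingCat.of k))] [Z.Over (Spec (CommRingCat.of k))] (b : X' ⟶ X) (i : Z ⟶ X)
  [IsClosedImmersion i]
  (hbk : b ≫ (X ↘ Spec (CommRingCat.of k)) = X' ↘ Spec (CommRingCat.of k))
  (hik : i ≫ (X ↘ Spec (CommRingCat.of k)) = Z ↘ Spec (CommRingCat.of k))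
  [IsIntegral X] [IsIntegral X'] [IsProper (X ↘ Spec (CommRingCat.of k))] (hb : BlowUp.IsBlowUp b i.ker)

include hbk hik hb

theorem hd_structure_blow (m r : ℕ) [SmoothOfRelativeDimension (m + (r + 1)) (X ↘ Spec (CommRingCat.of k))]
    [SmoothOfRelativeDimension m (Z ↘ Spec (CommRingCat.of k))] (q : ℕ) :
    hd k (Coh.structureModule X') q = hd k (Coh.structureModule X) q := by
  have hZ : SmoothOfRelativeDimension m (i ≫ (X ↘ Spec (CommRingCat.of k))) := by rw [hik]; infer_instance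
  rw [← hd_pullback b i hbk m r hb Groth.Agent.Sga67.TensorOps.isFinLocFree_structureModule q]
  exact hd_iso (c_eq_iff.1 (c_pull_unit b).symm) q

theorem hd_omega_two (m : ℕ) [SmoothOfRelativeDimension (m + 2) (X ↘ Spec (CommRingCat.of k))]
    [SmoothOfRelativeDimension m (Z ↘ Spec (CommRingCat.of k))] :
    hd k (Omega.sheaf (X' ↘ Spec (CommRingCat.of k))) 0 = hd k (Omega.sheaf (X ↘ Spec (CommRingCat.of k))) 0 ∧
    ∀ q, hd k (Omega.sheaf (X' ↘ Spec (CommRingCat.of k))) (q + 1) =
      hd k (Omega.sheaf (X ↘ Spec (CommRingCat.of k))) (q + 1) + hd k (Coh.structureModule Z) q := by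
  have hl : IsLocallyNoetherian X := LocallyOfFiniteType.isLocallyNoetherian (X ↘ Spec (CommRingCat.of k))
  have hX : SmoothOfRelativeDimension (m + (1 + 1)) (X ↘ Spec (CommRingCat.of k)) := inferInstance
  have hZ : SmoothOfRelativeDimension m (i ≫ (X ↘ Spec (CommRingCat.of k))) := by rw [hik]; infer_instance
  have hpZ : IsProper (Z ↘ Spec (CommRingCat.of k)) := by rw [← hik]; infer_instance
  let _ : (i.ker.comap b).subscheme.Over (Spec (CommRingCat.of k)) :=
    ⟨(i.ker.comap b).subschemeι ≫ (X' ↘ Spec (CommRingCat.of k))⟩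
  have hg : gE b i ≫ (Z ↘ Spec (CommRingCat.of k)) = (i.ker.comap b).subscheme ↘ Spec (CommRingCat.of k) := by
    change _ = (i.ker.comap b).subschemeι ≫ (X' ↘ Spec (CommRingCat.of k))
    rw [← hik, ← hbk, ← Category.assoc, ← Category.assoc, (isPullback_gE b i).w]
  have hpg := isProper_gE b i hb
  have hsg := BlowVan.smooth_of_twist (isTwist (X ↘ Spec (CommRingCat.of k)) b i m 1 hb)
  have hR := isZero_R_gE (X ↘ Spec (CommRingCat.of k)) b i m 1 hb
  have hO := c_push_gE (X ↘ Spec (CommRingCat.of k)) b i m 1 hb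
  refine ⟨?_, fun q => ?_⟩
  · rw [hd_omega b i hbk m 1 hb rfl le_rfl 0, hd_rel_zero (gE b i) hg m hR hO, Nat.add_zero]
  · rw [hd_omega b i hbk m 1 hb rfl le_rfl (q + 1), hd_rel_succ (gE b i) hg m hR hO]

end K882.BlowTwo
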