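import Groth.Agent.HodgeNum.K882.ElemMod
import Groth.Agent.W4c1frobunstiva.K811.KerComp
import Groth.Agent.Krr.H487.KerRank
import Groth.Agent.Krr.H495.ExtExist

/-!
# Exterior powers of an elementary modification: the exact sequence
-/

set_option autoImplicit false

universe u

open CategoryTheory CategoryTheory.Limits AlgebraicGeometry Opposite TopologicalSpace
open scoped TensorProduct
open Groth.Agent.Sga67.Sec Groth.Agent.Sga67.LocBasis Groth.Agent.Sga67.SesImage
open Groth.Agent.Sga67 Groth.Agent.Sga67.ExtSheaf Groth.Agent.Sga67.ExtClass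
open Groth.Agent.Krr.H487.ExtPull Groth.Agent.Krr.H487.LocBasisPull

namespace K882.ElemMod

variable {X Z : Scheme.{u}} {j : Z ⟶ X} [IsClosedImmersion j] {A B : X.Modules} {L : Z.Modules} (f : A ⟶ B)
  (g : B ⟶ (Scheme.Modules.pushforward j).obj L) (w : f ≫ g = 0)

/-- Near every point `B → j_* L` is surjective onto sections over `W`, generated by the image of one section. -/
theorem exists_gen (hS : (ShortComplex.mk f g w).ShortExact) (hL : FlatMod.IsFinLocFreeOfRank 1 L)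
    {U : X.Opens} {x : X} (hx : x ∈ U) :
    ∃ (W : X.Opens) (_ : W ≤ U), x ∈ W ∧ ∃ e : Sec B W, ∀ (V : X.affineOpens) (hV : V.1 ≤ W) (s : Sec B V.1),
      ∃ (c : Γ(X, V.1)) (a : Sec A V.1), s = c • res B hV e + appS f V.1 a := by
  have hm := hS.mono_f
  have he : Epi g := hS.epi_g
  by_cases hxj : x ∈ Set.range j
  · obtain ⟨z, rfl⟩ := hxj
    obtain ⟨V₀, hzV, c, hc⟩ := (Groth.Agent.Krr.H487.KerRank.isFinLocFreeOfRank_iff _).mp hL z
    obtain ⟨U₁, hU₁⟩ : ∃ U₁ : X.Opens, j ⁻¹ᵁ U₁ = V₀ := by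
      obtain ⟨s, hs, hs'⟩ := j.isClosedEmbedding.isInducing.isOpen_iff.mp V₀.2
      exact ⟨⟨s, hs⟩, TopologicalSpace.Opens.ext hs'⟩
    subst hU₁
    obtain ⟨U₂, hU₂, hxU₂, e, he⟩ := locally_surjective_of_epi g
      (show Sec ((Scheme.Modules.pushforward j).obj L) U₁ from c 0) (j z) hzV
    refine ⟨U₂ ⊓ U, inf_le_right, ⟨hxU₂, hx⟩, res B inf_le_left e, ?_⟩
    intro V hV s
    have hV1 : V.1 ≤ U₁ := (hV.trans inf_le_left).trans hU₂
    obtain ⟨a, ha⟩ := (hc (j ⁻¹ᵁ V.1) (Scheme.Hom.preimage_mono j hV1)).2 (secP g V.1 s)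
    obtain ⟨r, hr⟩ := surjective_app j V (a 0)
    have h1 : secP g V.1 (s - r • res B hV (res B inf_le_left e)) = 0 := by
      rw [map_sub, secP_smul, sub_eq_zero, ← ha, comb_apply, Fin.sum_univ_one, ← hr, res_res]
      congr 1
      have h2 : secP g U₂ e = res L (Scheme.Hom.preimage_mono j hU₂) (c 0) := he
      rw [secP_res g (hV.trans inf_le_left) (Scheme.Hom.preimage_mono j (hV.trans inf_le_left)), h2, res_res]
    obtain ⟨a', ha'⟩ := exists_of_appS_eq_zero hS.exact _ h1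
    refine ⟨r, a', ?_⟩
    have ha'' : appS f V.1 a' = s - r • res B hV (res B inf_le_left e) := ha'
    rw [ha'', add_sub_cancel]
  · have hcl : IsOpen (Set.range j)ᶜ := j.isClosedEmbedding.isClosed_range.isOpen_compl
    let U₁ : X.Opens := ⟨(Set.range j)ᶜ, hcl⟩
    refine ⟨U₁ ⊓ U, inf_le_right, ⟨hxj, hx⟩, 0, ?_⟩
    intro V hV s
    have h1 : secP g V.1 s = 0 := by
      apply eq_of_locally
      intro z hz
      exact absurd ⟨z, rfl⟩ (hV hz).1
    obtain ⟨a', ha'⟩ := exists_of_appS_eq_zero hS.exact s h1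
    refine ⟨0, a', ?_⟩
    rw [zero_smul, zero_add]
    exact ha'.symm

theorem exists_good (hj : LocPrin j) (hS : (ShortComplex.mk f g w).ShortExact) (hA : FlatMod.IsFinLocFree A)
    (hB : FlatMod.IsFinLocFree B) (hL : FlatMod.IsFinLocFreeOfRank 1 L) {U : X.Opens} {x : X} (hx : x ∈ U) :
    ∃ W : X.affineOpens, W.1 ≤ U ∧ x ∈ W.1 ∧ ∃ (n m : ℕ) (b : Fin n → Sec B W.1) (a : Fin m → Sec A W.1),
      IsLocBasis b ∧ IsLocBasis a ∧ ∃ t ∈ nonZeroDivisors Γ(X, W.1), RingHom.ker (j.app W.1).hom = Ideal.span {t} ∧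
        ∃ e : Sec B W.1, (∀ s, ∃ (c : Γ(X, W.1)) (a : Sec A W.1), s = c • e + appS f W.1 a) ∧
          ∀ s : Sec B W.1, ∃ a : Sec A W.1, appS f W.1 a = t • s := by
  have hm := hS.mono_f
  obtain ⟨UB, n, hxB, b, hb⟩ := (isFinLocFree_iff _).mp hB x
  obtain ⟨UA, m, hxA, a, ha⟩ := (isFinLocFree_iff _).mp hA x
  obtain ⟨Ut, hxt, ht⟩ := hj x
  obtain ⟨Ue, hUe, hxe, e, he⟩ := exists_gen f g w hS hL hx
  have hx' : x ∈ Ue ⊓ (UB ⊓ (UA ⊓ Ut)) := ⟨hxe, hxB, hxA, hxt⟩
  obtain ⟨_, ⟨W, rfl⟩, hxW, hW⟩ := Opens.isBasis_iff_nbhd.mp (affineBasis X) hx'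
  have h1 : W.1 ≤ Ue := hW.trans inf_le_left
  have h2 : W.1 ≤ UB := (hW.trans inf_le_right).trans inf_le_left
  have h3 : W.1 ≤ UA := ((hW.trans inf_le_right).trans inf_le_right).trans inf_le_left
  have h4 : W.1 ≤ Ut := ((hW.trans inf_le_right).trans inf_le_right).trans inf_le_right
  obtain ⟨t, ht0, ht1⟩ := ht W h4
  refine ⟨W, h1.trans hUe, hxW, n, m, _, _, hb.restrict h2, ha.restrict h3, t, ht0, ht1, res B h1 e,
    he W h1, ?_⟩
  intro s
  have h5 : secP g W.1 (t • s) = 0 := by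
    have h6 : t ∈ RingHom.ker (j.app W.1).hom := by
      rw [ht1]; exact Ideal.mem_span_singleton_self t
    rw [secP_smul]
    have h7 : (j.app W.1 t : Γ(Z, j ⁻¹ᵁ W.1)) = 0 := h6
    rw [h7, zero_smul]
  exact exists_of_appS_eq_zero hS.exact _ h5

/-- **Exterior powers of an elementary modification.** -/
theorem exists_ses (hj : LocPrin j) (hS : (ShortComplex.mk f g w).ShortExact) (hA : FlatMod.IsFinLocFree A)
    (hB : FlatMod.IsFinLocFree B) (hL : FlatMod.IsFinLocFreeOfRank 1 L) {p : ℕ} {LA LB : X.Modules}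
    {LK : Z.Modules} (hLA : ExtPow.IsExtPow (p + 1) A LA) (hLB : ExtPow.IsExtPow (p + 1) B LB)
    (hLK : ExtPow.IsExtPow p (kernel (adj j g)) LK) :
    ∃ (a : LA ⟶ LB) (b : LB ⟶ (Scheme.Modules.pushforward j).obj (CohB1.tensorMod LK L)) (w : a ≫ b = 0),
      (ShortComplex.mk a b w).ShortExact := by
  have hm := hS.mono_f
  have he : Epi g := hS.epi_g
  have hea : Epi (adj j g) := (K811.KerComp.main j B L g).1
  have hS' := Groth.Agent.Krr.H487.KerRank.shortExact_kernel (adj j g)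
  have hBj : FlatMod.IsFinLocFree ((Scheme.Modules.pullback j).obj B) :=
    Groth.Agent.PerfB.FlatPull.isFinLocFree_pullback j hB
  have hL' := Groth.Agent.Krr.H487.KerRank.isFinLocFree_of_rank hL
  have hK : FlatMod.IsFinLocFree (kernel (adj j g)) :=
    Groth.Agent.Krr.H487.KerRank.isFinLocFree_left hS' hBj hL'
  obtain ⟨LBj, -, hLBj⟩ := Groth.Agent.Krr.H495.ExtExist.exists_isExtPow (p + 1) _ hBj
  obtain ⟨LK1, -, hLK1⟩ := Groth.Agent.Krr.H495.ExtExist.exists_isExtPow (p + 1) _ hK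
  obtain ⟨φA, hφA⟩ := exists_phi hLA
  obtain ⟨φB, hφB⟩ := exists_phi hLB
  obtain ⟨φBj, hφBj⟩ := exists_phi hLBj
  obtain ⟨φK, hφK⟩ := exists_phi hLK1
  obtain ⟨fe, hfe⟩ := exists_extMap f φA hφA φB hφB
  obtain ⟨ke, hke⟩ := exists_extMap (kernel.ι (adj j g)) φK hφK φBj hφBj
  obtain ⟨gB, hgB⟩ := exists_hom j φB hφB φBj hφBj
  obtain ⟨k, wk, hk⟩ := K882.ExtSes2.exists_ses_of_extMap hS' hL φK φBj hφBj hLK ke hke
  have hiso := isIso_adj hB φB hφB φBj hφBj gB hgB
  have hk_epi : Epi k := hk.epi_g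
  have hk_mono : Mono ke := hk.mono_f
  -- local surjectivity of `gB` on good opens
  have hgood : ∀ {U : X.Opens} {x : X} (_ : x ∈ U), _ := fun {U} {x} hx =>
    exists_good f g w hj hS hA hB hL (U := U) (x := x) hx
  have hgs : ∀ {W : X.affineOpens} {n : ℕ} {b : Fin n → Sec B W.1}, IsLocBasis b →
      Function.Surjective (secP gB W.1) := by
    intro W n b hb s
    obtain ⟨s', hs'⟩ := surjective_pbS (isLocBasis_extPow (U := W) φB hφB hb) (appS (inv (adj j gB)) _ s)
    refine ⟨s', ?_⟩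
    rw [← adj_secP, hs', ← appS_comp, IsIso.inv_hom_id, appS_id]
  have hgk : ∀ {W : X.affineOpens} {n : ℕ} {b : Fin n → Sec B W.1} {t : Γ(X, W.1)}, IsLocBasis b →
      RingHom.ker (j.app W.1).hom = Ideal.span {t} → ∀ s : Sec LB W.1, secP gB W.1 s = 0 →
      ∃ s', s = t • s' := by
    intro W n b t hb ht s hs
    refine exists_smul_of_pbS (isLocBasis_extPow (U := W) φB hφB hb) ht s ?_
    rw [← adj_secP] at hs
    have := congrArg (appS (inv (adj j gB)) _) hs
    rw [← appS_comp, IsIso.hom_inv_id, appS_id, map_zero] at this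
    exact this
  -- the composite is zero
  have hw : fe ≫ gB ≫ (Scheme.Modules.pushforward j).map k = 0 := by
    apply hom_ext_of_locally
    intro x U hx
    obtain ⟨_, ⟨W, rfl⟩, hxW, hW⟩ := Opens.isBasis_iff_nbhd.mp (affineBasis X) hx
    refine ⟨W.1, hW, hxW, fun s => ?_⟩
    obtain ⟨z, hz⟩ := exists_ke f g w φA φB φBj φK fe hfe ke hke gB hgB s
    change appS k (j ⁻¹ᵁ W.1) (secP gB W.1 (appS fe W.1 s)) = _
    rw [← hz, ← appS_comp, wk]
    rfl
  refine ⟨fe, gB ≫ (Scheme.Modules.pushforward j).map k, hw, ?_⟩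
  have hmono : Mono fe := by
    apply mono_of_locally_injective
    intro x U hx
    obtain ⟨W, hWU, hxW, n, m, b, a, hb, ha, t, ht0, ht1, e, he1, he2⟩ := hgood hx
    refine ⟨W.1, hWU, hxW, fun s hs => ?_⟩
    choose h hh using he2
    have hinj : Function.Injective (appS f W.1) := injective_of_mono f W.1
    let h' : Sec B W.1 →ₗ[Γ(X, W.1)] Sec A W.1 :=
      { toFun := h
        map_add' := fun x y => hinj (by rw [hh, map_add, hh, hh, smul_add])
        map_smul' := fun c x => hinj (by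
          rw [hh, RingHom.id_apply, map_smul, hh, smul_comm]) }
    have h1 := K882.ElemAlg.injective_map (p + 1) (appS f W.1) h' t
      (fun y => hinj (by
        change appS f W.1 (h (appS f W.1 y)) = _
        rw [hh, map_smul]))
      (fun y hy => by
        have h2 : t • (φA W).symm y = 0 := by rw [← map_smul, hy, map_zero]
        have h3 := smul_eq_zero_of_basis (isLocBasis_extPow (U := W) φA hφA ha) ht0 _ h2
        rw [← (φA W).apply_symm_apply y, h3, map_zero])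
    apply (φA W).injective
    apply h1
    rw [← hfe, hs, map_zero, map_zero, map_zero]
  have hepi : Epi (gB ≫ (Scheme.Modules.pushforward j).map k) := by
    have := Groth.Agent.Sga67.ClosedPush.epi_pushforward_map j k
    have : Epi gB := by
      apply epi_of_locally_surjective
      intro U s x hx
      obtain ⟨W, hWU, hxW, n, m, b, a, hb, -⟩ := hgood hx
      obtain ⟨s', hs'⟩ := hgs hb (res _ (Scheme.Hom.preimage_mono j hWU) s)
      exact ⟨W.1, hWU, hxW, s', hs'⟩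
    exact epi_comp _ _
  refine { exact := ?_, mono_f := hmono, epi_g := hepi }
  apply exact_of_locally
  intro U s hs x hx
  obtain ⟨W, hWU, hxW, n, m, b, a, hb, ha, t, ht0, ht1, e, he1, he2⟩ := hgood hx
  have h1 : appS k (j ⁻¹ᵁ W.1) (secP gB W.1 (res LB hWU s)) = 0 := by
    have h2 : appS k (j ⁻¹ᵁ U) (secP gB U s) = 0 := hs
    rw [secP_res gB hWU (Scheme.Hom.preimage_mono j hWU), appS_res, h2, map_zero]
  obtain ⟨z, hz⟩ := exists_of_appS_eq_zero hk.exact _ h1
  obtain ⟨y, hy⟩ := exists_ya f g w φA φB φBj φK fe hfe ke hke gB hgB hS hb z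
  have h3 : secP gB W.1 (res LB hWU s - appS fe W.1 y) = 0 := by
    rw [map_sub, ← hy, sub_eq_zero]
    exact hz.symm
  obtain ⟨s', hs'⟩ := hgk hb ht1 _ h3
  obtain ⟨y', hy'⟩ := K882.ElemAlg.exists_map_eq_smul (appS f W.1) e t he1 (he2 e) p (φB W s')
  have h4 : appS fe W.1 ((φA W).symm y') = t • s' := by
    apply (φB W).injective
    rw [hfe, LinearEquiv.apply_symm_apply, hy', map_smul]
  refine ⟨W.1, hWU, hxW, y + (φA W).symm y', ?_⟩
  change appS fe W.1 _ = _
  rw [map_add, h4, ← hs', add_sub_cancel]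

end K882.ElemMod
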