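import Mathlib.RingTheory.Ideal.Operations
import Mathlib.RingTheory.Ideal.Quotient.Operations
import Mathlib.LinearAlgebra.Quotient.Basic
import Mathlib.LinearAlgebra.Matrix.ToLin
import Mathlib.LinearAlgebra.Matrix.Nondegenerate
import Mathlib.LinearAlgebra.Matrix.NonsingularInverse

/-!
# The cotangent sequence of a blow-up, algebra
-/

set_option autoImplicit false
universe u

namespace K882.CotAlg

section Chart

variable {R B M : Type*} [CommRing R] [CommRing B] [AddCommGroup M] [Module B M] (β : R →+* B) (I : Ideal R)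
  (t : B) (D : B →+ M) (hD : ∀ a b, D (a * b) = a • D b + b • D a) (N : Submodule B M)

include hD in
theorem smul_mul_mem {u v : B} (hu : t • D u ∈ N) (hv : t • D v ∈ N) : t • D (u * v) ∈ N := by
  rw [hD, smul_add, smul_comm t u, smul_comm t v]
  exact N.add_mem (N.smul_mem _ hv) (N.smul_mem _ hu)

include hD in
theorem exists_mem (hβ : ∀ c, D (β c) ∈ N) (hDt : D t ∈ N) (h2 : ∀ m ∈ I, ∃ g, β m = t * g) (n : ℕ) (m : R)
    (hm : m ∈ I ^ n) : ∃ g, β m = t ^ n * g ∧ t • D g ∈ N := by
  induction n generalizing m with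
  | zero => exact ⟨β m, by rw [pow_zero, one_mul], N.smul_mem _ (hβ m)⟩
  | succ n ih =>
    rw [pow_succ] at hm
    refine Submodule.mul_induction_on hm ?_ ?_
    · intro a ha c hc
      obtain ⟨g, hg, hg'⟩ := ih a ha
      obtain ⟨g', hg''⟩ := h2 c hc
      refine ⟨g * g', ?_, smul_mul_mem t D hD N hg' ?_⟩
      · rw [map_mul, hg, hg'', pow_succ]; ring
      · have h3 : D (β c) = t • D g' + g' • D t := by rw [hg'', hD]
        have h4 : t • D g' = D (β c) - g' • D t := by rw [h3, add_sub_cancel_right]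
        rw [h4]
        exact N.sub_mem (hβ c) (N.smul_mem _ hDt)
    · rintro x y ⟨g, hg, hg'⟩ ⟨g', hg1, hg2⟩
      exact ⟨g + g', by rw [map_add, hg, hg1, mul_add], by rw [map_add, smul_add]; exact N.add_mem hg' hg2⟩

include hD in
/-- On a chart of a blow-up, the differentials of all functions are, up to the equation of the exceptional divisor,
combinations of the differentials of the functions from below. -/
theorem smul_mem (ht : t ∈ nonZeroDivisors B) (hβ : ∀ c, D (β c) ∈ N) (hDt : D t ∈ N)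
    (h1 : ∀ u : B, ∃ (n : ℕ) (m : R), m ∈ I ^ n ∧ t ^ n * u = β m) (h2 : ∀ m ∈ I, ∃ g, β m = t * g) (u : B) :
    t • D u ∈ N := by
  obtain ⟨n, m, hm, hu⟩ := h1 u
  obtain ⟨g, hg, hg'⟩ := exists_mem β I t D hD N hβ hDt h2 n m hm
  have h3 : u = g := by
    have h4 : t ^ n ∈ nonZeroDivisors B := pow_mem ht n
    have h5 : t ^ n * (u - g) = 0 := by rw [mul_sub, hu, hg, sub_self]
    exact sub_eq_zero.mp (h4.1 _ h5)
  rw [h3]
  exact hg'

end Chart

/-- Passage to a localisation. -/
theorem smul_mem_loc {B B' M M' : Type*} [CommRing B] [CommRing B'] [AddCommGroup M] [Module B M]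
    [AddCommGroup M'] [Module B' M'] (r : B →+* B') (f : B) (hf : IsUnit (r f))
    (hr : ∀ u : B', ∃ (n : ℕ) (v : B), r f ^ n * u = r v) (D : B →+ M) (D' : B' →+ M')
    (hD' : ∀ a b, D' (a * b) = a • D' b + b • D' a) (ρ : M →+ M') (hρ : ∀ (a : B) (m : M), ρ (a • m) = r a • ρ m)
    (hρD : ∀ a, ρ (D a) = D' (r a)) (N : Submodule B M) (N' : Submodule B' M') (hN : ∀ m ∈ N, ρ m ∈ N')
    (t : B) (ht : ∀ u, t • D u ∈ N) (u : B') : r t • D' u ∈ N' := by
  have h0 : ∀ v : B, r t • D' (r v) ∈ N' := fun v => by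
    rw [← hρD, ← hρ]
    exact hN _ (ht v)
  obtain ⟨n, v, hv⟩ := hr u
  have h1 : D' (r v) = r f ^ n • D' u + u • D' (r f ^ n) := by rw [← hv, hD']
  have h2 : r f ^ n • (r t • D' u) ∈ N' := by
    have h3 : r f ^ n • (r t • D' u) = r t • D' (r v) - u • (r t • D' (r (f ^ n))) := by
      rw [h1, smul_add, smul_comm (r t) (r f ^ n), smul_comm (r t) u, map_pow r, add_sub_cancel_right]
    rw [h3]
    exact N'.sub_mem (h0 v) (N'.smul_mem _ (h0 _))
  have h4 : IsUnit (r f ^ n) := hf.pow n
  obtain ⟨w, hw⟩ := h4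
  have h5 : r t • D' u = (↑w⁻¹ : B') • (r f ^ n • (r t • D' u)) := by
    rw [← hw, smul_smul, Units.inv_mul, one_smul]
  rw [h5]
  exact N'.smul_mem _ h2

/-- The universal property of `W` implies exactness of `N → M → W`. -/
theorem mem_of_map_eq_zero {B C M W : Type u} [CommRing B] [CommRing C] [AddCommGroup M] [Module B M]
    [AddCommGroup W] [Module C W] (π : B →+* C) (hπ : Function.Surjective π) (t : B)
    (hker : RingHom.ker π = Ideal.span {t}) (N : Submodule B M) (D : B →+ M)
    (hD : ∀ a b, D (a * b) = a • D b + b • D a) (hspan : Submodule.span B (Set.range D) = ⊤)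
    (ht : ∀ u, t • D u ∈ N) (hDt : D t ∈ N) (T : Set B) (hT : ∀ a ∈ T, D a ∈ N) (d : C → W) (p : M →+ W)
    (hp : ∀ (b : B) (m : M), p (b • m) = π b • p m) (hpd : ∀ a, p (D a) = d (π a))
    (huniv : ∀ (Q : Type u) [AddCommGroup Q] [Module C Q] (D₀ : C →+ Q),
      (∀ a b, D₀ (a * b) = a • D₀ b + b • D₀ a) → (∀ a ∈ T, D₀ (π a) = 0) →
      ∃ L : W →ₗ[C] Q, ∀ b, L (d b) = D₀ b) (x : M) (hx : p x = 0) : x ∈ N := by
  have htM : ∀ m : M, t • m ∈ N := by
    intro m
    have hm : m ∈ Submodule.span B (Set.range D) := by rw [hspan]; trivial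
    induction hm using Submodule.span_induction with
    | mem x hx => obtain ⟨u, rfl⟩ := hx; exact ht u
    | zero => rw [smul_zero]; exact N.zero_mem
    | add x y _ _ hx hy => rw [smul_add]; exact N.add_mem hx hy
    | smul a x _ hx => rw [smul_comm]; exact N.smul_mem _ hx
  have hQ : ∀ (b : B) (q : M ⧸ N), π b = 0 → b • q = 0 := by
    intro b q hb
    obtain ⟨m, rfl⟩ := N.mkQ_surjective q
    have h1 : b ∈ RingHom.ker π := hb
    rw [hker, Ideal.mem_span_singleton] at h1
    obtain ⟨c, rfl⟩ := h1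
    rw [← map_smul, mul_smul]
    exact (Submodule.Quotient.mk_eq_zero _).mpr (htM _)
  choose ρ hρ using hπ
  letI : SMul C (M ⧸ N) := ⟨fun c q => ρ c • q⟩
  have hsm : ∀ (b : B) (q : M ⧸ N), π b • q = b • q := by
    intro b q
    change ρ (π b) • q = b • q
    rw [← sub_eq_zero, ← sub_smul]
    exact hQ _ _ (by rw [map_sub, hρ, sub_self])
  letI : Module C (M ⧸ N) := Function.Surjective.moduleLeft π (fun c => ⟨ρ c, hρ c⟩) hsm
  have hker' : ∀ a, π a = 0 → N.mkQ (D a) = 0 := by
    intro a ha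
    have h1 : a ∈ RingHom.ker π := ha
    rw [hker, Ideal.mem_span_singleton] at h1
    obtain ⟨c, rfl⟩ := h1
    refine (Submodule.Quotient.mk_eq_zero _).mpr ?_
    rw [hD]
    exact N.add_mem (ht c) (N.smul_mem _ hDt)
  have hσ' : ∀ a, N.mkQ (D (ρ (π a))) = N.mkQ (D a) := fun a => by
    rw [← sub_eq_zero, ← map_sub, ← map_sub]
    exact hker' _ (by rw [map_sub, hρ, sub_self])
  let D₀ : C →+ M ⧸ N :=
    { toFun := fun b => N.mkQ (D (ρ b))
      map_zero' := by
        have := hσ' 0
        rw [map_zero, map_zero] at this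
        rw [this, map_zero]
      map_add' := fun b b' => by
        obtain ⟨a, rfl⟩ : ∃ a, π a = b := ⟨ρ b, hρ b⟩
        obtain ⟨a', rfl⟩ : ∃ a, π a = b' := ⟨ρ b', hρ b'⟩
        rw [← map_add, hσ', hσ', hσ', map_add, map_add] }
  have hD₀ : ∀ a, D₀ (π a) = N.mkQ (D a) := hσ'
  obtain ⟨L, hL⟩ := huniv _ D₀ (by
      intro b b'
      obtain ⟨a, rfl⟩ : ∃ a, π a = b := ⟨ρ b, hρ b⟩
      obtain ⟨a', rfl⟩ : ∃ a, π a = b' := ⟨ρ b', hρ b'⟩
      rw [← map_mul, hD₀, hD₀, hD₀, hD, map_add, map_smul, map_smul, hsm, hsm])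
    (by
      intro a ha
      rw [hD₀]
      exact (Submodule.Quotient.mk_eq_zero _).mpr (hT a ha))
  have key : ∀ m : M, L (p m) = N.mkQ m := by
    intro m
    have hm : m ∈ Submodule.span B (Set.range D) := by rw [hspan]; trivial
    induction hm using Submodule.span_induction with
    | mem x hx => obtain ⟨u, rfl⟩ := hx; rw [hpd, hL, hD₀]
    | zero => rw [map_zero, map_zero, map_zero]
    | add x y _ _ hx hy => rw [map_add, map_add, map_add, hx, hy]
    | smul a x _ hx => rw [hp, map_smul, map_smul, hx, hsm]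
  have h1 : N.mkQ x = 0 := by
    rw [← key, hx, map_zero]
  exact (Submodule.Quotient.mk_eq_zero _).mp h1

/-- A map of free modules of the same rank over a domain whose image contains a non zero multiple is injective. -/
theorem injective_of_smul {R M M' ι : Type*} [CommRing R] [IsDomain R] [AddCommGroup M] [Module R M]
    [AddCommGroup M'] [Module R M'] [Fintype ι] [DecidableEq ι] (b : Module.Basis ι R M) (b' : Module.Basis ι R M')
    (f : M →ₗ[R] M') (t : R) (ht : t ≠ 0) (h : ∀ y, ∃ x, f x = t • y) : Function.Injective f := by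
  choose g hg using fun i => h (b' i)
  let G : M' →ₗ[R] M := b'.constr R g
  have hG : f ∘ₗ G = t • LinearMap.id := by
    refine b'.ext fun i => ?_
    rw [LinearMap.comp_apply, Module.Basis.constr_basis, hg]
    rfl
  have h1 : LinearMap.toMatrix b b' f * LinearMap.toMatrix b' b G = t • (1 : Matrix ι ι R) := by
    rw [← LinearMap.toMatrix_comp, hG, map_smul, LinearMap.toMatrix_id]
  have h2 : (LinearMap.toMatrix b b' f).det * (LinearMap.toMatrix b' b G).det = t ^ Fintype.card ι := by
    rw [← Matrix.det_mul, h1, Matrix.det_smul, Matrix.det_one, mul_one]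
  have h3 : (LinearMap.toMatrix b b' f).det ≠ 0 := by
    intro h4
    rw [h4, zero_mul] at h2
    exact pow_ne_zero _ ht h2.symm
  rw [injective_iff_map_eq_zero]
  intro x hx
  have h5 : Matrix.mulVec (LinearMap.toMatrix b b' f) (b.repr x) = 0 := by
    rw [LinearMap.toMatrix_mulVec_repr, hx, map_zero]
    rfl
  have h6 := Matrix.eq_zero_of_mulVec_eq_zero h3 h5
  apply b.repr.injective
  rw [map_zero]
  exact Finsupp.ext fun i => congrFun h6 i

end K882.CotAlg
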