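import Groth.Agent.HodgeNum.K882.DerHom
import Groth.Agent.HodgeNum.K882.CotAlg
import Groth.Agent.Krr.H487.LocBasisPull
import Groth.Agent.Krr.H487.KerRank
import Mathlib.AlgebraicGeometry.AffineScheme

/-!
# The cotangent sequence of a blow-up

For a commutative square `j ≫ b = g ≫ i`, `i`, `j` closed immersions, and `p : X ⟶ S`:
`b^* Ω_{X/S} → Ω_{X'/S} → j_* Ω_{E/Z} → 0` is exact if `X'` is covered by good charts, and exact on the left if the two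
first modules are locally free of the same rank and `X'` is integral.
-/

set_option autoImplicit false
universe u

open CategoryTheory CategoryTheory.Limits AlgebraicGeometry TopologicalSpace Opposite

set_option linter.unusedSectionVars false

namespace K882.BlowCot

open Groth.Agent.PerfA.IdealModule Groth.Agent.VarietyB Groth.Agent.Sga67.Sec Groth.Agent.Sga67.LocBasis
open Groth.Agent.Dual.H366.Conormal Groth.Agent.Dual.H366.ConSec K882.DerHom K882.OmegaProd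
open Groth.Agent.Krr.H487.LocBasisPull

variable {S X X' Z E : Scheme.{u}} (p : X ⟶ S) (p' : X' ⟶ S) (b : X' ⟶ X) (hb : b ≫ p = p') (j : E ⟶ X')
  (g : E ⟶ Z) (i : Z ⟶ X) (sq : j ≫ b = g ≫ i)
  [QuasiCompact (pullback.diagonal p)] [QuasiCompact (pullback.diagonal p')] [QuasiCompact (pullback.diagonal g)]

theorem secS_eq_pbS {A B : Scheme.{u}} (s : A ⟶ B) (M : B.Modules) (V : B.Opens) (x : Sec M V) :
    secS s M V x = pbS s M x := by
  change PullSec.sec s M (le_refl (s ⁻¹ᵁ V)) x = _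
  rw [PullSec.sec_apply]
  exact res_self ((Scheme.Modules.pullback s).obj M) (le_refl (s ⁻¹ᵁ V)) _

include hb sq in
theorem sq' : j ≫ p' = g ≫ i ≫ p := by rw [← hb, ← Category.assoc, sq, Category.assoc]

/-- `Ω_{X'/S} ⟶ j_* Ω_{E/Z}`. -/
noncomputable abbrev q : Omega.sheaf p' ⟶ (Scheme.Modules.pushforward j).obj (Omega.sheaf g) :=
  qm j p' g (i ≫ p) (sq' p p' b hb j g i sq)

theorem pm_pbS (V : X.Opens) (a : Γ(X, V)) :
    appS (pm b p p' hb) (b ⁻¹ᵁ V) (pbS b (Omega.sheaf p) (dS p V a)) = dS p' (b ⁻¹ᵁ V) (b.app V a) := by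
  rw [← secS_eq_pbS]
  exact pm_sec_d b p p' hb V a

/-- A morphism out of a pull-back vanishing on pulled back sections is zero. -/
theorem eq_zero_of_pbS {A B : Scheme.{u}} (s : A ⟶ B) {M : B.Modules} {N : A.Modules}
    (φ : (Scheme.Modules.pullback s).obj M ⟶ N)
    (h : (Scheme.Modules.pullbackPushforwardAdjunction s).homEquiv M N φ = 0) : φ = 0 := by
  apply ((Scheme.Modules.pullbackPushforwardAdjunction s).homEquiv M N).injective
  rw [h, Adjunction.homEquiv_unit, Functor.map_zero, comp_zero]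

theorem pm_q : pm b p p' hb ≫ q p p' b hb j g i sq = 0 := by
  apply eq_zero_of_pbS b
  apply hom_ext_dS p
  intro V a
  rw [Adjunction.homEquiv_unit, appS_comp, appS_zero]
  change appS (pm b p p' hb ≫ q p p' b hb j g i sq) (b ⁻¹ᵁ V) (pbS b (Omega.sheaf p) (dS p V a)) = 0
  rw [appS_comp, pm_pbS, qm_d]
  have e1 : (j ⁻¹ᵁ (b ⁻¹ᵁ V)) ≤ g ⁻¹ᵁ (i ⁻¹ᵁ V) := by
    have : (j ⁻¹ᵁ (b ⁻¹ᵁ V)) = (j ≫ b) ⁻¹ᵁ V := rfl
    rw [this, sq]
    rfl
  have h1 : j.app (b ⁻¹ᵁ V) (b.app V a) = g.appLE (i ⁻¹ᵁ V) (j ⁻¹ᵁ (b ⁻¹ᵁ V)) e1 (i.app V a) := by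
    have h2 := Scheme.Hom.appLE_comp_appLE j b V (b ⁻¹ᵁ V) (j ⁻¹ᵁ (b ⁻¹ᵁ V)) le_rfl le_rfl
    have h3 := Scheme.Hom.appLE_comp_appLE g i V (i ⁻¹ᵁ V) (j ⁻¹ᵁ (b ⁻¹ᵁ V)) le_rfl e1
    have h4 : (j ≫ b).appLE V (j ⁻¹ᵁ (b ⁻¹ᵁ V)) le_rfl = (g ≫ i).appLE V (j ⁻¹ᵁ (b ⁻¹ᵁ V)) e1 := by
      simp only [sq]
    have h5 := (h2.trans h4).trans h3.symm
    rw [← Scheme.Hom.app_eq_appLE, ← Scheme.Hom.app_eq_appLE, ← Scheme.Hom.app_eq_appLE] at h5
    exact congr($h5 a)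
  rw [h1, dS_base]
  rfl

/-- The submodule of differentials from below. -/
noncomputable def Nd (U : X.Opens) (W : X'.Opens) (e : W ≤ b ⁻¹ᵁ U) : Submodule Γ(X', W) (Sec (Omega.sheaf p') W) :=
  Submodule.span Γ(X', W) (Set.range fun c : Γ(X, U) => dS p' W (b.appLE U W e c))

include hb in
theorem Nd_le_range (U : X.Opens) (W : X'.Opens) (e : W ≤ b ⁻¹ᵁ U) :
    Nd p' b U W e ≤ LinearMap.range (appS (pm b p p' hb) W) := by
  refine Submodule.span_le.mpr ?_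
  rintro _ ⟨c, rfl⟩
  exact d_appLE_mem_range b p p' hb U W e c

theorem res_mem_Nd {U : X.Opens} {W W' : X'.Opens} (e : W ≤ b ⁻¹ᵁ U) (h : W' ≤ W) (m : Sec (Omega.sheaf p') W)
    (hm : m ∈ Nd p' b U W e) : res (Omega.sheaf p') h m ∈ Nd p' b U W' (h.trans e) := by
  induction hm using Submodule.span_induction with
  | mem x hx =>
    obtain ⟨a, rfl⟩ := hx
    rw [dS_res]
    refine Submodule.subset_span ⟨a, ?_⟩
    exact congrArg (dS p' W') congr($(Scheme.Hom.appLE_map b e (homOfLE h).op) a).symm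
  | zero => rw [map_zero]; exact Submodule.zero_mem _
  | add x y _ _ hx hy => rw [map_add]; exact Submodule.add_mem _ hx hy
  | smul a x _ hx => rw [res_smul]; exact Submodule.smul_mem _ _ hx

theorem span_dS' {W Y : Scheme.{u}} (w : W ⟶ Y) [QuasiCompact (pullback.diagonal w)] {V : W.Opens}
    (hV : IsAffineOpen V) {T : Y.Opens} (hT : IsAffineOpen T) (e : V ≤ w ⁻¹ᵁ T) :
    Submodule.span Γ(W, V) (Set.range (dS w V)) = ⊤ := span_dS (w := w) ⟨V, hV, T, hT, e⟩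

theorem exists_lift' {W Y : Scheme.{u}} (w : W ⟶ Y) [QuasiCompact (pullback.diagonal w)] {V : W.Opens}
    (hV : IsAffineOpen V) {T : Y.Opens} (hT : IsAffineOpen T) (e : V ≤ w ⁻¹ᵁ T) {N : Type u} [AddCommGroup N]
    [Module Γ(W, V) N] (D₀ : Γ(W, V) →+ N) (hmul : ∀ a b, D₀ (a * b) = a • D₀ b + b • D₀ a)
    (hA : ∀ a : Γ(Y, T), D₀ (w.appLE T V e a) = 0) :
    ∃ L : Sec (Omega.sheaf w) V →ₗ[Γ(W, V)] N, ∀ a, L (dS w V a) = D₀ a :=
  exists_liftS (w := w) ⟨V, hV, T, hT, e⟩ D₀ hmul hA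

/-- A good chart. -/
structure GC (W : X'.Opens) : Type u where
  U : X.Opens
  hU : IsAffineOpen U
  T : S.Opens
  hT : IsAffineOpen T
  eT : U ≤ p ⁻¹ᵁ T
  e : W ≤ b ⁻¹ᵁ U
  t : Γ(X', W)
  hker : ∀ (W' : X'.affineOpens) (h : W'.1 ≤ W), RingHom.ker (j.app W'.1).hom = Ideal.span {resO X' h t}
  ht : ∀ (W' : X'.affineOpens) (h : W'.1 ≤ W), resO X' h t ∈ nonZeroDivisors Γ(X', W'.1)
  hN : ∀ u : Γ(X', W), t • dS p' W u ∈ Nd p' b U W e
  hDt : dS p' W t ∈ Nd p' b U W e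

/-- Good charts restrict to basic opens. -/
theorem exists_basicOpen {W : X'.Opens} (hW : IsAffineOpen W) (c : GC p p' b j W) {O : X'.Opens} {x : X'}
    (hx : x ∈ O) (hxW : x ∈ W) : ∃ (W' : X'.affineOpens), W'.1 ≤ O ∧ x ∈ W'.1 ∧ Nonempty (GC p p' b j W'.1) := by
  obtain ⟨f, hf1, hf2⟩ := hW.exists_basicOpen_le (V := O) ⟨x, hx⟩ hxW
  have hle : X'.basicOpen f ≤ W := X'.basicOpen_le f
  refine ⟨⟨X'.basicOpen f, hW.basicOpen f⟩, hf1, hf2, ⟨⟨c.U, c.hU, c.T, c.hT, c.eT, hle.trans c.e, resO X' hle c.t,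
    ?_, ?_, ?_, ?_⟩⟩⟩
  · intro W' h
    rw [resO_resO]
    exact c.hker W' (h.trans hle)
  · intro W' h
    rw [resO_resO]
    exact c.ht W' (h.trans hle)
  · intro u
    have hloc := hW.isLocalization_basicOpen f
    refine CotAlg.smul_mem_loc (resO X' hle) f ?_ ?_ (dS p' W) (dS p' (X'.basicOpen f)) (dS_mul p' _)
      (res (Omega.sheaf p') hle) (fun a m => res_smul _ _ _ _) (fun a => dS_res p' hle a)
      (Nd p' b c.U W c.e) _ (fun m hm => res_mem_Nd p' b c.e hle m hm) c.t c.hN u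
    · exact RingedSpace.isUnit_res_basicOpen X'.toRingedSpace f
    · intro u
      obtain ⟨⟨v, ⟨_, n, rfl⟩⟩, hv⟩ := IsLocalization.surj (Submonoid.powers f) u
      refine ⟨n, v, ?_⟩
      rw [mul_comm, ← map_pow]
      exact hv
  · have h1 : dS p' (X'.basicOpen f) (resO X' hle c.t) = res (Omega.sheaf p') hle (dS p' W c.t) := (dS_res p' hle _).symm
    rw [h1]
    exact res_mem_Nd p' b c.e hle _ c.hDt

section Exact

variable [IsClosedImmersion j] [IsClosedImmersion i]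

include sq in
theorem e_g {U : X.Opens} {W : X'.Opens} (e : W ≤ b ⁻¹ᵁ U) : j ⁻¹ᵁ W ≤ g ⁻¹ᵁ (i ⁻¹ᵁ U) := by
  refine (j.preimage_mono e).trans ?_
  have : (j ⁻¹ᵁ (b ⁻¹ᵁ U)) = (j ≫ b) ⁻¹ᵁ U := rfl
  rw [this, sq]
  rfl

/-- The chart of `g` below a good chart. -/
def chG {W : X'.Opens} (hW : IsAffineOpen W) (c : GC p p' b j W) : Ch g where
  V := j ⁻¹ᵁ W
  hV := hW.preimage j
  T := i ⁻¹ᵁ c.U
  hT := c.hU.preimage i
  e := e_g b j g i sq c.e

/-- The chart of `p'` given by a good chart. -/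
def chP {W : X'.Opens} (hW : IsAffineOpen W) (c : GC p p' b j W) : Ch p' where
  V := W
  hV := hW
  T := c.T
  hT := c.hT
  e := by
    have h : ∀ T : S.Opens, b ⁻¹ᵁ (p ⁻¹ᵁ T) ≤ p' ⁻¹ᵁ T := by
      intro T
      rw [← hb]
      rfl
    exact c.e.trans ((b.preimage_mono c.eT).trans (h c.T))

include sq in
theorem app_app {U : X.Opens} {W : X'.Opens} (e : W ≤ b ⁻¹ᵁ U) (a : Γ(X, U)) :
    j.app W (b.appLE U W e a) = g.appLE (i ⁻¹ᵁ U) (j ⁻¹ᵁ W) (e_g b j g i sq e) (i.app U a) := by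
  have e0 : j ⁻¹ᵁ W ≤ (j ≫ b) ⁻¹ᵁ U := j.preimage_mono e
  have e1 : j ⁻¹ᵁ W ≤ (g ≫ i) ⁻¹ᵁ U := by rw [← sq]; exact e0
  have h2 := Scheme.Hom.appLE_comp_appLE j b U W (j ⁻¹ᵁ W) e le_rfl
  have h3 := Scheme.Hom.appLE_comp_appLE g i U (i ⁻¹ᵁ U) (j ⁻¹ᵁ W) le_rfl (e_g b j g i sq e)
  have h4 : (j ≫ b).appLE U (j ⁻¹ᵁ W) e0 = (g ≫ i).appLE U (j ⁻¹ᵁ W) e1 := by
    simp only [sq]
  have h5 := (h2.trans h4).trans h3.symm
  rw [← Scheme.Hom.app_eq_appLE, ← Scheme.Hom.app_eq_appLE] at h5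
  exact congr($h5 a)

theorem q_smul (W : X'.Opens) (a : Γ(X', W)) (s : Sec (Omega.sheaf p') W) :
    ofPush j (appS (q p p' b hb j g i sq) W (a • s)) = j.app W a • ofPush j (appS (q p p' b hb j g i sq) W s) := by
  rw [map_smul]
  rfl

theorem mem_of_q {W : X'.Opens} (hW : IsAffineOpen W) (c : GC p p' b j W) (s : Sec (Omega.sheaf p') W)
    (hs : appS (q p p' b hb j g i sq) W s = 0) : s ∈ Nd p' b c.U W c.e := by
  have hk := c.hker ⟨W, hW⟩ le_rfl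
  rw [resO_self] at hk
  refine CotAlg.mem_of_map_eq_zero (j.app W).hom (j.app_surjective W hW) c.t hk (Nd p' b c.U W c.e) (dS p' W)
    (dS_mul p' W) (span_dS (chP p p' b hb j hW c)) c.hN c.hDt (Set.range (b.appLE c.U W c.e)) ?_
    (W := Sec (Omega.sheaf g) (j ⁻¹ᵁ W)) (dS g (j ⁻¹ᵁ W))
    ((appS (q p p' b hb j g i sq) W).toAddMonoidHom : Sec (Omega.sheaf p') W →+ Sec (Omega.sheaf g) (j ⁻¹ᵁ W))
    ?_ ?_ ?_ s hs
  · rintro _ ⟨a, rfl⟩
    exact Submodule.subset_span ⟨a, rfl⟩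
  · intro a m
    exact q_smul p p' b hb j g i sq W a m
  · intro a
    exact qm_d j p' g (i ≫ p) (sq' p p' b hb j g i sq) W a
  · intro Q _ _ D₀ h1 h2
    refine exists_lift' g (hW.preimage j) (c.hU.preimage i) (e_g b j g i sq c.e) D₀ h1 fun a => ?_
    obtain ⟨a, rfl⟩ := i.app_surjective c.U c.hU a
    have h3 := h2 _ ⟨a, rfl⟩
    change D₀ (j.app W (b.appLE c.U W c.e a)) = 0 at h3
    rw [app_app b j g i sq] at h3
    exact h3

theorem surjective_q {W : X'.Opens} (hW : IsAffineOpen W) (c : GC p p' b j W) (s : Sec (Omega.sheaf g) (j ⁻¹ᵁ W)) :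
    ∃ s' : Sec (Omega.sheaf p') W, ofPush j (appS (q p p' b hb j g i sq) W s') = s := by
  have hx : s ∈ Submodule.span Γ(E, j ⁻¹ᵁ W) (Set.range (dS g (j ⁻¹ᵁ W))) := by
    have h0 : Submodule.span Γ(E, j ⁻¹ᵁ W) (Set.range (dS g (j ⁻¹ᵁ W))) = ⊤ := span_dS (chG p p' b j g i sq hW c)
    rw [h0]; trivial
  induction hx using Submodule.span_induction with
  | mem x hx =>
    obtain ⟨a, rfl⟩ := hx
    obtain ⟨a, rfl⟩ := j.app_surjective W hW a
    exact ⟨dS p' W a, congrArg (ofPush j) (qm_d j p' g (i ≫ p) (sq' p p' b hb j g i sq) W a)⟩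
  | zero => exact ⟨0, by rw [map_zero]; rfl⟩
  | add x y _ _ hx hy =>
    obtain ⟨x', hx'⟩ := hx
    obtain ⟨y', hy'⟩ := hy
    refine ⟨x' + y', ?_⟩
    rw [map_add]
    exact congrArg₂ (· + ·) hx' hy'
  | smul a x _ hx =>
    obtain ⟨x', hx'⟩ := hx
    obtain ⟨a, rfl⟩ := j.app_surjective W hW a
    exact ⟨a • x', (q_smul p p' b hb j g i sq W a x').trans (congrArg (fun z => j.app W a • z) hx')⟩

theorem exact (hcov : ∀ x : X', ∃ W : X'.affineOpens, x ∈ W.1 ∧ Nonempty (GC p p' b j W.1)) :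
    (ShortComplex.mk (pm b p p' hb) (q p p' b hb j g i sq) (pm_q p p' b hb j g i sq)).Exact := by
  apply exact_of_locally
  intro U s hs x hx
  obtain ⟨W, hxW, ⟨c⟩⟩ := hcov x
  obtain ⟨W', hW', hxW', ⟨c'⟩⟩ := exists_basicOpen p p' b j W.2 c hx hxW
  have h1 : appS (q p p' b hb j g i sq) W'.1 (res _ hW' s) = 0 := by
    rw [appS_res]
    have h2 : appS (q p p' b hb j g i sq) U s = 0 := hs
    rw [h2, map_zero]
  obtain ⟨t, ht⟩ := Nd_le_range p p' b hb c'.U W'.1 c'.e (mem_of_q p p' b hb j g i sq W'.2 c' _ h1)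
  exact ⟨W'.1, hW', hxW', t, ht⟩

theorem epi (hcov : ∀ x : X', ∃ W : X'.affineOpens, x ∈ W.1 ∧ Nonempty (GC p p' b j W.1)) :
    Epi (q p p' b hb j g i sq) := by
  apply epi_of_locally_surjective
  intro U s x hx
  obtain ⟨W, hxW, ⟨c⟩⟩ := hcov x
  obtain ⟨W', hW', hxW', ⟨c'⟩⟩ := exists_basicOpen p p' b j W.2 c hx hxW
  obtain ⟨t, ht⟩ := surjective_q p p' b hb j g i sq W'.2 c' (res (Omega.sheaf g) (j.preimage_mono hW') s)
  exact ⟨W'.1, hW', hxW', t, ht⟩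

theorem mono [IsIntegral X'] {n : ℕ} (hP : FlatMod.IsFinLocFreeOfRank n (Omega.sheaf p))
    (hP' : FlatMod.IsFinLocFreeOfRank n (Omega.sheaf p'))
    (hcov : ∀ x : X', ∃ W : X'.affineOpens, x ∈ W.1 ∧ Nonempty (GC p p' b j W.1)) : Mono (pm b p p' hb) := by
  apply mono_of_locally_injective
  intro x U hx
  obtain ⟨U₁, hxU₁, b₁, hb₁⟩ := (Groth.Agent.Krr.H487.KerRank.isFinLocFreeOfRank_iff _).mp
    (Groth.Agent.Vancyc.H878.Triv.isFinLocFreeOfRank_pullback b hP) x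
  obtain ⟨U₂, hxU₂, b₂, hb₂⟩ := (Groth.Agent.Krr.H487.KerRank.isFinLocFreeOfRank_iff _).mp hP' x
  obtain ⟨W, hxW, ⟨c⟩⟩ := hcov x
  obtain ⟨W', hW', hxW', ⟨c'⟩⟩ := exists_basicOpen p p' b j W.2 c (show x ∈ U ⊓ (U₁ ⊓ U₂) from ⟨hx, hxU₁, hxU₂⟩) hxW
  refine ⟨W'.1, hW'.trans inf_le_left, hxW', ?_⟩
  have h1 : W'.1 ≤ U₁ := hW'.trans (inf_le_right.trans inf_le_left)
  have h2 : W'.1 ≤ U₂ := hW'.trans (inf_le_right.trans inf_le_right)
  have : Nonempty W'.1 := ⟨⟨x, hxW'⟩⟩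
  have : IsDomain Γ(X', W'.1) := inferInstance
  have h3 := CotAlg.injective_of_smul (hb₁.basis h1) (hb₂.basis h2) (appS (pm b p p' hb) W'.1) c'.t
    (by
      have h4 := c'.ht W' le_rfl
      rw [resO_self] at h4
      exact nonZeroDivisors.ne_zero h4) (by
      intro y
      have hy : y ∈ Submodule.span Γ(X', W'.1) (Set.range (dS p' W'.1)) := by
        have h0 : Submodule.span Γ(X', W'.1) (Set.range (dS p' W'.1)) = ⊤ := span_dS (chP p p' b hb j W'.2 c')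
        rw [h0]; trivial
      suffices h : c'.t • y ∈ Nd p' b c'.U W'.1 c'.e from Nd_le_range p p' b hb c'.U W'.1 c'.e h
      induction hy using Submodule.span_induction with
      | mem x hx => obtain ⟨u, rfl⟩ := hx; exact c'.hN u
      | zero => rw [smul_zero]; exact Submodule.zero_mem _
      | add x y _ _ hx hy => rw [smul_add]; exact Submodule.add_mem _ hx hy
      | smul a x _ hx => rw [smul_comm]; exact Submodule.smul_mem _ _ hx)
  intro s hs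
  exact h3 (hs.trans (map_zero _).symm)

/-- **The cotangent sequence of a blow-up.** -/
theorem shortExact [IsIntegral X'] {n : ℕ} (hP : FlatMod.IsFinLocFreeOfRank n (Omega.sheaf p))
    (hP' : FlatMod.IsFinLocFreeOfRank n (Omega.sheaf p'))
    (hcov : ∀ x : X', ∃ W : X'.affineOpens, x ∈ W.1 ∧ Nonempty (GC p p' b j W.1)) :
    (ShortComplex.mk (pm b p p' hb) (q p p' b hb j g i sq) (pm_q p p' b hb j g i sq)).ShortExact where
  exact := exact p p' b hb j g i sq hcov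
  mono_f := mono p p' b hb j hP hP' hcov
  epi_g := epi p p' b hb j g i sq hcov

end Exact

end K882.BlowCot
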