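import Groth.Agent.HodgeNum.K882.BlowCot
import Groth.Agent.Divis.BlowChart2

/-!
# The good charts of a blow-up
-/

set_option autoImplicit false
universe u

open CategoryTheory CategoryTheory.Limits AlgebraicGeometry TopologicalSpace Opposite

set_option linter.unusedSectionVars false

namespace K882.BlowGC

open Groth.Agent.Sga67.Sec Groth.Agent.Divis.BlowChart2 K882.BlowCot
open Groth.Agent.Dual.H366.Conormal Groth.Agent.Dual.H366.ConSec

variable {S X X' E : Scheme.{u}} (p : X ⟶ S) (p' : X' ⟶ S) (b : X' ⟶ X) (j : E ⟶ X')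
  [QuasiCompact (pullback.diagonal p)] [QuasiCompact (pullback.diagonal p')] [IsClosedImmersion j]

theorem exists_gc {J : X.IdealSheafData} (hb : BlowUp.IsBlowUp b J) (hj : j.ker = J.comap b) (x : X') :
    ∃ W : X'.affineOpens, x ∈ W.1 ∧ Nonempty (GC p p' b j W.1) := by
  obtain ⟨_, ⟨T, hT, rfl⟩, hxT, -⟩ :=
    S.isBasis_affineOpens.exists_subset_of_mem_open (Set.mem_univ (p (b x))) isOpen_univ
  obtain ⟨_, ⟨U, hU, rfl⟩, hxU, hUT⟩ :=
    X.isBasis_affineOpens.exists_subset_of_mem_open (a := b x) (u := (p ⁻¹ᵁ T : X.Opens)) hxT (p ⁻¹ᵁ T).2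
  obtain ⟨a, ha, hxa⟩ := exists_mem_chart_of_span b J ⟨U, hU⟩ hb.1 (s := (J.ideal ⟨U, hU⟩ : Set Γ(X, U)))
    (Ideal.span_eq _).symm x hxU
  have hW := isAffineOpen_chart b J ⟨U, hU⟩ hb ha
  set W := chart b J ⟨U, hU⟩ a with hWdef
  have e : W ≤ b ⁻¹ᵁ U := chart_le b J ⟨U, hU⟩ a
  have hid : (J.comap b).ideal ⟨W, hW⟩ = Ideal.span {(b.appLE U W e).hom a} := ideal_chart b J ⟨U, hU⟩ a hW
  have hid' : ∀ (W' : X'.affineOpens) (h : W'.1 ≤ W),
      (J.comap b).ideal W' = Ideal.span {resO X' h (b.appLE U W e a)} := by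
    intro W' h
    rw [← (J.comap b).map_ideal (U := W') (V := ⟨W, hW⟩) h, hid, Ideal.map_span, Set.image_singleton]
    rfl
  refine ⟨⟨W, hW⟩, hxa, ⟨⟨U, hU, T, hT, hUT, e, b.appLE U W e a, ?_, ?_, ?_, ?_⟩⟩⟩
  · intro W' h
    rw [← hid' W' h, ← hj, Scheme.Hom.ker_apply]
  · intro W' h
    exact mem_nonZeroDivisors_of_ideal_eq_span hb.1 W' _ (hid' W' h)
  · intro u
    refine CotAlg.smul_mem (b.appLE U W e).hom (J.ideal ⟨U, hU⟩) _ (dS p' W) (dS_mul p' W) (Nd p' b U W e)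
      (appLE_chart_mem_nonZeroDivisors b J ⟨U, hU⟩ hb ha) (fun c => Submodule.subset_span ⟨c, rfl⟩)
      (Submodule.subset_span ⟨a, rfl⟩) (fun u => exists_pow_mul_eq_appLE b J ⟨U, hU⟩ hb ha u) (fun m hm => ?_) u
    obtain ⟨g, hg⟩ := exists_eq_pow_mul_appLE b J ⟨U, hU⟩ hb ha 1 (m := m) (by rwa [pow_one])
    exact ⟨g, by rw [hg, pow_one]⟩
  · exact Submodule.subset_span ⟨a, rfl⟩

end K882.BlowGC
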