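import Groth.Agent.Vancyc.H878.RelOmega

/-!
# The conormal sequence of an immersion of a smooth scheme

`exists_shortExact`: for an immersion `i : Y ⟶ X` and `p : X ⟶ B` with `i ≫ p` smooth,
`0 → C_{Y/X} → i^* Ω_{X/B} → Ω_{Y/B} → 0` is exact.
-/

set_option autoImplicit false
universe u

open CategoryTheory CategoryTheory.Limits AlgebraicGeometry TopologicalSpace

namespace K882.Conormal

open Groth.Agent.Grpsch.ConormalIso Groth.Agent.Smoothlim.ConormalRes Groth.Agent.Krr.H492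
open Groth.Agent.Vancyc.H878.RelOmega

variable {Y X B : Scheme.{u}} (i : Y ⟶ X) (p : X ⟶ B)

/-- `Y ×_B X ≅ X ×_B Y` -/
noncomputable def sw : pullback (i ≫ p) p ≅ pullback p (𝟙 Y ≫ i ≫ p) :=
  pullbackSymmetry (i ≫ p) p ≪≫ pullback.congrHom rfl (Category.id_comp _).symm

theorem w₀ : 𝟙 Y ≫ i ≫ p = i ≫ p := Category.id_comp _

theorem lift_sw : pullback.lift (𝟙 Y) i (w₀ i p) ≫ (sw i p).hom = gr i p := by
  apply pullback.hom_ext
  · rw [Category.assoc, sw, Iso.trans_hom, Category.assoc, pullback.congrHom_hom, pullback.lift_fst,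
      Category.comp_id]
    erw [pullbackSymmetry_hom_comp_fst]
    rw [pullback.lift_snd]
    exact (pullback.lift_fst _ _ _).symm
  · rw [Category.assoc, sw, Iso.trans_hom, Category.assoc, pullback.congrHom_hom, pullback.lift_snd,
      Category.comp_id]
    erw [pullbackSymmetry_hom_comp_snd]
    rw [pullback.lift_fst]
    exact (pullback.lift_snd _ _ _).symm

/-- the conormal sequence -/
theorem exists_shortExact [IsPreimmersion i] [QuasiCompact i] [Smooth (i ≫ p)] [QuasiSeparated (i ≫ p)]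
    [QuasiSeparated p] :
    ∃ S : ShortComplex Y.Modules, S.ShortExact ∧ Nonempty (S.X₁ ≅ Omega.conormal i) ∧
      Nonempty (S.X₂ ≅ (Scheme.Modules.pullback i).obj (Omega.sheaf p)) ∧
      Nonempty (S.X₃ ≅ Omega.sheaf (i ≫ p)) := by
  obtain ⟨C, hC, ⟨e1⟩, ⟨e2⟩, ⟨e3⟩⟩ := ConProd.exists_shortExact (i ≫ p) p i (𝟙 Y) (w₀ i p)
  refine ⟨C, hC, ⟨e1⟩, ⟨e2 ≪≫ ?_⟩, ⟨e3 ≪≫ (Scheme.Modules.pullbackId Y).app _⟩⟩
  have h4 : QuasiCompact (pullback.lift (𝟙 Y) i (w₀ i p)) :=
    quasiCompact_of_section (f := pullback.fst (i ≫ p) p) (pullback.lift_fst _ _ _)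
  have hs : gr i p ≫ pullback.snd p (𝟙 Y ≫ i ≫ p) = 𝟙 Y := pullback.lift_snd _ _ _
  have h1 : IsPreimmersion (gr i p) := isPreimmersion_of_section hs
  have h2 : QuasiSeparated (pullback.snd p (𝟙 Y ≫ i ≫ p)) := inferInstance
  have h3 : QuasiCompact (gr i p) := quasiCompact_of_section hs
  have := isIso_conormalMap_of_section (ConProd.isPullback_sg p (i ≫ p) (𝟙 Y) i (w₁ i p))
    (ConProd.isPullback_gg p (i ≫ p) (𝟙 Y) i (w₁ i p)) (pullback.diagonal_snd p)
  exact (conormalCompIso _ (sw i p).hom).symm ≪≫ eqToIso (by rw [lift_sw]) ≪≫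
    (asIso (conormalMap (ConProd.isPullback_sg p (i ≫ p) (𝟙 Y) i (w₁ i p)).w)).symm

end K882.Conormal
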