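import Groth.Agent.Sga67.ExtClass
import Groth.Agent.Sga67.TensorOps
import Groth.Agent.Krr.H495.ExtExist
import Groth.Agent.Krr.H502.KosZero
import Groth.Agent.Krr.H487.KerRank

/-!
# Exterior powers of an extension of a locally free module by an invertible module

`exists_shortExact`: for `0 → C → E → F → 0` exact with `C` invertible and `F` finite locally free there is a short
exact sequence `0 → C ⊗ Λ^n F → Λ^(n+1) E → Λ^(n+1) F → 0`.
-/

set_option autoImplicit false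

universe u

open CategoryTheory CategoryTheory.Limits AlgebraicGeometry Opposite TopologicalSpace
open scoped TensorProduct ZeroObject
open Groth.Agent.Sga67.Sec Groth.Agent.Sga67.LocBasis Groth.Agent.Sga67.SesImage
open Groth.Agent.Sga67.ExtSheaf Groth.Agent.Sga67.ExtClass Groth.Agent.Sga67

namespace K882.ExtLine

variable {X : Scheme.{u}}

/-- the image of a morphism from a zero object is zero -/
theorem isZero_image_of_isZero {Z N : X.Modules} (hZ : IsZero Z) (m : Z ⟶ N) : IsZero (image m) := by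
  have h : m = 0 := hZ.eq_of_src _ _
  rw [h]
  exact (isZero_zero _).of_iso imageZero

theorem isZero_tensorMod {A B : X.Modules} (hA : IsZero A) : IsZero (CohB1.tensorMod A B) := by
  have h : IsZero (CohB1.tensorMod B A) := ((DCoh.tensorBi (X := X)).obj B).map_isZero hA
  exact h.of_iso (TensorOps.tensorComm A B)

/-- the image of an epimorphism is the target -/
noncomputable def imageIsoOfEpi {P N : X.Modules} (m : P ⟶ N) [Epi m] : image m ≅ N :=
  haveI : Epi (image.ι m) := epi_of_epi_fac (image.fac m)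
  haveI : IsIso (image.ι m) := isIso_of_mono_of_epi _
  asIso (image.ι m)

/-- in a short exact sequence with zero first term the last two are isomorphic -/
noncomputable def isoOfZero {S : ShortComplex X.Modules} (hS : S.ShortExact) (h : IsZero S.X₁) : S.X₂ ≅ S.X₃ :=
  haveI : IsIso S.g := hS.isIso_g_iff.mpr h
  asIso S.g

theorem mu_zero_surjective {R : Type u} [CommRing R] {M' M : Type u} [AddCommGroup M'] [Module R M']
    [AddCommGroup M] [Module R M] {n : ℕ} (h : 0 + n = n) (f : M' →ₗ[R] M) (y : ⋀[R]^n M) :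
    ∃ t : ⋀[R]^0 M' ⊗[R] ⋀[R]^n M, ExtAlg.mu h f t = y := by
  refine ⟨exteriorPower.ιMulti R 0 (fun i => i.elim0) ⊗ₜ y, ?_⟩
  rw [ExtAlg.mu_tmul, exteriorPower.map_apply_ιMulti]
  apply Subtype.ext
  rw [ExtAlg.coe_wedge, exteriorPower.ιMulti_apply_coe, ExteriorAlgebra.ιMulti_zero_apply, one_mul]

section

variable {S : ShortComplex X.Modules} (hS : S.ShortExact) (h₃ : FlatMod.IsFinLocFree S.X₃)

theorem epi_mul_zero {n : ℕ} {Lp Lq N : X.Modules} (φp : Phi 0 S.X₁ Lp)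
    (φq : Phi n S.X₂ Lq) (ψ : Phi n S.X₂ N) (h : 0 + n = n)
    (m : CohB1.tensorMod Lp Lq ⟶ N)
    (hm : ∀ (U : X.affineOpens) (t : Sec Lp U.1 ⊗[Γ(X, U.1)] Sec Lq U.1),
      ψ U (appS m U.1 (tau Lp Lq U.1 t)) = ExtAlg.mu h (appS S.f U.1)
        (TensorProduct.map (φp U).toLinearMap (φq U).toLinearMap t)) : Epi m := by
  apply epi_of_locally_surjective
  intro U s x hx
  obtain ⟨_, ⟨W, rfl⟩, hxW, hW⟩ := Opens.isBasis_iff_nbhd.mp (affineBasis X) hx
  obtain ⟨t, ht⟩ := mu_zero_surjective h (appS S.f W.1) (ψ W (res _ hW s))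
  obtain ⟨t', rfl⟩ := (map_congr_injective φp φq W).2 t
  refine ⟨W.1, hW, hxW, tau Lp Lq W.1 t', ?_⟩
  apply (ψ W).injective
  rw [hm W, ht]

include hS h₃ in
/-- `0 → C ⊗ Λ^n F → Λ^(n+1) E → Λ^(n+1) F → 0`. -/
theorem exists_shortExact (h₁ : FlatMod.IsFinLocFreeOfRank 1 S.X₁) (n : ℕ) {L M N : X.Modules}
    (hL : ExtPow.IsExtPow (n + 1) S.X₂ L) (hM : ExtPow.IsExtPow n S.X₃ M)
    (hN : ExtPow.IsExtPow (n + 1) S.X₃ N) :
    ∃ T : ShortComplex X.Modules, T.ShortExact ∧ Nonempty (T.X₁ ≅ CohB1.tensorMod S.X₁ M) ∧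
      Nonempty (T.X₂ ≅ L) ∧ Nonempty (T.X₃ ≅ N) := by
  have h₁' : FlatMod.IsFinLocFree S.X₁ := Groth.Agent.Krr.H487.KerRank.isFinLocFree_of_rank h₁
  have h₂ := isFinLocFree_of_shortExact hS h₁' h₃
  -- powers of `E`
  have hex : ∀ i, ∃ A : X.Modules, ExtPow.IsExtPow i S.X₂ A := fun i => by
    obtain ⟨A, -, hA⟩ := Groth.Agent.Krr.H495.ExtExist.exists_isExtPow i S.X₂ h₂
    exact ⟨A, hA⟩
  choose A hA using hex
  obtain ⟨B, -, hB⟩ := Groth.Agent.Krr.H495.ExtExist.exists_isExtPow 2 S.X₁ h₁'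
  have hBz : IsZero B := Groth.Agent.Krr.H502.KosZero.isZero_of_isExtPow h₁ hB (by norm_num)
  obtain ⟨φ0, hφ0⟩ := exists_phi (TensorOps.isExtPow_zero S.X₁)
  obtain ⟨φ1, hφ1⟩ := exists_phi (TensorOps.isExtPow_one S.X₁)
  obtain ⟨φ2, hφ2⟩ := exists_phi hB
  choose ψ hψ using fun i => exists_phi (hA i)
  obtain ⟨ψL, hψL⟩ := exists_phi hL
  obtain ⟨χM, hχM⟩ := exists_phi hM
  obtain ⟨χN, hχN⟩ := exists_phi hN
  obtain ⟨lN, hlN⟩ := exists_extMap S.g ψL hψL χN hχN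
  obtain ⟨m0, hm0⟩ := exists_extMul (show 0 + (n + 1) = n + 1 by omega) S.f φ0 hφ0 ψL hψL ψL hψL
  obtain ⟨m1, hm1⟩ := exists_extMul (show 0 + 1 + n = n + 1 by omega) S.f φ1 hφ1 (ψ n) (hψ n) ψL hψL
  obtain ⟨j, k, w, hT⟩ := ses_step hS h₃ (p := 0) (q := n) (n := n + 1) (by omega) (by omega)
    φ0 φ1 ψL (ψ n) χN ψL lN hlN m0 hm0 m1 hm1
  have hepi : Epi m0 := epi_mul_zero φ0 ψL ψL (by omega) m0 hm0
  have e1 : Nonempty (image m1 ≅ CohB1.tensorMod S.X₁ M) := by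
    obtain ⟨lM, hlM⟩ := exists_extMap S.g (ψ n) (hψ n) χM hχM
    cases n with
    | zero =>
      obtain ⟨j', k', w', hT'⟩ := ses_base hS h₃ (p := 1) (n := 0 + 1) (by omega) φ1 (ψ 0) χM ψL lM hlM m1 hm1
      exact ⟨isoOfZero hT' (isZero_image_of_isZero (isZero_zero _) _)⟩
    | succ n =>
      obtain ⟨m2, hm2⟩ := exists_extMul (show 1 + 1 + n = n + 1 + 1 by omega) S.f φ2 hφ2 (ψ n) (hψ n) ψL hψL
      obtain ⟨j', k', w', hT'⟩ := ses_step hS h₃ (p := 1) (q := n) (n := n + 1 + 1) (by omega) (by omega)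
        φ1 φ2 (ψ (n + 1)) (ψ n) χM ψL lM hlM m1 hm1 m2 hm2
      exact ⟨isoOfZero hT' (isZero_image_of_isZero (isZero_tensorMod hBz) _)⟩
  exact ⟨_, hT, e1, ⟨imageIsoOfEpi m0⟩, ⟨TensorOps.tensorUnit N⟩⟩

end

end K882.ExtLine
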