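import Groth.Agent.Ega2.TensMon
import Groth.Agent.CohqB.PullTwist471
import Groth.Prelude.Def_ClSub2

/-!
# The commutative monoid of isomorphism classes of `O_X`-modules under the tensor product

`c M` is the class of `M`; `c_eq_iff`, `c_tensor`, `c_pow`, `c_unit`, `isInverseOf_iff`, `c_pull_tensor`.
Identities between tensor products of modules up to isomorphism become identities in a commutative monoid.
-/

set_option autoImplicit false
universe u

open CategoryTheory CategoryTheory.Limits AlgebraicGeometry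
open Groth.Agent.Ega2.Tens

namespace K882.IsoMon

/-- isomorphism classes of `O_X`-modules -/
def Cls (X : Scheme.{u}) : Type (u + 1) := Quotient (isIsomorphicSetoid X.Modules)

variable {X Y : Scheme.{u}}

/-- the class of a module -/
def c (M : X.Modules) : Cls X := Quotient.mk (isIsomorphicSetoid X.Modules) M

theorem c_eq_iff {M N : X.Modules} : c M = c N ↔ Nonempty (M ≅ N) := Quotient.eq (r := isIsomorphicSetoid X.Modules)

theorem c_iso {M N : X.Modules} (e : M ≅ N) : c M = c N := c_eq_iff.mpr ⟨e⟩

noncomputable instance : Mul (Cls X) where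
  mul := Quotient.map₂ CohB1.tensorMod (fun _ _ h _ _ h' => ⟨mapTIso h.some h'.some⟩)

noncomputable instance : One (Cls X) where
  one := c (Coh.structureModule X)

theorem c_tensor (M N : X.Modules) : c (CohB1.tensorMod M N) = c M * c N := rfl

theorem c_unit : c (Coh.structureModule X) = 1 := rfl

noncomputable instance : CommMonoid (Cls X) where
  mul_assoc := by
    rintro ⟨a⟩ ⟨b⟩ ⟨d⟩
    exact c_iso (assoc a b d)
  one_mul := by
    rintro ⟨a⟩
    exact c_iso (lunit a)
  mul_one := by
    rintro ⟨a⟩
    exact c_iso (runit a)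
  mul_comm := by
    rintro ⟨a⟩ ⟨b⟩
    exact c_iso (swap a b)

theorem c_pow (L : X.Modules) (n : ℕ) : c (CohB1.tensorPow L n) = c L ^ n := by
  induction n with
  | zero => rw [pow_zero]; rfl
  | succ n ih => rw [pow_succ, ← ih]; rfl

theorem isInverseOf_iff {L M : X.Modules} : ClSub.IsInverseOf L M ↔ c L * c M = 1 := by
  rw [← c_tensor, ← c_unit, c_eq_iff]
  rfl

theorem c_pull_iso (f : X ⟶ Y) {M N : Y.Modules} (h : c M = c N) :
    c ((Scheme.Modules.pullback f).obj M) = c ((Scheme.Modules.pullback f).obj N) := by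
  obtain ⟨e⟩ := c_eq_iff.mp h
  exact c_iso ((Scheme.Modules.pullback f).mapIso e)

theorem c_push_iso (f : X ⟶ Y) {M N : X.Modules} (h : c M = c N) :
    c ((Scheme.Modules.pushforward f).obj M) = c ((Scheme.Modules.pushforward f).obj N) := by
  obtain ⟨e⟩ := c_eq_iff.mp h
  exact c_iso ((Scheme.Modules.pushforward f).mapIso e)

theorem c_pull_unit (f : X ⟶ Y) : c ((Scheme.Modules.pullback f).obj (Coh.structureModule Y)) = 1 :=
  c_eq_iff.mpr (Groth.Agent.Ega3B.PullTensor.nonempty_pullUnitIso f)

theorem c_pull_tensor (f : X ⟶ Y) {E : Y.Modules} (hE : FlatMod.IsFinLocFree E) (F : Y.Modules) :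
    c ((Scheme.Modules.pullback f).obj (CohB1.tensorMod E F)) =
      c ((Scheme.Modules.pullback f).obj E) * c ((Scheme.Modules.pullback f).obj F) :=
  c_iso (Groth.Agent.CohqB.PullTwist471.pullTensorIsoLeft f
    (Groth.Agent.VarietyB.TensCoh.HasBases.of_isFinLocFree hE) F)

theorem c_pull_comp {Z : Scheme.{u}} (f : X ⟶ Y) (g : Y ⟶ Z) (M : Z.Modules) :
    c ((Scheme.Modules.pullback (f ≫ g)).obj M) =
      c ((Scheme.Modules.pullback f).obj ((Scheme.Modules.pullback g).obj M)) :=
  c_iso ((Scheme.Modules.pullbackComp f g).app M).symm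

end K882.IsoMon
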