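import Groth.Agent.HodgeNum.K882.Coho
import Groth.Agent.HodgeNum.K882.IsoMon
import Groth.Agent.HodgeNum.K882.ExtLine
import Groth.Agent.HodgeNum.K882.Conormal
import Groth.Agent.Vancyc.H878.OmegaRank
import Groth.Agent.PerfB.FlatPull
import Groth.Agent.Krr.H487.ExtPull
import Groth.Agent.Grpsch.PicGrp

/-!
# Hodge numbers of a smooth divisor

`X` smooth over `k`, `D` an ideal sheaf with invertible ideal module and `Y` the closed subscheme, smooth over `k`.
-/

set_option autoImplicit false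
universe u

open CategoryTheory CategoryTheory.Limits AlgebraicGeometry
open K882.Coho K882.IsoMon

namespace K882.Divisor

section Gen

variable {X : Scheme.{u}}

theorem van_c {M N : X.Modules} (h : c M = c N) (q : ℕ) (hM : Van M q) : Van N q :=
  van_iso (c_eq_iff.mp h) q hM

theorem hd_c {k : Type u} [Field k] [X.Over (Spec (CommRingCat.of k))] {M N : X.Modules} (h : c M = c N)
    (q : ℕ) : hd k M q = hd k N q := hd_iso (c_eq_iff.mp h) q

theorem flf_c {M N : X.Modules} (h : c M = c N) (hM : FlatMod.IsFinLocFree M) : FlatMod.IsFinLocFree N := by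
  obtain ⟨e⟩ := c_eq_iff.mp h
  exact Groth.Agent.Sga67.LocBasis.isFinLocFree_of_iso e hM

theorem inv_c {M N : X.Modules} (h : c M = c N) (hM : PicF.IsInvertible M) : PicF.IsInvertible N := by
  obtain ⟨e⟩ := c_eq_iff.mp h
  intro x
  obtain ⟨U, hx, ⟨i⟩⟩ := hM x
  exact ⟨U, hx, ⟨(Scheme.Modules.restrictFunctor U.ι).mapIso e.symm ≪≫ i⟩⟩

theorem flf_of_inv {M : X.Modules} (hM : PicF.IsInvertible M) : FlatMod.IsFinLocFree M :=
  Groth.Agent.Krr.H487.KerRank.isFinLocFree_of_rank
    (Groth.Agent.Ega2.QCohLocal.isFinLocFreeOfRank_one_iff.mpr hM)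

theorem flf_tensor {M N : X.Modules} (hM : FlatMod.IsFinLocFree M) (hN : FlatMod.IsFinLocFree N) :
    FlatMod.IsFinLocFree (CohB1.tensorMod M N) := Groth.Agent.Sga67.LocBasis.isFinLocFree_tensorMod hM hN

theorem inv_pow {M : X.Modules} (hM : PicF.IsInvertible M) (n : ℕ) : PicF.IsInvertible (CohB1.tensorPow M n) :=
  Groth.Agent.Fdesc.LocGen.isInvertible_tensorPow hM n

/-- A module with an invertible tensor-inverse is invertible. -/
theorem inv_of_mul {M N : X.Modules} (hN : PicF.IsInvertible N) (h : c M * c N = 1) : PicF.IsInvertible M := by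
  obtain ⟨N', hN', h'⟩ := Groth.Agent.Grpsch.PicGrp.exists_inverse hN
  refine inv_c ?_ hN'
  have h1 : c N * c N' = 1 := by
    rw [← c_tensor, ← c_unit, c_eq_iff]
    exact h'
  rw [← mul_one (c M), ← h1, ← mul_assoc, h, one_mul]

/-- Exterior powers of a finite locally free module, chosen. -/
theorem exists_pows {E : X.Modules} (hE : FlatMod.IsFinLocFree E) :
    ∃ A : ℕ → X.Modules, ∀ p, ExtPow.IsExtPow p E (A p) := by
  choose A hA using fun p => Groth.Agent.Krr.H495.ExtExist.exists_isExtPow p E hE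
  exact ⟨A, fun p => (hA p).2⟩

theorem c_extPow_unique {i : ℕ} {E E' L L' : X.Modules} (e : c E = c E')
    (h : ExtPow.IsExtPow i E L) (h' : ExtPow.IsExtPow i E' L') : c L = c L' :=
  c_eq_iff.mpr (Groth.Agent.Sga67.TensorOps.nonempty_iso_of_isExtPow (c_eq_iff.mp e).some h h')

end Gen

variable {k : Type u} [Field k] {X : Scheme.{u}} (p : X ⟶ Spec (CommRingCat.of k))
  [Smooth p] [IsSeparated p] (D : X.IdealSheafData)
  [Smooth (D.subschemeι ≫ p)]

omit [Smooth p] in
/-- The sequences `0 → C ⊗ Ω^a_Y → i^* Ω^(a+1)_X → Ω^(a+1)_Y → 0`. -/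
theorem exists_seq (hI : PicF.IsInvertible (ClSub.idealMod D)) (hΩX : FlatMod.IsFinLocFree (Omega.sheaf p))
    (AX : ℕ → X.Modules) (hAX : ∀ a, ExtPow.IsExtPow a (Omega.sheaf p) (AX a))
    (AY : ℕ → D.subscheme.Modules) (hAY : ∀ a, ExtPow.IsExtPow a (Omega.sheaf (D.subschemeι ≫ p)) (AY a)) (a : ℕ) :
    ∃ T : ShortComplex D.subscheme.Modules, T.ShortExact ∧
      c T.X₁ = c ((Scheme.Modules.pullback D.subschemeι).obj (ClSub.idealMod D)) * c (AY a) ∧
      c T.X₂ = c ((Scheme.Modules.pullback D.subschemeι).obj (AX (a + 1))) ∧ c T.X₃ = c (AY (a + 1)) := by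
  have hsep : IsSeparated (D.subschemeι ≫ p) := inferInstance
  have hΩY : FlatMod.IsFinLocFree (Omega.sheaf (D.subschemeι ≫ p)) :=
    Groth.Agent.Vancyc.H878.OmegaRank.isFinLocFree_omega _
  obtain ⟨S, hS, ⟨e1⟩, ⟨e2⟩, ⟨e3⟩⟩ := Conormal.exists_shortExact D.subschemeι p
  have hker : D.subschemeι.ker = D := D.ker_subschemeι
  have e1' : c S.X₁ = c ((Scheme.Modules.pullback D.subschemeι).obj (ClSub.idealMod D)) := by
    rw [c_iso e1, Omega.conormal, hker]
  have h1 : FlatMod.IsFinLocFreeOfRank 1 S.X₁ := by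
    rw [Groth.Agent.Ega2.QCohLocal.isFinLocFreeOfRank_one_iff]
    exact inv_c e1'.symm (Groth.Agent.Fdesc.LocGen.isInvertible_pullback D.subschemeι hI)
  have h3 : FlatMod.IsFinLocFree S.X₃ := Groth.Agent.Sga67.LocBasis.isFinLocFree_of_iso e3.symm hΩY
  have h2 : FlatMod.IsFinLocFree S.X₂ := Groth.Agent.Sga67.LocBasis.isFinLocFree_of_shortExact hS
    (Groth.Agent.Krr.H487.KerRank.isFinLocFree_of_rank h1) h3
  obtain ⟨L, hL⟩ := exists_pows h2
  obtain ⟨M, hM⟩ := exists_pows h3
  obtain ⟨T, hT, ⟨t1⟩, ⟨t2⟩, ⟨t3⟩⟩ := ExtLine.exists_shortExact hS h3 h1 a (hL (a + 1)) (hM a) (hM (a + 1))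
  have hp : ExtPow.IsExtPow (a + 1) ((Scheme.Modules.pullback D.subschemeι).obj (Omega.sheaf p))
      ((Scheme.Modules.pullback D.subschemeι).obj (AX (a + 1))) := by
    refine Groth.Agent.Krr.H487.ExtPull.isExtPow_pullback _ hΩX (hAX (a + 1)) ?_
    obtain ⟨L', -, hL'⟩ := Groth.Agent.Krr.H495.ExtExist.exists_isExtPow (a + 1) _
      (Groth.Agent.PerfB.FlatPull.isFinLocFree_pullback D.subschemeι hΩX)
    exact ⟨L', hL'⟩
  refine ⟨T, hT, ?_, ?_, ?_⟩
  · rw [c_iso t1, c_tensor, e1', c_extPow_unique (c_iso e3) (hM a) (hAY a)]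
  · rw [c_iso t2, c_extPow_unique (c_iso e2) (hL (a + 1)) hp]
  · rw [c_iso t3, c_extPow_unique (c_iso e3) (hM (a + 1)) (hAY (a + 1))]

open Groth.Agent.Sga67.TensorOps in
/-- The key vanishing on the divisor, and comparison of Hodge numbers.  `T j` is the `j`-th tensor power of the ideal
module; the hypothesis is `H^q(X, Ω^a ⊗ I^j) = 0` for `a + q ≤ n`, `j ≥ 1`. -/
theorem van_main {n : ℕ} (hI : PicF.IsInvertible (ClSub.idealMod D))
    (AX : ℕ → X.Modules) (hAX : ∀ a, ExtPow.IsExtPow a (Omega.sheaf p) (AX a))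
    (AY : ℕ → D.subscheme.Modules) (hAY : ∀ a, ExtPow.IsExtPow a (Omega.sheaf (D.subschemeι ≫ p)) (AY a))
    (hvan : ∀ j : ℕ, 1 ≤ j → ∀ a q : ℕ, a + q ≤ n →
      Van (CohB1.tensorMod (AX a) (CohB1.tensorPow (ClSub.idealMod D) j)) q) :
    ∀ a q j : ℕ, 1 ≤ j → a + q + 1 ≤ n →
      Van (CohB1.tensorMod ((Scheme.Modules.pullback D.subschemeι).obj (CohB1.tensorPow (ClSub.idealMod D) j))
        (AY a)) q := by
  have hΩX : FlatMod.IsFinLocFree (Omega.sheaf p) := Groth.Agent.Vancyc.H878.OmegaRank.isFinLocFree_omega _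
  have hIf := flf_of_inv hI
  have hIj : ∀ j, FlatMod.IsFinLocFree (CohB1.tensorPow (ClSub.idealMod D) j) := fun j => flf_of_inv (inv_pow hI j)
  have hAf : ∀ a, FlatMod.IsFinLocFree (AX a) := fun a =>
    Groth.Agent.Sga67.LocBasis.isFinLocFree_of_isExtPow hΩX (hAX a)
  -- vanishing of the restrictions from `X`
  have hres : ∀ a q j : ℕ, 1 ≤ j → a + q + 1 ≤ n →
      Van ((Scheme.Modules.pullback D.subschemeι).obj
        (CohB1.tensorMod (AX a) (CohB1.tensorPow (ClSub.idealMod D) j))) q := by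
    intro a q j hj hq
    refine van_restrict D (flf_tensor (hAf a) (hIj j)) q (hvan j hj a q (by omega)) ?_
    refine van_c ?_ (q + 1) (hvan (j + 1) (by omega) a (q + 1) (by omega))
    rw [c_tensor, c_tensor, c_tensor, c_pow, c_pow, pow_succ, mul_assoc]
  have hres' : ∀ a j : ℕ, c ((Scheme.Modules.pullback D.subschemeι).obj
        (CohB1.tensorMod (AX a) (CohB1.tensorPow (ClSub.idealMod D) j))) =
      c ((Scheme.Modules.pullback D.subschemeι).obj (CohB1.tensorPow (ClSub.idealMod D) j)) *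
        c ((Scheme.Modules.pullback D.subschemeι).obj (AX a)) := by
    intro a j
    rw [c_pull_tensor _ (hAf a), mul_comm]
  intro a
  induction a with
  | zero =>
    intro q j hj hq
    refine van_c ?_ q (hres 0 q j hj hq)
    have h0 : c (AX 0) = 1 := c_extPow_unique rfl (hAX 0) (isExtPow_zero _)
    have h0' : c (AY 0) = 1 := c_extPow_unique rfl (hAY 0) (isExtPow_zero _)
    rw [hres', c_tensor, h0', c_pull_iso D.subschemeι (M := AX 0) (N := Coh.structureModule X) h0, c_pull_unit]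
  | succ a ih =>
    intro q j hj hq
    obtain ⟨T, hT, t1, t2, t3⟩ := exists_seq p D hI hΩX AX hAX AY hAY a
    have hj' : FlatMod.IsFinLocFree ((Scheme.Modules.pullback D.subschemeι).obj
        (CohB1.tensorPow (ClSub.idealMod D) j)) := Groth.Agent.PerfB.FlatPull.isFinLocFree_pullback _ (hIj j)
    have hT' := tensor_shortExact hj' hT
    have c1 : c (tensorShort ((Scheme.Modules.pullback D.subschemeι).obj
        (CohB1.tensorPow (ClSub.idealMod D) j)) T).X₁ =
        c (CohB1.tensorMod ((Scheme.Modules.pullback D.subschemeι).obj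
          (CohB1.tensorPow (ClSub.idealMod D) (j + 1))) (AY a)) := by
      change c (CohB1.tensorMod _ T.X₁) = _
      rw [c_tensor, c_tensor, t1, CohB1.tensorPow, c_pull_tensor _ (hIj j), mul_assoc]
    have c2 : c (tensorShort ((Scheme.Modules.pullback D.subschemeι).obj
        (CohB1.tensorPow (ClSub.idealMod D) j)) T).X₂ =
        c ((Scheme.Modules.pullback D.subschemeι).obj
          (CohB1.tensorMod (AX (a + 1)) (CohB1.tensorPow (ClSub.idealMod D) j))) := by
      change c (CohB1.tensorMod _ T.X₂) = _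
      rw [c_tensor, t2, hres']
    have c3 : c (tensorShort ((Scheme.Modules.pullback D.subschemeι).obj
        (CohB1.tensorPow (ClSub.idealMod D) j)) T).X₃ =
        c (CohB1.tensorMod ((Scheme.Modules.pullback D.subschemeι).obj
          (CohB1.tensorPow (ClSub.idealMod D) j)) (AY (a + 1))) := by
      change c (CohB1.tensorMod _ T.X₃) = _
      rw [c_tensor, c_tensor, t3]
    refine van_c c3 q (van₃ hT' q (van_c c2.symm q (hres (a + 1) q j hj hq)) ?_)
    exact van_c c1.symm (q + 1) (ih (q + 1) (j + 1) (by omega) (by omega))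

/-- Comparison of the Hodge numbers of a smooth divisor with those of the ambient scheme. -/
theorem hd_main {n : ℕ} (hI : PicF.IsInvertible (ClSub.idealMod D))
    (AX : ℕ → X.Modules) (hAX : ∀ a, ExtPow.IsExtPow a (Omega.sheaf p) (AX a))
    (AY : ℕ → D.subscheme.Modules) (hAY : ∀ a, ExtPow.IsExtPow a (Omega.sheaf (D.subschemeι ≫ p)) (AY a))
    (hvan : ∀ j : ℕ, 1 ≤ j → ∀ a q : ℕ, a + q ≤ n →
      Van (CohB1.tensorMod (AX a) (CohB1.tensorPow (ClSub.idealMod D) j)) q)
    [X.Over (Spec (CommRingCat.of k))] [D.subscheme.Over (Spec (CommRingCat.of k))]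
    (hD : D.subschemeι ≫ (X ↘ Spec (CommRingCat.of k)) = D.subscheme ↘ Spec (CommRingCat.of k))
    (a q : ℕ) (h : a + q + 1 ≤ n) : hd k (AY a) q = hd k (AX a) q := by
  have hΩX : FlatMod.IsFinLocFree (Omega.sheaf p) := Groth.Agent.Vancyc.H878.OmegaRank.isFinLocFree_omega _
  have hAf : ∀ a, FlatMod.IsFinLocFree (AX a) := fun a =>
    Groth.Agent.Sga67.LocBasis.isFinLocFree_of_isExtPow hΩX (hAX a)
  have key := van_main p D hI AX hAX AY hAY hvan
  have h1 : hd k (AX a) q = hd k ((Scheme.Modules.pullback D.subschemeι).obj (AX a)) q := by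
    have e : c (CohB1.tensorMod (AX a) (CohB1.tensorPow (ClSub.idealMod D) 1)) =
        c (CohB1.tensorMod (AX a) (ClSub.idealMod D)) := by
      rw [c_tensor, c_tensor, c_pow, pow_one]
    exact hd_restrict k D (hAf a) hD q (van_c e q (hvan 1 le_rfl a q (by omega)))
      (van_c e (q + 1) (hvan 1 le_rfl a (q + 1) (by omega)))
  rw [h1]
  cases a with
  | zero =>
    have h0 : c (AX 0) = 1 := c_extPow_unique rfl (hAX 0) (Groth.Agent.Sga67.TensorOps.isExtPow_zero _)
    have h0' : c (AY 0) = 1 := c_extPow_unique rfl (hAY 0) (Groth.Agent.Sga67.TensorOps.isExtPow_zero _)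
    refine hd_c ?_ q
    rw [h0', c_pull_iso D.subschemeι (M := AX 0) (N := Coh.structureModule X) h0, c_pull_unit]
  | succ a =>
    obtain ⟨T, hT, t1, t2, t3⟩ := exists_seq p D hI hΩX AX hAX AY hAY a
    have c1 : c (CohB1.tensorMod ((Scheme.Modules.pullback D.subschemeι).obj
        (CohB1.tensorPow (ClSub.idealMod D) 1)) (AY a)) = c T.X₁ := by
      rw [t1, c_tensor]
      congr 1
      refine c_pull_iso _ ?_
      rw [c_pow, pow_one]
    rw [← hd_c t3 q, ← hd_c t2 q]
    exact (hd₂₃ hT q (van_c c1 q (key a q 1 le_rfl (by omega)))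
      (van_c c1 (q + 1) (key a (q + 1) 1 le_rfl (by omega)))).symm

end K882.Divisor
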