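import Groth.Agent.HodgeNum.K882.BlowVan
import Groth.Agent.HodgeNum.K882.BlowGC
import Groth.Agent.HodgeNum.K882.Divisor
import Groth.Agent.Omega.K935.SmoothImm
import Groth.Agent.Lefpen.H709.Geo
import Groth.Agent.Krr.H487.KerRank
import Groth.Agent.Flat2C.BlowProper
import Groth.Agent.Dix.IdealModCartier
import Groth.Agent.Vancyc.H878.Triv
import Groth.Agent.PerfA.CohSerre
import Groth.Agent.S0002

/-!
# `h^{1,q}` of a blow-up in a smooth centre
-/

set_option autoImplicit false
universe u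

open CategoryTheory CategoryTheory.Limits AlgebraicGeometry TopologicalSpace Opposite

namespace K882.BlowOmega

open K882.Coho K882.IsoMon K882.RelLeray K882.BlowVan K882.Divisor

section Geo

variable {X X' Z S : Scheme.{u}} (b : X' ⟶ X) (i : Z ⟶ X) [IsClosedImmersion i]

/-- The exceptional divisor maps to the centre. -/
noncomputable def gE : (i.ker.comap b).subscheme ⟶ Z :=
  ((i.ker).comapIso b).hom ≫ pullback.snd b i.ker.subschemeι ≫ inv i.toImage

theorem isPullback_gE : IsPullback (i.ker.comap b).subschemeι (gE b i) b i := by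
  have h := IsPullback.of_hasPullback b i.ker.subschemeι
  refine IsPullback.of_iso h (i.ker.comapIso b).symm (Iso.refl _) (asIso i.toImage).symm (Iso.refl _) ?_ ?_ ?_ ?_
  · simp
  · rw [Iso.symm_hom, Iso.symm_hom, asIso_inv, gE, Iso.inv_hom_id_assoc]
  · simp
  · simp

theorem rank_conormal (p : X ⟶ S) [IsSeparated p] (m c : ℕ) [hp : SmoothOfRelativeDimension (m + (c + 1)) p]
    [hi : SmoothOfRelativeDimension m (i ≫ p)] : FlatMod.IsFinLocFreeOfRank (c + 1) (Omega.conormal i) := by
  have : Smooth (i ≫ p) := hi.smooth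
  obtain ⟨T, hT, ⟨e1⟩, ⟨e2⟩, ⟨e3⟩⟩ := Conormal.exists_shortExact i p
  have h2 : FlatMod.IsFinLocFreeOfRank (m + (c + 1)) (Omega.sheaf p) :=
    Groth.Agent.Vancyc.H878.OmegaRank.isFinLocFreeOfRank_omega _ _
  have h3 : FlatMod.IsFinLocFreeOfRank m (Omega.sheaf (i ≫ p)) :=
    Groth.Agent.Vancyc.H878.OmegaRank.isFinLocFreeOfRank_omega _ _
  have h2' := Groth.Agent.Krr.H487.KerRank.isFinLocFreeOfRank_of_iso e2.symm
    (Groth.Agent.Vancyc.H878.Triv.isFinLocFreeOfRank_pullback i h2)
  have h3' := Groth.Agent.Krr.H487.KerRank.isFinLocFreeOfRank_of_iso e3.symm h3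
  rw [Nat.add_comm] at h2'
  exact Groth.Agent.Krr.H487.KerRank.isFinLocFreeOfRank_of_iso e1
    (Groth.Agent.Krr.H487.KerRank.isFinLocFreeOfRank_left hT h2' h3')

theorem isFiniteTypeIdeal [IsLocallyNoetherian X] (𝓘 : X.IdealSheafData) :
    BlowUp.IsFiniteTypeIdeal 𝓘 := fun U => by
  have := IsLocallyNoetherian.component_noetherian U
  exact IsNoetherian.noetherian _

theorem smooth_ker (p : X ⟶ S) (m : ℕ) [hi : SmoothOfRelativeDimension m (i ≫ p)] :
    SmoothOfRelativeDimension m (i.ker.subschemeι ≫ p) := by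
  have h : i.ker.subschemeι ≫ p = inv i.toImage ≫ i ≫ p := by
    rw [IsIso.eq_inv_comp, ← Category.assoc]
    congr 1
    exact i.toImage_imageι
  rw [h]
  have := Groth.Agent.Lefpen.H709.Geo.smoothOfRelDim_etale_comp (inv i.toImage) (i ≫ p) m
  exact this

end Geo

section Fin

variable {k : Type u} [Field k] {X : Scheme.{u}} [X.Over (Spec (CommRingCat.of k))]

theorem finD_flf [IsProper (X ↘ Spec (CommRingCat.of k))] {M : X.Modules} (hM : FlatMod.IsFinLocFree M) (q : ℕ) :
    FinD k M q := by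
  have : IsLocallyNoetherian X := LocallyOfFiniteType.isLocallyNoetherian (X ↘ Spec (CommRingCat.of k))
  exact Groth.Agent.S0002.result k X M (Groth.Agent.PerfA.CohSerre.isCoh_of_isFinLocFree hM) q

theorem finD_push {Z : Scheme.{u}} [Z.Over (Spec (CommRingCat.of k))] (i : Z ⟶ X) [IsClosedImmersion i]
    (hi : i ≫ (X ↘ Spec (CommRingCat.of k)) = Z ↘ Spec (CommRingCat.of k)) {M : Z.Modules} {q : ℕ}
    (h : FinD k M q) : FinD k ((Scheme.Modules.pushforward i).obj M) q := by
  have h' : Module.Finite k (Coh.HH Z M q) := h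
  exact Module.Finite.equiv (Groth.Agent.CurvesC.CurveNum.hhPushₗ k i hi M q)

end Fin

section Main

variable {k : Type u} [Field k] {X X' Z : Scheme.{u}} [X.Over (Spec (CommRingCat.of k))]
  [X'.Over (Spec (CommRingCat.of k))] (b : X' ⟶ X) (i : Z ⟶ X) [IsClosedImmersion i]
  (hbk : b ≫ (X ↘ Spec (CommRingCat.of k)) = X' ↘ Spec (CommRingCat.of k))
  (m r : ℕ) [SmoothOfRelativeDimension (m + (r + 1)) (X ↘ Spec (CommRingCat.of k))]
  [hZ : SmoothOfRelativeDimension m (i ≫ (X ↘ Spec (CommRingCat.of k)))]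
  [IsIntegral X] [IsIntegral X'] [IsProper (X ↘ Spec (CommRingCat.of k))] (hb : BlowUp.IsBlowUp b i.ker)

include m r hZ in
omit [IsIntegral X] [IsIntegral X'] [X'.Over (Spec (CommRingCat.of k))] [IsProper (X ↘ Spec (CommRingCat.of k))] in
theorem isRegular : Mor2.IsRegularClosedImmersion i := by
  have : Smooth (i ≫ (X ↘ Spec (CommRingCat.of k))) := hZ.smooth
  have : Smooth (X ↘ Spec (CommRingCat.of k)) := SmoothOfRelativeDimension.smooth (n := m + (r + 1)) _
  exact K935.SmoothImm.isRegularClosedImmersion i (X ↘ Spec (CommRingCat.of k))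

include m r hZ hb in
omit [X'.Over (Spec (CommRingCat.of k))] in
theorem isZero_R (q : ℕ) (hq : 1 ≤ q) : IsZero ((Coh.Rpush b q).obj (Coh.structureModule X')) := by
  have h := Groth.Agent.Krr.H470.BlowMain.isZero_RpushAb i (isRegular (k := k) i m r) (Nat.succ_le_succ (Nat.zero_le r))
    (rank_conormal i (X ↘ Spec (CommRingCat.of k)) m r) b hb q hq
  exact (Groth.Agent.Ega3B.RpushAbCmp.isZero_RpushAb_iff b _ q).1 h

include m r hZ hb in
omit [X'.Over (Spec (CommRingCat.of k))] in
theorem c_push : c ((Scheme.Modules.pushforward b).obj (Coh.structureModule X')) = 1 := by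
  have h := Groth.Agent.Krr.H470.BlowMain.isIso_unit i (isRegular (k := k) i m r) (Nat.succ_le_succ (Nat.zero_le r))
    (rank_conormal i (X ↘ Spec (CommRingCat.of k)) m r) b hb
  exact (c_push_iso b (c_pull_unit b)).symm.trans (c_iso (@asIso _ _ _ _ _ h)).symm

include hbk m r hZ hb in
theorem hd_pullback {V : X.Modules} (hV : FlatMod.IsFinLocFree V) (q : ℕ) :
    hd k ((Scheme.Modules.pullback b).obj V) q = hd k V q :=
  hd_pull b k hbk (isZero_R (k := k) b i m r hb) (c_push (k := k) b i m r hb) hV q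

end Main

section Exc

variable {k : Type u} [Field k] {X X' Z : Scheme.{u}} (p : X ⟶ Spec (CommRingCat.of k))
  (b : X' ⟶ X) (i : Z ⟶ X) [IsClosedImmersion i]
  (m r : ℕ) [SmoothOfRelativeDimension (m + (r + 1)) p] [hZ : SmoothOfRelativeDimension m (i ≫ p)]
  [IsProper p] (hb : BlowUp.IsBlowUp b i.ker)

omit [IsProper p] in
theorem c_res (V : X.Modules) : c ((Scheme.Modules.pullback (i.ker.comap b).subschemeι).obj
    ((Scheme.Modules.pullback b).obj V)) =
    c ((Scheme.Modules.pullback (gE b i)).obj ((Scheme.Modules.pullback i).obj V)) := by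
  rw [← c_pull_comp, ← c_pull_comp, (isPullback_gE b i).w]

include hb in
theorem isProper_b [IsLocallyNoetherian X] : IsProper b :=
  Groth.Agent.Flat2C.BlowProper.isProper_of_isBlowUp hb (isFiniteTypeIdeal _)

include hb in
theorem isProper_gE [IsLocallyNoetherian X] : IsProper (gE b i) := by
  have := isProper_b b i hb
  exact MorphismProperty.of_isPullback (P := @IsProper) (isPullback_gE b i) this

include hb in
theorem inv_idealMod : PicF.IsInvertible (ClSub.idealMod (i.ker.comap b)) :=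
  Groth.Agent.Dix.IdealModCartier.isInvertible_idealMod hb.1

include hb p m hZ in
/-- The ideal of the exceptional divisor restricted to it is a relative `O(1)`. -/
theorem isTwist : Groth.Agent.Krr.H471.ChartVan.IsTwist r (gE b i)
    (Omega.conormal (i.ker.comap b).subschemeι) 1 := by
  have : Smooth (i ≫ p) := hZ.smooth
  have : Smooth p := SmoothOfRelativeDimension.smooth (n := m + (r + 1)) _
  have hi : Mor2.IsRegularClosedImmersion i := K935.SmoothImm.isRegularClosedImmersion i p
  exact isTwist_of_projBundle (Groth.Agent.Krr.H496.ExcBundle.isProjBundle_exc hi hb (isPullback_gE b i))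
    (rank_conormal i p m r)

theorem c_conormal : c (Omega.conormal (i.ker.comap b).subschemeι) =
    c ((Scheme.Modules.pullback (i.ker.comap b).subschemeι).obj (ClSub.idealMod (i.ker.comap b))) := by
  have h := (i.ker.comap b).ker_subschemeι
  rw [Omega.conormal, h]

include hb p m hZ in
/-- `R^q g_* (M^a|_E ⊗ g^* G) = 0` for `1 ≤ a ≤ r` and all `q`, or `q ≥ 1` and `a ≤ r`. -/
theorem isZero_exc {M : X'.Modules} (hM : FlatMod.IsFinLocFree M)
    (hMI : c M * c (ClSub.idealMod (i.ker.comap b)) = 1) {a : ℕ} (ha' : a ≤ r)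
    {G : Z.Modules} (hG : FlatMod.IsFinLocFree G) {F : (i.ker.comap b).subscheme.Modules}
    (hF : c F = c ((Scheme.Modules.pullback (i.ker.comap b).subschemeι).obj M) ^ a *
      c ((Scheme.Modules.pullback (gE b i)).obj G)) (q : ℕ) (hq : 1 ≤ a ∨ 1 ≤ q) :
    IsZero ((Coh.Rpush (gE b i) q).obj F) := by
  have : IsLocallyNoetherian X := LocallyOfFiniteType.isLocallyNoetherian p
  have := isProper_gE b i hb
  have h1 : c (Omega.conormal (i.ker.comap b).subschemeι) *
      c ((Scheme.Modules.pullback (i.ker.comap b).subschemeι).obj M) = 1 := by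
    rw [c_conormal, mul_comm, ← c_pull_tensor _ hM]
    exact (c_pull_iso _ (show c (CohB1.tensorMod M (ClSub.idealMod (i.ker.comap b))) = c (Coh.structureModule X')
      from hMI)).trans (c_pull_unit _)
  have h2 := Groth.Agent.PerfB.FlatPull.isFinLocFree_pullback (i.ker.comap b).subschemeι hM
  rcases hq with hq | hq
  · exact isZero_pow (isTwist p b i m r hb) h1 h2 hq ha' hG hF q
  · exact isZero_pos (isTwist p b i m r hb) h1 h2 ha' hG hF q hq

include hb p m hZ in
theorem van_exc {M : X'.Modules} (hM : FlatMod.IsFinLocFree M)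
    (hMI : c M * c (ClSub.idealMod (i.ker.comap b)) = 1) {a : ℕ} (ha : 1 ≤ a) (ha' : a ≤ r)
    {G : Z.Modules} (hG : FlatMod.IsFinLocFree G) {F : (i.ker.comap b).subscheme.Modules}
    (hF : c F = c ((Scheme.Modules.pullback (i.ker.comap b).subschemeι).obj M) ^ a *
      c ((Scheme.Modules.pullback (gE b i)).obj G)) (q : ℕ) : Van F q :=
  van_of_isZero (gE b i) k (i ≫ p) F (fun q => isZero_exc p b i m r hb hM hMI ha' hG hF q (Or.inl ha)) q

end Exc

section Omega

variable {k : Type u} [Field k] {X X' Z : Scheme.{u}} [X.Over (Spec (CommRingCat.of k))]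
  [X'.Over (Spec (CommRingCat.of k))] (b : X' ⟶ X) (i : Z ⟶ X) [IsClosedImmersion i]
  (hbk : b ≫ (X ↘ Spec (CommRingCat.of k)) = X' ↘ Spec (CommRingCat.of k))
  (m r : ℕ) [SmoothOfRelativeDimension (m + (r + 1)) (X ↘ Spec (CommRingCat.of k))]
  [hZ : SmoothOfRelativeDimension m (i ≫ (X ↘ Spec (CommRingCat.of k)))]
  [IsIntegral X] [IsIntegral X'] [IsProper (X ↘ Spec (CommRingCat.of k))] (hb : BlowUp.IsBlowUp b i.ker)
  [(i.ker.comap b).subscheme.Over (Spec (CommRingCat.of k))]
  (hE : (i.ker.comap b).subschemeι ≫ (X' ↘ Spec (CommRingCat.of k)) =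
    (i.ker.comap b).subscheme ↘ Spec (CommRingCat.of k))

include hbk m r hZ hb hE in
/-- **`h^{1,q}` of a blow-up.** -/
theorem hd_omega (hr : 1 ≤ r) (q : ℕ) : hd k (Omega.sheaf (X' ↘ Spec (CommRingCat.of k))) q =
    hd k (Omega.sheaf (X ↘ Spec (CommRingCat.of k))) q + hd k (Omega.sheaf (gE b i)) q := by
  have : IsLocallyNoetherian X := LocallyOfFiniteType.isLocallyNoetherian (X ↘ Spec (CommRingCat.of k))
  have hpb := isProper_b b i hb
  have hpg := isProper_gE b i hb
  have hsg := smooth_of_twist (isTwist (X ↘ Spec (CommRingCat.of k)) b i m r hb)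
  have hsg' : Smooth (gE b i) := hsg.smooth
  have hpX' : IsProper (X' ↘ Spec (CommRingCat.of k)) := by rw [← hbk]; infer_instance
  have hpE : IsProper ((i.ker.comap b).subscheme ↘ Spec (CommRingCat.of k)) := by rw [← hE]; infer_instance
  have hsX' : SmoothOfRelativeDimension (m + (r + 1)) (X' ↘ Spec (CommRingCat.of k)) := by
    rw [← hbk]
    exact Groth.Agent.Lefpen.H709.Geo.smooth_blowUp (X ↘ Spec (CommRingCat.of k)) i.ker m r inferInstance
      (smooth_ker i _ m) hb
  have hΩ := Groth.Agent.Vancyc.H878.OmegaRank.isFinLocFreeOfRank_omega (m + (r + 1)) (X ↘ Spec (CommRingCat.of k))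
  have hΩ' := Groth.Agent.Vancyc.H878.OmegaRank.isFinLocFreeOfRank_omega (m + (r + 1)) (X' ↘ Spec (CommRingCat.of k))
  have hΩf := Groth.Agent.Krr.H487.KerRank.isFinLocFree_of_rank hΩ
  have hΩf' := Groth.Agent.Krr.H487.KerRank.isFinLocFree_of_rank hΩ'
  have hbΩ := Groth.Agent.PerfB.FlatPull.isFinLocFree_pullback b hΩf
  have hI := inv_idealMod b i hb
  obtain ⟨M, hM, hM'⟩ := Groth.Agent.Grpsch.PicGrp.exists_inverse hI
  have hMI : c M * c (ClSub.idealMod (i.ker.comap b)) = 1 := by
    rw [mul_comm, ← c_tensor, ← c_unit, c_eq_iff]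
    exact hM'
  have hMf := flf_of_inv hM
  have hSE := BlowCot.shortExact (X ↘ Spec (CommRingCat.of k)) (X' ↘ Spec (CommRingCat.of k)) b hbk
    (i.ker.comap b).subschemeι (gE b i) i (isPullback_gE b i).w hΩ hΩ'
    (fun x => BlowGC.exists_gc _ _ b _ hb (Scheme.IdealSheafData.ker_subschemeι _) x)
  rw [Twist.hd_twist (i.ker.comap b) (flf_of_inv hI) hMf hMI _ _ _ hSE hbΩ (finD_flf hbΩ) ?_ ?_ q,
    hd_pullback b i hbk m r hb hΩf, hd_push k _ hE]
  · intro q
    exact finD_push _ hE (finD_flf (Groth.Agent.Vancyc.H878.OmegaRank.isFinLocFree_omega (gE b i)) q)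
  · intro q
    refine van_exc (X ↘ Spec (CommRingCat.of k)) b i m r hb hMf hMI le_rfl hr
      (Groth.Agent.PerfB.FlatPull.isFinLocFree_pullback i hΩf) ?_ q
    rw [c_pull_tensor _ hMf, pow_one, c_res]

end Omega

end K882.BlowOmega
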