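import Groth.Agent.HodgeNum.K882.BlowTwo
import Groth.Agent.Coherent.K54.HodgePn

/-!
# `h^{1,q}` of the blow-up of a rational point
-/

set_option autoImplicit false
universe u

open CategoryTheory CategoryTheory.Limits AlgebraicGeometry TopologicalSpace Opposite

namespace K882.BlowPt

open K882.Coho K882.IsoMon K882.RelLeray K882.BlowOmega K882.RelDual

section Transport

variable {X Y : Scheme.{u}}

lemma isEquivalence_pushforward (f : X ⟶ Y) [IsIso f] : (Scheme.Modules.pushforward f).IsEquivalence := by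
  let e : X.Modules ≌ Y.Modules :=
    CategoryTheory.Equivalence.mk (Scheme.Modules.pushforward f) (Scheme.Modules.pushforward (inv f))
      ((Scheme.Modules.pushforwardId X).symm ≪≫
        Scheme.Modules.pushforwardCongr (IsIso.hom_inv_id f).symm ≪≫
        (Scheme.Modules.pushforwardComp f (inv f)).symm)
      ((Scheme.Modules.pushforwardComp (inv f) f) ≪≫
        Scheme.Modules.pushforwardCongr (IsIso.inv_hom_id f) ≪≫ Scheme.Modules.pushforwardId Y)
  exact inferInstanceAs e.functor.IsEquivalence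

lemma nonempty_push_pull (f : X ⟶ Y) [IsIso f] (M : Y.Modules) :
    Nonempty ((Scheme.Modules.pushforward f).obj ((Scheme.Modules.pullback f).obj M) ≅ M) := by
  have := isEquivalence_pushforward f
  have := (Scheme.Modules.pullbackPushforwardAdjunction f).isEquivalence_left_of_isEquivalence_right
  exact ⟨(asIso ((Scheme.Modules.pullbackPushforwardAdjunction f).unit.app M)).symm⟩

variable (k : Type u) [Field k] [X.Over (Spec (CommRingCat.of k))] [Y.Over (Spec (CommRingCat.of k))]

/-- Cohomology is invariant under isomorphisms over `k`. -/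
theorem hd_pull_iso (f : X ⟶ Y) [IsIso f]
    (hf : f ≫ (Y ↘ Spec (CommRingCat.of k)) = X ↘ Spec (CommRingCat.of k)) (M : Y.Modules) (n : ℕ) :
    hd k ((Scheme.Modules.pullback f).obj M) n = hd k M n := by
  obtain ⟨e⟩ := nonempty_push_pull f M
  rw [← hd_push k f hf]
  exact hd_iso ⟨e⟩ n

end Transport

/-- A locally free module on the spectrum of a field is free. -/
theorem nonempty_free_of_field {K : Type u} [Field K] {n : ℕ} {V : (Spec (CommRingCat.of K)).Modules}
    (hV : FlatMod.IsFinLocFreeOfRank n V) : Nonempty (V ≅ FlatMod.freeMod (Spec (CommRingCat.of K)) n) := by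
  let y : (Spec (CommRingCat.of K) : Scheme.{u}) := IsLocalRing.closedPoint K
  obtain ⟨U, hU, b, hb⟩ := (Groth.Agent.Krr.H487.KerRank.isFinLocFreeOfRank_iff _).mp hV y
  have hy : ∀ z : (Spec (CommRingCat.of K) : Scheme.{u}), z = y := fun z =>
    Subsingleton.elim (α := PrimeSpectrum K) z y
  have hU' : U = ⊤ := by
    rw [eq_top_iff]
    intro z _
    rw [hy z]
    exact hU
  subst hU'
  exact Groth.Agent.Sga67.LocBasis.nonempty_iso_free hb

/-- A projective bundle over a field. -/
theorem exists_iso_projSpace {K : Type u} [Field K] {r : ℕ} {P : Scheme.{u}} {π : P ⟶ Spec (CommRingCat.of K)}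
    {V : (Spec (CommRingCat.of K)).Modules} {O1 : P.Modules} {q : (Scheme.Modules.pullback π).obj V ⟶ O1}
    (B : KRR.IsProjBundle π V O1 q) (hV : FlatMod.IsFinLocFreeOfRank (r + 1) V) :
    ∃ e : CohB1.ProjSpace r K ⟶ P, IsIso e ∧ e ≫ π = CohB1.ProjSpace.toSpec r K ∧
      Nonempty ((Scheme.Modules.pullback e).obj O1 ≅ Twist.twistProjSpace r K 1) := by
  obtain ⟨τ⟩ := nonempty_free_of_field hV
  obtain ⟨j, hj, hO⟩ := Groth.Agent.Krr.H484.PBCharts.exists_chart B (𝟙 (Spec (CommRingCat.of K)))
    ((Scheme.Modules.pullbackId _).app _ ≪≫ τ)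
  refine ⟨j, ?_, ?_, hO⟩
  · exact MorphismProperty.of_isPullback (P := MorphismProperty.isomorphisms Scheme) hj.flip
      (MorphismProperty.isomorphisms.infer_property _)
  · rw [hj.w, Category.comp_id]

/-- Cohomology of the differentials of a projective bundle over a field. -/
theorem hd_omega_projBundle {K : Type u} [Field K] {r : ℕ} {P : Scheme.{u}} [P.Over (Spec (CommRingCat.of K))]
    {V : (Spec (CommRingCat.of K)).Modules} {O1 : P.Modules}
    {q : (Scheme.Modules.pullback (P ↘ Spec (CommRingCat.of K))).obj V ⟶ O1}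
    (B : KRR.IsProjBundle (P ↘ Spec (CommRingCat.of K)) V O1 q) (hV : FlatMod.IsFinLocFreeOfRank (r + 1) V)
    (hr : 1 ≤ r) (q : ℕ) : hd K (Omega.sheaf (P ↘ Spec (CommRingCat.of K))) q = if q = 1 then 1 else 0 := by
  obtain ⟨e, he, he', -⟩ := exists_iso_projSpace B hV
  let _ : (CohB1.ProjSpace r K).Over (Spec (CommRingCat.of K)) := ⟨CohB1.ProjSpace.toSpec r K⟩
  have hsep : IsSeparated (P ↘ Spec (CommRingCat.of K)) := by
    rw [show P ↘ Spec (CommRingCat.of K) = inv e ≫ CohB1.ProjSpace.toSpec r K by rw [IsIso.eq_inv_comp, he']]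
    infer_instance
  have hsq : IsPullback e (CohB1.ProjSpace.toSpec r K) (P ↘ Spec (CommRingCat.of K)) (𝟙 _) :=
    IsPullback.of_horiz_isIso ⟨by rw [he', Category.comp_id]⟩
  have e1 := Groth.Agent.Vancyc.H878.RelOmega.omegaBC hsq
  rw [← hd_pull_iso K e he' _ q, hd_iso ⟨e1⟩ q]
  have h1 := Groth.Agent.Sga67.TensorOps.isExtPow_one (Omega.sheaf (CohB1.ProjSpace.toSpec r K))
  split_ifs with h
  · subst h
    obtain ⟨E⟩ := K54.HodgePn.diagonal 1 hr _ h1
    have := LinearEquiv.finrank_eq E
    rw [Module.finrank_self] at this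
    exact this
  · exact hd_of_van (K54.HodgePn.vanish 1 _ h1 q (Or.inl (Ne.symm h)))

variable {k : Type u} [Field k] {X X' : Scheme.{u}} [X.Over (Spec (CommRingCat.of k))]
  [X'.Over (Spec (CommRingCat.of k))] (b : X' ⟶ X) (i : Spec (CommRingCat.of k) ⟶ X) [IsClosedImmersion i]
  (hbk : b ≫ (X ↘ Spec (CommRingCat.of k)) = X' ↘ Spec (CommRingCat.of k))
  (hik : i ≫ (X ↘ Spec (CommRingCat.of k)) = 𝟙 _)
  [IsIntegral X] [IsIntegral X'] [IsProper (X ↘ Spec (CommRingCat.of k))] (hb : BlowUp.IsBlowUp b i.ker)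
  (r : ℕ) [SmoothOfRelativeDimension (r + 1) (X ↘ Spec (CommRingCat.of k))]

include hbk hik hb

/-- **`h^{1,q}` of the blow-up of a rational point.** -/
theorem hd_omega_point (hr : 1 ≤ r) (q : ℕ) : hd k (Omega.sheaf (X' ↘ Spec (CommRingCat.of k))) q =
    hd k (Omega.sheaf (X ↘ Spec (CommRingCat.of k))) q + if q = 1 then 1 else 0 := by
  have hl : IsLocallyNoetherian X := LocallyOfFiniteType.isLocallyNoetherian (X ↘ Spec (CommRingCat.of k))
  have hX : SmoothOfRelativeDimension (0 + (r + 1)) (X ↘ Spec (CommRingCat.of k)) := by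
    rw [Nat.zero_add]; infer_instance
  have hZ : SmoothOfRelativeDimension 0 (i ≫ (X ↘ Spec (CommRingCat.of k))) := by rw [hik]; infer_instance
  have hg : gE b i = (i.ker.comap b).subschemeι ≫ (X' ↘ Spec (CommRingCat.of k)) := by
    rw [← hbk, ← Category.assoc, (isPullback_gE b i).w, Category.assoc, hik, Category.comp_id]
  let _ : (i.ker.comap b).subscheme.Over (Spec (CommRingCat.of k)) := ⟨gE b i⟩
  have hi : Mor2.IsRegularClosedImmersion i := isRegular (k := k) i 0 r
  rw [hd_omega b i hbk 0 r hb hg.symm hr q]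
  congr 1
  exact hd_omega_projBundle (P := (i.ker.comap b).subscheme)
    (Groth.Agent.Krr.H496.ExcBundle.isProjBundle_exc hi hb (isPullback_gE b i))
    (rank_conormal i (X ↘ Spec (CommRingCat.of k)) 0 r) hr q

end K882.BlowPt
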