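import Groth.Agent.HodgeNum.K882.RelLeray
import Groth.Agent.Krr.H471.ChartTwist
import Groth.Agent.Krr.H484.PBCharts
import Groth.Agent.Krr.H496.ExcBundle
import Groth.Agent.Krr.H470.BlowMain
import Groth.Agent.Sga5.ProjSmooth

/-!
# Vanishing on the exceptional divisor of a blow-up

`i : Z ⟶ X` a regular closed immersion of codimension `r + 1`, `b : X' ⟶ X` the blow-up of `X` in `Z`, `E` the
exceptional divisor, `N` the inverse of `I_E|_E`: `H^q(E, N^a ⊗ g^* G) = 0` for all `q` and `1 ≤ a ≤ r`.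
-/

set_option autoImplicit false
universe u

open CategoryTheory CategoryTheory.Limits AlgebraicGeometry TopologicalSpace Opposite
open Groth.Agent.Krr.H471.ChartVan Groth.Agent.Krr.H471.ChartTwist

namespace K882.BlowVan

open K882.Coho K882.IsoMon K882.RelLeray

theorem isTwist_of_projBundle {P S : Scheme.{u}} {r : ℕ} {π : P ⟶ S} {V : S.Modules} {O1 : P.Modules}
    {q : (Scheme.Modules.pullback π).obj V ⟶ O1} (B : KRR.IsProjBundle π V O1 q)
    (hV : FlatMod.IsFinLocFreeOfRank (r + 1) V) : IsTwist r π O1 1 := by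
  intro x
  obtain ⟨W, hW, hx, ⟨τ⟩⟩ := Groth.Agent.Krr.H484.PBCharts.exists_triv hV x
  obtain ⟨j, hj, e⟩ := Groth.Agent.Krr.H484.PBCharts.exists_chart B (A := Γ(S, W)) hW.fromSpec τ
  refine ⟨{ A := Γ(S, W), h := hW.fromSpec, c := j, isPullback := hj }, ?_, e⟩
  rw [hW.range_fromSpec]
  exact hx

/-- A morphism with charts `P^r` is smooth of relative dimension `r`. -/
theorem smooth_of_twist {P S : Scheme.{u}} {r : ℕ} {π : P ⟶ S} {N : P.Modules} {a : ℤ} (h : IsTwist r π N a) :
    SmoothOfRelativeDimension r π := by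
  choose C hC _ using h
  have hop : ∀ x : S, IsOpenImmersion (C x).h := fun x => (C x).isOpenImmersion
  let 𝒰 : S.OpenCover := Scheme.Cover.mkOfCovers S (fun x => Spec (CommRingCat.of (C x).A)) (fun x => (C x).h)
    (fun x => by
      obtain ⟨y, hy⟩ := hC x
      exact ⟨x, y, hy⟩) (fun x => (C x).isOpenImmersion)
  apply IsZariskiLocalAtTarget.of_openCover (P := @SmoothOfRelativeDimension r) 𝒰
  intro x
  have hj := (C x).isPullback
  change SmoothOfRelativeDimension r (pullback.snd π (C x).h)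
  rw [← hj.isoPullback_inv_snd]
  have h1 : SmoothOfRelativeDimension (0 + r) (hj.isoPullback.inv ≫
      CohB1.ProjSpace.toSpec r (C x).A) := inferInstance
  rwa [zero_add] at h1

theorem c_W {P : Scheme.{u}} (N : P.Modules) (a : ℕ) : c (W N a) = c N ^ a := by
  induction a with
  | zero => rw [pow_zero]; rfl
  | succ a ih => rw [pow_succ', ← ih]; rfl

variable {P S : Scheme.{u}} {π : P ⟶ S} [QuasiCompact π] [QuasiSeparated π] {r : ℕ} {O1 N : P.Modules}

theorem isZero_pow (hT : IsTwist r π O1 1) (hN : c O1 * c N = 1) (hN' : FlatMod.IsFinLocFree N) {a : ℕ}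
    (ha : 1 ≤ a) (ha' : a ≤ r) {G : S.Modules} (hG : FlatMod.IsFinLocFree G) {F : P.Modules}
    (hF : c F = c N ^ a * c ((Scheme.Modules.pullback π).obj G)) (q : ℕ) :
    IsZero ((Coh.Rpush π q).obj F) := by
  obtain ⟨e⟩ := c_eq_iff.1 (show c (CohB1.tensorMod O1 N) = c (Coh.structureModule P) from hN)
  have h1 := isZero_Rpush (isTwist_W hT e a) (isFinLocFree_W hN' a) hG q (Or.inr ⟨by omega, by omega⟩)
  obtain ⟨e2⟩ := c_eq_iff.1 (show c F = c (CohB1.tensorMod (W N a) ((Scheme.Modules.pullback π).obj G)) by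
    rw [c_tensor, c_W, hF])
  exact h1.of_iso ((Coh.Rpush π q).mapIso e2)

theorem isZero_pos (hT : IsTwist r π O1 1) (hN : c O1 * c N = 1) (hN' : FlatMod.IsFinLocFree N) {a : ℕ}
    (ha' : a ≤ r) {G : S.Modules} (hG : FlatMod.IsFinLocFree G) {F : P.Modules}
    (hF : c F = c N ^ a * c ((Scheme.Modules.pullback π).obj G)) (q : ℕ) (hq : 1 ≤ q) :
    IsZero ((Coh.Rpush π q).obj F) := by
  obtain ⟨e⟩ := c_eq_iff.1 (show c (CohB1.tensorMod O1 N) = c (Coh.structureModule P) from hN)
  have h1 := isZero_Rpush (isTwist_W hT e a) (isFinLocFree_W hN' a) hG q (Or.inl ⟨hq, by omega⟩)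
  obtain ⟨e2⟩ := c_eq_iff.1 (show c F = c (CohB1.tensorMod (W N a) ((Scheme.Modules.pullback π).obj G)) by
    rw [c_tensor, c_W, hF])
  exact h1.of_iso ((Coh.Rpush π q).mapIso e2)

end K882.BlowVan
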