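import Groth.Agent.HodgeNum.K882.Coho

/-!
# The dimension count of the long exact sequence

`rk k hS q` is the rank of the connecting map `H^q(S₃) → H^{q+1}(S₁)`; `hd_les_zero`, `hd_les_succ` are the dimension
formulas; `rk_of_section`: the rank is zero for a sequence with a section.
-/

set_option autoImplicit false
universe u

open CategoryTheory CategoryTheory.Limits AlgebraicGeometry
open Groth.Agent.FormalB.HHLin

namespace K882.Coho

section LinAlg

variable {k : Type u} [Field k] {A B C : Type u} [AddCommGroup A] [Module k A] [AddCommGroup B] [Module k B]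
  [AddCommGroup C] [Module k C]

/-- dimension of the middle term -/
theorem finrank_mid (f : A →ₗ[k] B) (g : B →ₗ[k] C) (h : Function.Exact f g) [Module.Finite k B] :
    Module.finrank k B = Module.finrank k (LinearMap.range f) + Module.finrank k (LinearMap.range g) := by
  rw [← LinearMap.finrank_range_add_finrank_ker g, (LinearMap.exact_iff.mp h), Nat.add_comm]

end LinAlg

variable {X : Scheme.{u}} {k : Type u} [Field k] [X.Over (Spec (CommRingCat.of k))]
variable {S : ShortComplex X.Modules} (hS : S.ShortExact)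

/-- the rank of the connecting map -/
noncomputable def rk (k : Type u) [Field k] [X.Over (Spec (CommRingCat.of k))] {S : ShortComplex X.Modules}
    (hS : S.ShortExact) (q : ℕ) : ℕ := Module.finrank k (LinearMap.range (dl k hS q).hom)

theorem finite_mid {A B C : Type u} [AddCommGroup A] [Module k A] [AddCommGroup B] [Module k B]
    [AddCommGroup C] [Module k C] (f : A →ₗ[k] B) (g : B →ₗ[k] C) (h : Function.Exact f g)
    [Module.Finite k A] [Module.Finite k C] : Module.Finite k B := by
  have h1 : Module.Finite k (LinearMap.range f) := inferInstance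
  have h2 : Module.Finite k (LinearMap.range g) := inferInstance
  rw [← LinearMap.exact_iff.mp h] at h1
  have h3 : Module.Finite k (B ⧸ LinearMap.ker g) := Module.Finite.equiv g.quotKerEquivRange.symm
  exact Module.Finite.of_submodule_quotient (LinearMap.ker g)

include hS in
theorem finD₂ (q : ℕ) (h1 : FinD k S.X₁ q) (h3 : FinD k S.X₃ q) : FinD k S.X₂ q := by
  rw [finD_iff] at *
  exact finite_mid _ _ (exact_fg hS q)

theorem rk_le₃ (q : ℕ) (h3 : FinD k S.X₃ q) : rk k hS q ≤ hd k S.X₃ q := by
  rw [finD_iff] at h3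
  exact LinearMap.finrank_range_le _

theorem rk_le₁ (q : ℕ) (h1 : FinD k S.X₁ (q + 1)) : rk k hS q ≤ hd k S.X₁ (q + 1) := by
  rw [finD_iff] at h1
  exact Submodule.finrank_le _

theorem rk_of_van₃ (q : ℕ) (h : Van S.X₃ q) : rk k hS q = 0 := by
  rw [van_iff (k := k)] at h
  have : (dl k hS q).hom = 0 := by
    ext x
    rw [Subsingleton.elim x 0, map_zero, map_zero]
  rw [rk, this, LinearMap.range_zero, finrank_bot]

theorem rk_of_van₁ (q : ℕ) (h : Van S.X₁ (q + 1)) : rk k hS q = 0 := by
  rw [van_iff (k := k)] at h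
  have : (dl k hS q).hom = 0 := by
    ext x
    exact Subsingleton.elim _ _
  rw [rk, this, LinearMap.range_zero, finrank_bot]

theorem rk_of_section (σ : S.X₃ ⟶ S.X₂) (hσ : σ ≫ S.g = 𝟙 _) (q : ℕ) : rk k hS q = 0 := by
  have : (dl k hS q).hom = 0 := by
    refine LinearMap.ext fun x => ?_
    have h1 : ((HF k q).map S.g).hom (((HF k q).map σ).hom x) = x := by
      rw [← LinearMap.comp_apply, ← ModuleCat.hom_comp, ← CategoryTheory.Functor.map_comp, hσ,
        CategoryTheory.Functor.map_id]
      rfl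
    have h2 := (exact_gd hS q x).mpr ⟨_, h1⟩
    rw [h2, LinearMap.zero_apply]
  rw [rk, this, LinearMap.range_zero, finrank_bot]

theorem hd_les_zero (h1 : FinD k S.X₁ 0) (h2 : FinD k S.X₂ 0) (h3 : FinD k S.X₃ 0) :
    hd k S.X₂ 0 + rk k hS 0 = hd k S.X₁ 0 + hd k S.X₃ 0 := by
  rw [finD_iff] at h1 h2 h3
  have e1 : Module.finrank k (LinearMap.range ((HF k 0).map S.f).hom) = hd k S.X₁ 0 :=
    LinearMap.finrank_range_of_inj (injective_f_zero hS)
  have e2 := finrank_mid _ _ (exact_fg (k := k) hS 0)
  have e3 := finrank_mid _ _ (exact_gd (k := k) hS 0)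
  rw [hd_eq (k := k) S.X₂, hd_eq (k := k) S.X₃, e2, e3, e1, rk]
  omega

theorem hd_les_succ (q : ℕ) (h1 : FinD k S.X₁ (q + 1)) (h2 : FinD k S.X₂ (q + 1)) (h3 : FinD k S.X₃ (q + 1)) :
    hd k S.X₂ (q + 1) + rk k hS q + rk k hS (q + 1) = hd k S.X₁ (q + 1) + hd k S.X₃ (q + 1) := by
  rw [finD_iff] at h1 h2 h3
  have e1 := finrank_mid _ _ (exact_df (k := k) hS q)
  have e2 := finrank_mid _ _ (exact_fg (k := k) hS (q + 1))
  have e3 := finrank_mid _ _ (exact_gd (k := k) hS (q + 1))
  rw [hd_eq (k := k) S.X₁, hd_eq (k := k) S.X₂, hd_eq (k := k) S.X₃, e1, e2, e3, rk, rk]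
  omega

include hS in
/-- additivity for a sequence with a section -/
theorem hd_of_section (σ : S.X₃ ⟶ S.X₂) (hσ : σ ≫ S.g = 𝟙 _) (q : ℕ) (h1 : FinD k S.X₁ q) (h3 : FinD k S.X₃ q) :
    hd k S.X₂ q = hd k S.X₁ q + hd k S.X₃ q := by
  have h2 := finD₂ hS q h1 h3
  cases q with
  | zero =>
    have := hd_les_zero hS h1 h2 h3
    rw [rk_of_section hS σ hσ] at this
    omega
  | succ q =>
    have := hd_les_succ hS q h1 h2 h3
    rw [rk_of_section hS σ hσ, rk_of_section hS σ hσ] at this
    omega

end K882.Coho
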