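import Groth.Agent.Dual.H366.Conormal
import Groth.Agent.FormalB.ModPowAff2
import Groth.Agent.Krr.H478.EpiIso
import Groth.Agent.Vancyc.H878.OmegaRank
import Groth.Agent.Mor.K386.VeryAmple
import Groth.Agent.Variety.K430.FrobDer
import Groth.Agent.Krr.H495.Rank
import Groth.Agent.Vancyc.H878.Triv

/-!
# Differentials of a product

`pm s w v h : s^* Ω_w ⟶ Ω_v` for `s ≫ w = v`, with `pm_sec_d`; `isIso_desc`: `p₁^* Ω_f ⊞ p₂^* Ω_g ⟶ Ω_{X ×_S Y}` is an
isomorphism for `f`, `g` smooth of given relative dimensions, `S` affine.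
-/

set_option autoImplicit false
universe u

open CategoryTheory CategoryTheory.Limits AlgebraicGeometry TopologicalSpace Opposite

namespace K882.OmegaProd

open Groth.Agent.PerfA.IdealModule Groth.Agent.VarietyB Groth.Agent.Sga67.Sec
open Groth.Agent.CurvesB.OmegaDer (d d_mul d_res der der_apply algX modO isScalarTower bijective_lift)
open Groth.Agent.Dual.H366.Conormal

section Pm

variable {P W Y : Scheme.{u}} (s : P ⟶ W) (w : W ⟶ Y) (v : P ⟶ Y) (h : s ≫ w = v)
  [QuasiCompact (pullback.diagonal w)] [hv : QuasiCompact (pullback.diagonal v)]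

/-- `s^* Ω_w ⟶ Ω_v` for `s ≫ w = v`. -/
noncomputable def pm : (Scheme.Modules.pullback s).obj (Omega.sheaf w) ⟶ Omega.sheaf v :=
  haveI : QuasiCompact (pullback.diagonal (s ≫ w)) := by rw [h]; exact hv
  pMap s w ≫ eqToHom (by rw [h])

theorem pm_sec_d (V : W.Opens) (a : Γ(W, V)) :
    appS (pm s w v h) (s ⁻¹ᵁ V) (PullSec.sec s (Omega.sheaf w) (le_refl (s ⁻¹ᵁ V)) (d w V a)) =
      d v (s ⁻¹ᵁ V) (s.app V a) := by
  subst h
  rw [← pMap_sec_d s w V a, pm]
  simp only [eqToHom_refl, Category.comp_id]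

/-- The derivation of a pulled back function, restricted. -/
theorem d_appLE_mem_range (V : W.Opens) (O : P.Opens) (hO : O ≤ s ⁻¹ᵁ V) (a : Γ(W, V)) :
    d v O (s.appLE V O hO a) ∈ LinearMap.range (appS (pm s w v h) O) := by
  refine ⟨res _ hO (PullSec.sec s (Omega.sheaf w) (le_refl (s ⁻¹ᵁ V)) (d w V a)), ?_⟩
  rw [appS_res, pm_sec_d]
  have h2 : res (Omega.sheaf v) hO (d v (s ⁻¹ᵁ V) (s.app V a)) = d v O (resO P hO (s.app V a)) := d_res v _ _
  rw [h2]
  rfl

end Pm

/-- The functions whose derivative lies in a submodule. -/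
def sub {P Y : Scheme.{u}} (v : P ⟶ Y) [QuasiCompact (pullback.diagonal v)] (O : P.Opens)
    (N : Submodule Γ(P, O) (Sec (Omega.sheaf v) O)) : Subring Γ(P, O) where
  carrier := {c | (d v O c : Sec (Omega.sheaf v) O) ∈ N}
  mul_mem' := by
    intro a b ha hb
    change d v O (a * b) ∈ N
    rw [d_mul]
    exact N.add_mem (N.smul_mem _ hb) (N.smul_mem _ ha)
  one_mem' := by
    change d v O 1 ∈ N
    have h1 : d v O 1 = (1 : Γ(P, O)) • d v O 1 + (1 : Γ(P, O)) • d v O 1 := by
      rw [← d_mul, one_mul]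
    rw [one_smul] at h1
    have h2 : d v O 1 = 0 := left_eq_add.mp h1
    rw [h2]
    exact N.zero_mem
  add_mem' := by
    intro a b ha hb
    change d v O (a + b) ∈ N
    rw [map_add]
    exact N.add_mem ha hb
  zero_mem' := by
    change d v O 0 ∈ N
    rw [map_zero]
    exact N.zero_mem
  neg_mem' := by
    intro a ha
    change d v O (-a) ∈ N
    rw [map_neg]
    exact N.neg_mem ha

section Prod

variable {X Y S : Scheme.{u}} (f : X ⟶ S) (g : Y ⟶ S) (v : pullback f g ⟶ S)
  (h₁ : pullback.fst f g ≫ f = v) (h₂ : pullback.snd f g ≫ g = v)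
  [QuasiCompact (pullback.diagonal f)] [QuasiCompact (pullback.diagonal g)] [QuasiCompact (pullback.diagonal v)]

/-- `p₁^* Ω_f ⊞ p₂^* Ω_g ⟶ Ω_{X ×_S Y}` -/
noncomputable def desc : (Scheme.Modules.pullback (pullback.fst f g)).obj (Omega.sheaf f) ⊞
    (Scheme.Modules.pullback (pullback.snd f g)).obj (Omega.sheaf g) ⟶ Omega.sheaf v :=
  biprod.desc (pm (pullback.fst f g) f v h₁) (pm (pullback.snd f g) g v h₂)

theorem range_le {P : Scheme.{u}} {A B C : P.Modules} (a : A ⟶ B) (b : B ⟶ C) (O : P.Opens) :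
    LinearMap.range (appS (a ≫ b) O) ≤ LinearMap.range (appS b O) := by
  rintro _ ⟨x, rfl⟩
  exact ⟨appS a O x, (appS_comp a b O x).symm⟩

theorem surjective_desc [IsAffine S] {U : X.Opens} (hU : IsAffineOpen U) {V : Y.Opens} (hV : IsAffineOpen V) :
    Function.Surjective (appS (desc f g v h₁ h₂) (pullback.fst f g ⁻¹ᵁ U ⊓ pullback.snd f g ⁻¹ᵁ V)) := by
  set W := pullback.fst f g ⁻¹ᵁ U ⊓ pullback.snd f g ⁻¹ᵁ V with hW
  have hWa : IsAffineOpen W := K386.VeryAmple.isAffineOpen_fst_inf_snd f g hU hV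
  set N := LinearMap.range (appS (desc f g v h₁ h₂) W) with hN
  have hpo := (isIso_pushoutSection_iff (IsPullback.of_hasPullback f g)
    (US := ⊤) (UT := V) (UX := U) le_top le_top (UY := W) rfl).mp
    (isIso_pushoutSection_of_isAffineOpen _ _ _ _ (isAffineOpen_top S) hV hU)
  have hle₁ : LinearMap.range (appS (pm (pullback.fst f g) f v h₁) W) ≤ N := by
    have := range_le biprod.inl (desc f g v h₁ h₂) W
    rwa [desc, biprod.inl_desc] at this
  have hle₂ : LinearMap.range (appS (pm (pullback.snd f g) g v h₂) W) ≤ N := by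
    have := range_le biprod.inr (desc f g v h₁ h₂) W
    rwa [desc, biprod.inr_desc] at this
  have key : ∀ c : Γ(pullback f g, W), (d v W c : Sec (Omega.sheaf v) W) ∈ N := by
    intro c
    refine K430.FrobDer.eq_top_of_isPushout hpo (sub v W N) ?_ ?_ c
    · intro a
      exact hle₁ (d_appLE_mem_range (pullback.fst f g) f v h₁ U W inf_le_left a)
    · intro a
      exact hle₂ (d_appLE_mem_range (pullback.snd f g) g v h₂ V W inf_le_right a)
  have hs := span_d (w := v) ⟨W, hWa, ⊤, isAffineOpen_top S, le_top⟩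
  rw [← LinearMap.range_eq_top, eq_top_iff]
  refine hs.symm.le.trans ?_
  rw [Submodule.span_le]
  rintro _ ⟨c, rfl⟩
  exact key c

theorem epi_desc [IsAffine S] : Epi (desc f g v h₁ h₂) := by
  refine Groth.Agent.FormalB.ModPowAff2.epi_of_affine_cover (Groth.Agent.Vancyc.H878.OmegaRank.isQCoh_omega v) _ ?_
  intro x
  obtain ⟨_, ⟨U, hU, rfl⟩, hxU, -⟩ := X.isBasis_affineOpens.exists_subset_of_mem_open
    (Set.mem_univ (pullback.fst f g x)) isOpen_univ
  obtain ⟨_, ⟨V, hV, rfl⟩, hxV, -⟩ := Y.isBasis_affineOpens.exists_subset_of_mem_open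
    (Set.mem_univ (pullback.snd f g x)) isOpen_univ
  exact ⟨pullback.fst f g ⁻¹ᵁ U ⊓ pullback.snd f g ⁻¹ᵁ V, ⟨hxU, hxV⟩,
    K386.VeryAmple.isAffineOpen_fst_inf_snd f g hU hV, surjective_desc f g v h₁ h₂ hU hV⟩

theorem isIso_desc [IsAffine S] {a b : ℕ} [SmoothOfRelativeDimension a f] [SmoothOfRelativeDimension b g] :
    IsIso (desc f g v h₁ h₂) := by
  have := epi_desc f g v h₁ h₂
  have hv : SmoothOfRelativeDimension (a + b) v := by
    rw [← h₁, Nat.add_comm]
    have hB := smoothOfRelativeDimension_isStableUnderBaseChange b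
    have : SmoothOfRelativeDimension b (pullback.fst f g) :=
      MorphismProperty.pullback_fst (P := @SmoothOfRelativeDimension b) f g ‹_›
    exact smoothOfRelativeDimension_comp b a (pullback.fst f g) f
  refine Groth.Agent.Krr.H478.EpiIso.isIso_of_epi (desc f g v h₁ h₂)
    (Groth.Agent.Krr.H495.Rank.rank_biprod ?_ ?_)
    (Groth.Agent.Vancyc.H878.OmegaRank.isFinLocFreeOfRank_omega (a + b) v)
  · exact Groth.Agent.Vancyc.H878.Triv.isFinLocFreeOfRank_pullback _
      (Groth.Agent.Vancyc.H878.OmegaRank.isFinLocFreeOfRank_omega a f)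
  · exact Groth.Agent.Vancyc.H878.Triv.isFinLocFreeOfRank_pullback _
      (Groth.Agent.Vancyc.H878.OmegaRank.isFinLocFreeOfRank_omega b g)

end Prod

end K882.OmegaProd
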