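import Groth.Agent.Dual.H366.ConSec
import Groth.Agent.HodgeNum.K882.OmegaProd

/-!
# Morphisms out of the differentials given by derivations

* `exists_hom_of_der`: a compatible family of derivations `Γ(W, V) → N(V)` gives `Ω_w ⟶ N`;
* `hom_ext_dS`: a morphism out of `Ω_w` is determined by its values on differentials;
* `qm`: for a commutative square `j ≫ w = g ≫ q` the morphism `Ω_w ⟶ j_* Ω_g`, `d a ↦ d (j^# a)`.
-/

set_option autoImplicit false
universe u

open CategoryTheory CategoryTheory.Limits AlgebraicGeometry TopologicalSpace Opposite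

namespace K882.DerHom

open Groth.Agent.PerfA.IdealModule Groth.Agent.VarietyB Groth.Agent.Sga67.Sec
open Groth.Agent.Dual.H366.Conormal Groth.Agent.Dual.H366.ConSec

section General

variable {W Y : Scheme.{u}} (w : W ⟶ Y) [QuasiCompact (pullback.diagonal w)]

theorem exists_hom_of_der (N : W.Modules) (D : ∀ V : W.Opens, Γ(W, V) →+ Sec N V)
    (hmul : ∀ (V : W.Opens) (a b : Γ(W, V)), D V (a * b) = a • D V b + b • D V a)
    (hres : ∀ {V V' : W.Opens} (h : V' ≤ V) (a : Γ(W, V)), res N h (D V a) = D V' (resO W h a))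
    (hA : ∀ (c : Ch w) (a : Γ(Y, c.T)), D c.V (w.appLE c.T c.V c.e a) = 0) :
    ∃ φ : Omega.sheaf w ⟶ N, ∀ (V : W.Opens) (a : Γ(W, V)), appS φ V (dS w V a) = D V a := by
  choose L hL using fun c : Ch w => exists_liftS c (D c.V) (hmul c.V) (hA c)
  obtain ⟨p', hp'⟩ := exists_hom_of_basis' (isBasis_ch w) (Omega.sheaf w) N L (by
      intro c c' h x
      have hx : x ∈ Submodule.span Γ(W, c.V) (Set.range (dS w c.V)) := by rw [span_dS]; trivial
      induction hx using Submodule.span_induction with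
      | mem x hx =>
        obtain ⟨a, rfl⟩ := hx
        rw [hL, hres, dS_res, hL]
      | zero => simp only [map_zero]
      | add x y _ _ hx hy => simp only [map_add, hx, hy]
      | smul a x _ hx => rw [res_smul, map_smul, map_smul, res_smul, hx])
  refine ⟨p', fun V a => ?_⟩
  apply eq_of_locally
  intro x hx
  obtain ⟨c, hc, hcV⟩ := exists_ch w x V hx
  refine ⟨c.V, hcV, hc, ?_⟩
  rw [← appS_res, dS_res, hp', hL, hres]

theorem hom_ext_dS {N : W.Modules} {φ ψ : Omega.sheaf w ⟶ N}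
    (h : ∀ (V : W.Opens) (a : Γ(W, V)), appS φ V (dS w V a) = appS ψ V (dS w V a)) : φ = ψ := by
  apply hom_ext_of_locally
  intro x U hx
  obtain ⟨c, hc, hcV⟩ := exists_ch w x U hx
  refine ⟨c.V, hcV, hc, fun s => ?_⟩
  have hx : s ∈ Submodule.span Γ(W, c.V) (Set.range (dS w c.V)) := by rw [span_dS]; trivial
  induction hx using Submodule.span_induction with
  | mem x hx =>
    obtain ⟨a, rfl⟩ := hx
    exact h _ a
  | zero => simp only [map_zero]
  | add x y _ _ hx hy => simp only [map_add, hx, hy]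
  | smul a x _ hx => rw [map_smul, map_smul, hx]

/-- Functions from the base have zero differential. -/
theorem dS_base (T : Y.Opens) (V : W.Opens) (e : V ≤ w ⁻¹ᵁ T) (a : Γ(Y, T)) :
    dS w V (w.appLE T V e a) = 0 := by
  apply eq_of_locally
  intro x hx
  obtain ⟨_, ⟨T', hT', rfl⟩, hxT, hTT⟩ :=
    Y.isBasis_affineOpens.exists_subset_of_mem_open (show w x ∈ T from e hx) T.2
  obtain ⟨_, ⟨V', hV', rfl⟩, hxV, hVO⟩ :=
    W.isBasis_affineOpens.exists_subset_of_mem_open (a := x) (u := (V ⊓ w ⁻¹ᵁ T' : W.Opens)) ⟨hx, hxT⟩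
      (V ⊓ w ⁻¹ᵁ T').2
  have h1 : V' ≤ V := fun y hy => (hVO hy).1
  let c : Ch w := ⟨V', hV', T', hT', fun y hy => (hVO hy).2⟩
  refine ⟨V', h1, hxV, ?_⟩
  rw [dS_res, map_zero]
  have h2 : resO W h1 (w.appLE T V e a) = w.appLE T' V' c.e (resO Y (show T' ≤ T from hTT) a) := by
    have h3 := Scheme.Hom.appLE_map w e (homOfLE h1).op
    have h4 := Scheme.Hom.map_appLE w c.e (homOfLE (show T' ≤ T from hTT)).op
    have h5 := h3.trans h4.symm
    exact congr($h5 a)
  rw [h2]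
  exact dS_appLE c _

end General

section Square

variable {E Z W Y : Scheme.{u}} (j : E ⟶ W) (w : W ⟶ Y) (g : E ⟶ Z) (q : Z ⟶ Y) (h : j ≫ w = g ≫ q)
  [QuasiCompact (pullback.diagonal w)] [QuasiCompact (pullback.diagonal g)]

include h in
theorem exists_qm : ∃ φ : Omega.sheaf w ⟶ (Scheme.Modules.pushforward j).obj (Omega.sheaf g),
    ∀ (V : W.Opens) (a : Γ(W, V)), appS φ V (dS w V a) = toPush j (dS g (j ⁻¹ᵁ V) (j.app V a)) := by
  refine exists_hom_of_der w _ (fun V => ⟨⟨fun a => toPush j (dS g (j ⁻¹ᵁ V) (j.app V a)), ?_⟩, ?_⟩) ?_ ?_ ?_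
  · rw [map_zero, map_zero]; rfl
  · intro a b
    change toPush j (dS g (j ⁻¹ᵁ V) (j.app V (a + b))) =
      toPush j (dS g (j ⁻¹ᵁ V) (j.app V a)) + toPush j (dS g (j ⁻¹ᵁ V) (j.app V b))
    rw [map_add, map_add]; rfl
  · intro V a b
    change toPush j (dS g (j ⁻¹ᵁ V) (j.app V (a * b))) =
      a • toPush j (dS g (j ⁻¹ᵁ V) (j.app V b)) + b • toPush j (dS g (j ⁻¹ᵁ V) (j.app V a))
    rw [map_mul, dS_mul, smul_toPush, smul_toPush]
    rfl
  · intro V V' hV a
    change res _ hV (toPush j (dS g (j ⁻¹ᵁ V) (j.app V a))) = toPush j (dS g (j ⁻¹ᵁ V') (j.app V' (resO W hV a)))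
    rw [res_toPush]
    refine (dS_res g (j.preimage_mono hV) (j.app V a)).trans ?_
    congr 1
    exact congr($(j.naturality (homOfLE hV).op) a).symm
  · intro c a
    change toPush j (dS g (j ⁻¹ᵁ c.V) (j.app c.V (w.appLE c.T c.V c.e a))) = 0
    have e1 : j ⁻¹ᵁ c.V ≤ (g ≫ q) ⁻¹ᵁ c.T := by
      rw [← h]
      exact j.preimage_mono c.e
    have e2 : j ⁻¹ᵁ c.V ≤ g ⁻¹ᵁ (q ⁻¹ᵁ c.T) := e1
    have h1 : j.app c.V (w.appLE c.T c.V c.e a) = g.appLE (q ⁻¹ᵁ c.T) (j ⁻¹ᵁ c.V) e2 (q.app c.T a) := by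
      have h2 := Scheme.Hom.appLE_comp_appLE j w c.T c.V (j ⁻¹ᵁ c.V) c.e le_rfl
      have h3 := Scheme.Hom.appLE_comp_appLE g q c.T (q ⁻¹ᵁ c.T) (j ⁻¹ᵁ c.V) le_rfl e2
      have h4 : (j ≫ w).appLE c.T (j ⁻¹ᵁ c.V) (j.preimage_mono c.e) =
          (g ≫ q).appLE c.T (j ⁻¹ᵁ c.V) e1 := by
        simp only [h]
      have h5 := (h2.trans h4).trans h3.symm
      rw [← Scheme.Hom.app_eq_appLE, ← Scheme.Hom.app_eq_appLE] at h5
      exact congr($h5 a)
    rw [h1, dS_base]
    rfl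

/-- `Ω_w ⟶ j_* Ω_g` for a commutative square `j ≫ w = g ≫ q`. -/
noncomputable def qm : Omega.sheaf w ⟶ (Scheme.Modules.pushforward j).obj (Omega.sheaf g) :=
  (exists_qm j w g q h).choose

theorem qm_d (V : W.Opens) (a : Γ(W, V)) :
    appS (qm j w g q h) V (dS w V a) = toPush j (dS g (j ⁻¹ᵁ V) (j.app V a)) :=
  (exists_qm j w g q h).choose_spec V a

end Square

end K882.DerHom
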