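import Mathlib.LinearAlgebra.ExteriorPower.Basic

/-!
# Exterior powers of an elementary modification, algebra

`exists_map_eq_smul`: for `f : A → B` linear, `e : B` with `B = R e + f A` and `t e ∈ f A`, the submodule
`t Λ^(p+1) B` is contained in the image of `Λ^(p+1) A`.
`injective_map`: if `h ∘ f = t` and `t` is injective on `Λ^p A` then `Λ^p f` is injective.
-/

set_option autoImplicit false

open ExteriorAlgebra

namespace K882.ElemAlg

variable {R : Type*} [CommRing R] {A B : Type*} [AddCommGroup A] [Module R A] [AddCommGroup B] [Module R B]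

theorem coe_map_apply (p : ℕ) (f : A →ₗ[R] B) (x : ⋀[R]^p A) :
    ((exteriorPower.map p f x : ⋀[R]^p B) : ExteriorAlgebra R B) = ExteriorAlgebra.map f (x : ExteriorAlgebra R A) := by
  have hx : x ∈ Submodule.span R (Set.range (exteriorPower.ιMulti R p (M := A))) := by
    rw [exteriorPower.ιMulti_span]; trivial
  induction hx using Submodule.span_induction with
  | mem x hx =>
    obtain ⟨w, rfl⟩ := hx
    rw [exteriorPower.map_apply_ιMulti, exteriorPower.ιMulti_apply_coe, exteriorPower.ιMulti_apply_coe]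
    exact (ExteriorAlgebra.map_apply_ιMulti f w).symm
  | zero => simp
  | add x y _ _ hx hy => simp [hx, hy]
  | smul a x _ hx => simp [hx]

theorem mul_le {N E : Submodule R (ExteriorAlgebra R B)} (f : A →ₗ[R] B) (e : B)
    (hN : N = Submodule.map (ι R) (LinearMap.range f)) (hE : E = Submodule.span R {ι R e}) :
    (N ⊔ E) * (N ⊔ E) ≤ N * (N ⊔ E) := by
  rw [Submodule.sup_mul]
  refine sup_le le_rfl ?_
  rw [Submodule.mul_sup]
  refine sup_le ?_ ?_
  · rw [Submodule.mul_le]
    intro x hx y hy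
    rw [hE, Submodule.mem_span_singleton] at hx
    rw [hN] at hy
    obtain ⟨c, rfl⟩ := hx
    obtain ⟨b, hb, rfl⟩ := hy
    have h1 : c • ι R e * ι R b = ι R b * (-c • ι R e) := by
      have h2 : ι R e * ι R b = - (ι R b * ι R e) := by
        rw [eq_neg_iff_add_eq_zero]
        exact ι_add_mul_swap e b
      rw [smul_mul_assoc, h2, mul_smul_comm, neg_smul, smul_neg]
    rw [h1]
    refine Submodule.mul_mem_mul ?_ ?_
    · rw [hN]
      exact ⟨b, hb, rfl⟩
    · refine Submodule.mem_sup_right ?_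
      rw [hE]
      exact Submodule.smul_mem _ _ (Submodule.mem_span_singleton_self _)
  · rw [Submodule.mul_le]
    intro x hx y hy
    rw [hE, Submodule.mem_span_singleton] at hx hy
    obtain ⟨c, rfl⟩ := hx
    obtain ⟨c', rfl⟩ := hy
    rw [smul_mul_smul_comm, ι_sq_zero, smul_zero]
    exact Submodule.zero_mem _

theorem pow_le {N E : Submodule R (ExteriorAlgebra R B)} (f : A →ₗ[R] B) (e : B)
    (hN : N = Submodule.map (ι R) (LinearMap.range f)) (hE : E = Submodule.span R {ι R e}) (p : ℕ) :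
    (N ⊔ E) ^ (p + 1) ≤ N ^ p * (N ⊔ E) := by
  induction p with
  | zero => rw [zero_add, pow_one, pow_zero, one_mul]
  | succ p ih =>
    rw [pow_succ]
    refine (mul_le_mul' ih le_rfl).trans ?_
    rw [mul_assoc, pow_succ, mul_assoc]
    exact mul_le_mul' le_rfl (mul_le f e hN hE)

theorem exists_map_eq_smul (f : A →ₗ[R] B) (e : B) (t : R) (hB : ∀ b : B, ∃ (c : R) (a : A), b = c • e + f a)
    (he : ∃ a, f a = t • e) (p : ℕ) (x : ⋀[R]^(p + 1) B) :
    ∃ y : ⋀[R]^(p + 1) A, exteriorPower.map (p + 1) f y = t • x := by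
  set N : Submodule R (ExteriorAlgebra R B) := Submodule.map (ι R) (LinearMap.range f) with hN
  set E : Submodule R (ExteriorAlgebra R B) := Submodule.span R {ι R e} with hE
  have hr : LinearMap.range (ι R : B →ₗ[R] ExteriorAlgebra R B) = N ⊔ E := by
    refine le_antisymm ?_ (sup_le ?_ ?_)
    · rintro _ ⟨b, rfl⟩
      obtain ⟨c, a, rfl⟩ := hB b
      rw [map_add, add_comm, map_smul]
      exact Submodule.add_mem_sup ⟨f a, ⟨a, rfl⟩, rfl⟩
        (Submodule.smul_mem _ _ (Submodule.mem_span_singleton_self _))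
    · rintro _ ⟨b, -, rfl⟩
      exact ⟨b, rfl⟩
    · rw [Submodule.span_le, Set.singleton_subset_iff]
      exact ⟨e, rfl⟩
  have ht : ∀ z ∈ N ⊔ E, t • z ∈ N := by
    intro z hz
    rw [← hr] at hz
    obtain ⟨b, rfl⟩ := hz
    obtain ⟨c, a, rfl⟩ := hB b
    obtain ⟨a', ha'⟩ := he
    refine ⟨t • (c • e + f a), ?_, by rw [map_smul]⟩
    refine ⟨c • a' + t • a, ?_⟩
    rw [map_add, map_smul, map_smul, ha', smul_add, smul_comm t c e]
  have ht' : ∀ z ∈ N ^ p * (N ⊔ E), t • z ∈ N ^ (p + 1) := by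
    intro z hz
    refine Submodule.mul_induction_on hz ?_ ?_
    · intro m hm n hn
      rw [← mul_smul_comm, pow_succ]
      exact Submodule.mul_mem_mul hm (ht n hn)
    · intro a b ha hb
      rw [smul_add]
      exact Submodule.add_mem _ ha hb
  have h1 : t • (x : ExteriorAlgebra R B) ∈ N ^ (p + 1) := by
    refine ht' _ (pow_le f e hN hE p ?_)
    rw [← hr]
    exact x.2
  have h2 : N ^ (p + 1) = Submodule.map (ExteriorAlgebra.map f).toLinearMap (⋀[R]^(p + 1) A) := by
    have h3 : N = Submodule.map (ExteriorAlgebra.map f).toLinearMap (LinearMap.range (ι R)) := by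
      ext z
      constructor
      · rintro ⟨_, ⟨a, rfl⟩, rfl⟩
        exact ⟨ι R a, ⟨a, rfl⟩, by simp⟩
      · rintro ⟨_, ⟨a, rfl⟩, rfl⟩
        exact ⟨f a, ⟨a, rfl⟩, by simp⟩
    rw [h3]
    exact (Submodule.map_pow (LinearMap.range (ι R)) (ExteriorAlgebra.map f) (p + 1)).symm
  rw [h2] at h1
  obtain ⟨y, hy, hy'⟩ := h1
  refine ⟨⟨y, hy⟩, Subtype.ext ?_⟩
  rw [coe_map_apply]
  exact hy'

theorem map_smul_id (p : ℕ) (t : R) (x : ⋀[R]^p A) :
    exteriorPower.map p (t • (LinearMap.id : A →ₗ[R] A)) x = t ^ p • x := by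
  have hx : x ∈ Submodule.span R (Set.range (exteriorPower.ιMulti R p (M := A))) := by
    rw [exteriorPower.ιMulti_span]; trivial
  induction hx using Submodule.span_induction with
  | mem x hx =>
    obtain ⟨w, rfl⟩ := hx
    rw [exteriorPower.map_apply_ιMulti]
    have h1 : (⇑(t • (LinearMap.id : A →ₗ[R] A)) ∘ w) = fun i => t • w i := rfl
    rw [h1, AlternatingMap.map_smul_univ, Finset.prod_const, Finset.card_univ, Fintype.card_fin]
  | zero => simp
  | add x y _ _ hx hy => rw [map_add, hx, hy, smul_add]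
  | smul a x _ hx => rw [map_smul, hx, smul_comm]

theorem injective_map (p : ℕ) (f : A →ₗ[R] B) (h : B →ₗ[R] A) (t : R) (hfh : ∀ a, h (f a) = t • a)
    (ht : ∀ x : ⋀[R]^p A, t • x = 0 → x = 0) : Function.Injective (exteriorPower.map p f) := by
  rw [injective_iff_map_eq_zero]
  intro x hx
  have h1 : exteriorPower.map p h (exteriorPower.map p f x) = t ^ p • x := by
    rw [← LinearMap.comp_apply, ← exteriorPower.map_comp]
    have h2 : h ∘ₗ f = t • LinearMap.id := LinearMap.ext fun a => hfh a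
    rw [h2, map_smul_id]
  rw [hx, map_zero] at h1
  have h3 : ∀ n : ℕ, t ^ n • x = 0 → x = 0 := by
    intro n
    induction n with
    | zero => intro h; simpa using h
    | succ n ih =>
      intro h
      rw [pow_succ', mul_smul] at h
      exact ih (ht _ h)
  exact h3 p h1.symm

end K882.ElemAlg
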