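import Groth.Agent.HodgeNum.K882.ExtSes2
import Groth.Agent.HodgeNum.K882.ElemAlg
import Groth.Agent.Krr.H487.ExtPull
import Groth.Agent.Sga67.ClosedPush

/-!
# Exterior powers of an elementary modification

Let `j : Z ⟶ X` be a closed immersion whose ideal is locally generated by a non zero divisor, and
`0 → A → B → j_* L → 0` exact, `A` and `B` finite locally free, `L` locally free of rank 1 on `Z`. With
`K = ker (j^* B → L)` the sequence `0 → Λ^(p+1) A → Λ^(p+1) B → j_* (Λ^p K ⊗ L) → 0` is exact.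
-/

set_option autoImplicit false

universe u

open CategoryTheory CategoryTheory.Limits AlgebraicGeometry Opposite TopologicalSpace
open scoped TensorProduct
open Groth.Agent.Sga67.Sec Groth.Agent.Sga67.LocBasis Groth.Agent.Sga67.SesImage
open Groth.Agent.Sga67 Groth.Agent.Sga67.ExtSheaf Groth.Agent.Sga67.ExtClass
open Groth.Agent.Krr.H487.ExtPull Groth.Agent.Krr.H487.LocBasisPull

namespace K882.ElemMod

variable {X Z : Scheme.{u}} (j : Z ⟶ X)

/-- The ideal of `j` is locally generated by a non zero divisor. -/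
def LocPrin : Prop :=
  ∀ x : X, ∃ W : X.Opens, x ∈ W ∧ ∀ V : X.affineOpens, V.1 ≤ W →
    ∃ t ∈ nonZeroDivisors Γ(X, V.1), RingHom.ker (j.app V.1).hom = Ideal.span {t}

section Sections

variable {j}

/-- A morphism into a direct image on sections. -/
noncomputable def secP {M : X.Modules} {N : Z.Modules} (h : M ⟶ (Scheme.Modules.pushforward j).obj N)
    (U : X.Opens) : Sec M U →+ Sec N (j ⁻¹ᵁ U) := (appS h U).toAddMonoidHom

theorem secP_smul {M : X.Modules} {N : Z.Modules} (h : M ⟶ (Scheme.Modules.pushforward j).obj N)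
    {U : X.Opens} (a : Γ(X, U)) (s : Sec M U) : secP h U (a • s) = (j.app U a : Γ(Z, j ⁻¹ᵁ U)) • secP h U s :=
  (appS h U).map_smul a s

theorem secP_res {M : X.Modules} {N : Z.Modules} (h : M ⟶ (Scheme.Modules.pushforward j).obj N)
    {U V : X.Opens} (hV : V ≤ U) (hV' : j ⁻¹ᵁ V ≤ j ⁻¹ᵁ U) (s : Sec M U) :
    secP h V (res M hV s) = res N hV' (secP h U s) :=
  appS_res h hV s

theorem adj_secP {M : X.Modules} {N : Z.Modules} (h : M ⟶ (Scheme.Modules.pushforward j).obj N)
    {U : X.Opens} (s : Sec M U) : appS (adj j h) (j ⁻¹ᵁ U) (pbS j M s) = secP h U s :=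
  adj_pbS j h s

theorem secP_comp {M : X.Modules} {N N' : Z.Modules} (h : M ⟶ (Scheme.Modules.pushforward j).obj N)
    (k : N ⟶ N') (U : X.Opens) (s : Sec M U) :
    secP (h ≫ (Scheme.Modules.pushforward j).map k) U s = appS k (j ⁻¹ᵁ U) (secP h U s) := rfl

variable [IsClosedImmersion j]

theorem surjective_app (j : Z ⟶ X) [IsClosedImmersion j] (W : X.affineOpens) :
    Function.Surjective (j.app W.1).hom :=
  Scheme.Hom.app_surjective j W.1 W.2

/-- The preimage of an affine open. -/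
def pre (j : Z ⟶ X) [IsClosedImmersion j] (W : X.affineOpens) : Z.affineOpens := ⟨j ⁻¹ᵁ W.1, W.2.preimage j⟩

theorem surjective_pbS {M : X.Modules} {W : X.affineOpens} {κ : Type*} [Fintype κ] {b : κ → Sec M W.1}
    (hb : IsLocBasis b) : Function.Surjective (pbS j M (U := W.1)) := by
  intro s
  obtain ⟨a, ha⟩ := (isLocBasis_pbS j hb _ le_rfl).2 s
  choose c hc using fun i => surjective_app j W (a i)
  refine ⟨∑ i, c i • b i, ?_⟩
  rw [map_sum, ← ha, comb_apply]
  refine Finset.sum_congr rfl fun i _ => ?_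
  rw [pbS_smul, res_self, ← hc i]

theorem exists_smul_of_pbS {M : X.Modules} {W : X.affineOpens} {κ : Type*} [Fintype κ] {b : κ → Sec M W.1}
    (hb : IsLocBasis b) {t : Γ(X, W.1)} (ht : RingHom.ker (j.app W.1).hom = Ideal.span {t}) (s : Sec M W.1)
    (hs : pbS j M s = 0) : ∃ s' : Sec M W.1, s = t • s' := by
  obtain ⟨a, ha⟩ := (hb _ le_rfl).2 s
  have h1 : comb (M := (Scheme.Modules.pullback j).obj M) (U := j ⁻¹ᵁ W.1) (fun k => pbS j M (b k)) le_rfl
      (fun i => (j.app W.1 (a i) : Γ(Z, j ⁻¹ᵁ W.1))) = 0 := by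
    rw [← hs, ← ha, comb_apply, comb_apply, map_sum]
    refine Finset.sum_congr rfl fun i _ => ?_
    rw [pbS_smul, res_self, res_self]
  have h2 := (isLocBasis_pbS j hb _ le_rfl).1 (h1.trans (map_zero _).symm)
  have h3 : ∀ i, ∃ c, a i = t * c := by
    intro i
    have h4 : a i ∈ RingHom.ker (j.app W.1).hom := congrFun h2 i
    rw [ht, Ideal.mem_span_singleton] at h4
    exact h4
  choose c hc using h3
  refine ⟨comb b le_rfl c, ?_⟩
  rw [← ha, comb_apply, comb_apply, Finset.smul_sum]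
  refine Finset.sum_congr rfl fun i _ => ?_
  rw [smul_smul, ← hc]

theorem smul_eq_zero_of_basis {M : X.Modules} {W : X.Opens} {κ : Type*} [Fintype κ] {b : κ → Sec M W}
    (hb : IsLocBasis b) {t : Γ(X, W)} (ht : t ∈ nonZeroDivisors Γ(X, W)) (s : Sec M W)
    (hs : t • s = 0) : s = 0 := by
  obtain ⟨a, ha⟩ := (hb _ le_rfl).2 s
  have h1 : comb b le_rfl (fun i => t * a i) = 0 := by
    rw [← hs, ← ha, comb_apply, comb_apply, Finset.smul_sum]
    refine Finset.sum_congr rfl fun i _ => ?_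
    rw [smul_smul]
  have h2 := (hb _ le_rfl).1 (h1.trans (map_zero _).symm)
  have h3 : a = 0 := by
    funext i
    have h4 : t * a i = 0 := congrFun h2 i
    exact ht.1 _ h4
  rw [← ha, h3, map_zero]

/-- The comparison morphism of `ExtPull.exists_hom` is, after adjunction, an isomorphism. -/
theorem isIso_adj {i : ℕ} {E L : X.Modules} (hE : FlatMod.IsFinLocFree E) {L' : Z.Modules} (φ : Phi i E L)
    (hφ : PhiComp φ) (φ' : Phi i ((Scheme.Modules.pullback j).obj E) L') (hφ' : PhiComp φ')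
    (g : L ⟶ (Scheme.Modules.pushforward j).obj L')
    (hg : ∀ (U : X.affineOpens) (e : Fin i → Sec E U.1) (V : Z.affineOpens) (h : V.1 ≤ j ⁻¹ᵁ U.1),
        res L' h (show Sec L' (j ⁻¹ᵁ U.1) from
          appS g U.1 ((φ U).symm (exteriorPower.ιMulti _ i e))) =
          (φ' V).symm (exteriorPower.ιMulti _ i (fun k => res _ h (pbS j E (e k))))) :
    IsIso (adj j g) := by
  refine isIso_of_bijective _ ?_
  intro y W hyW
  obtain ⟨U₀, n, hxU₀, b₀, hb₀⟩ := (isFinLocFree_iff _).mp hE (j y)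
  obtain ⟨_, ⟨U, rfl⟩, hxU, hU⟩ := Opens.isBasis_iff_nbhd.mp (affineBasis X) hxU₀
  have hb := hb₀.restrict hU
  set b := fun k => res E hU (b₀ k) with hbdef
  have hyU : y ∈ W ⊓ j ⁻¹ᵁ U.1 := ⟨hyW, hxU⟩
  obtain ⟨_, ⟨V, rfl⟩, hyV, hV⟩ := Opens.isBasis_iff_nbhd.mp (affineBasis Z) hyU
  have hVU : V.1 ≤ j ⁻¹ᵁ U.1 := hV.trans inf_le_right
  refine ⟨V.1, hV.trans inf_le_left, hyV, ?_⟩
  have h1 := (isLocBasis_pbS j (isLocBasis_extPow (U := U) φ hφ hb)).restrict hVU
  have h2 := isLocBasis_extPow (U := V) φ' hφ' ((isLocBasis_pbS j hb).restrict hVU)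
  refine bijective_of_locBasis (adj j g) h1 h2 (fun I => ?_) le_rfl
  rw [appS_res, adj_pbS]
  exact hg U _ V hVU

end Sections

section Main

variable {j} [IsClosedImmersion j] {A B : X.Modules} {L : Z.Modules} (f : A ⟶ B)
  (g : B ⟶ (Scheme.Modules.pushforward j).obj L) (w : f ≫ g = 0)

include w in
theorem exists_kappa {U : X.Opens} (a : Sec A U) :
    ∃ c : Sec (kernel (adj j g)) (j ⁻¹ᵁ U), appS (kernel.ι (adj j g)) _ c = pbS j B (appS f U a) := by
  have hk : (ShortComplex.mk (kernel.ι (adj j g)) (adj j g) (kernel.condition _)).Exact :=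
    ShortComplex.exact_kernel _
  refine exists_of_appS_eq_zero hk _ ?_
  change appS (adj j g) (j ⁻¹ᵁ U) _ = 0
  rw [adj_secP]
  change appS g U (appS f U a) = _
  rw [← appS_comp, w]
  rfl

theorem exists_a (hS : (ShortComplex.mk f g w).ShortExact) {W : X.affineOpens} {κ : Type*} [Fintype κ]
    {b : κ → Sec B W.1} (hb : IsLocBasis b) (c : Sec (kernel (adj j g)) (j ⁻¹ᵁ W.1)) :
    ∃ a : Sec A W.1, appS (kernel.ι (adj j g)) _ c = pbS j B (appS f W.1 a) := by
  obtain ⟨s, hs⟩ := surjective_pbS hb (appS (kernel.ι (adj j g)) _ c)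
  have h1 : appS g W.1 s = 0 := by
    have h2 : appS (adj j g) (j ⁻¹ᵁ W.1) (pbS j B s) = 0 := by
      rw [hs, ← appS_comp, kernel.condition, appS_zero]
    rw [adj_secP] at h2
    exact h2
  have := hS.mono_f
  obtain ⟨a, ha⟩ := exists_of_appS_eq_zero hS.exact s h1
  exact ⟨a, by rw [← hs, ← ha]⟩

variable {p : ℕ} {LA LB : X.Modules} {LBj LK : Z.Modules} (φA : Phi p A LA) (hφA : PhiComp φA)
  (φB : Phi p B LB) (hφB : PhiComp φB) (φBj : Phi p ((Scheme.Modules.pullback j).obj B) LBj)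
  (hφBj : PhiComp φBj) (φK : Phi p (kernel (adj j g)) LK) (hφK : PhiComp φK)
  (fe : LA ⟶ LB) (hfe : ∀ (U : X.affineOpens) (s : Sec LA U.1),
    φB U (appS fe U.1 s) = exteriorPower.map p (appS f U.1) (φA U s))
  (ke : LK ⟶ LBj) (hke : ∀ (U : Z.affineOpens) (s : Sec LK U.1),
    φBj U (appS ke U.1 s) = exteriorPower.map p (appS (kernel.ι (adj j g)) U.1) (φK U s))
  (gB : LB ⟶ (Scheme.Modules.pushforward j).obj LBj)
  (hgB : ∀ (U : X.affineOpens) (e : Fin p → Sec B U.1) (V : Z.affineOpens) (h : V.1 ≤ j ⁻¹ᵁ U.1),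
        res LBj h (show Sec LBj (j ⁻¹ᵁ U.1) from
          appS gB U.1 ((φB U).symm (exteriorPower.ιMulti _ p e))) =
          (φBj V).symm (exteriorPower.ιMulti _ p (fun k => res _ h (pbS j B (e k)))))

include hfe in
theorem fe_wedge (W : X.affineOpens) (e : Fin p → Sec A W.1) :
    appS fe W.1 ((φA W).symm (exteriorPower.ιMulti _ p e)) =
      (φB W).symm (exteriorPower.ιMulti _ p (fun k => appS f W.1 (e k))) := by
  apply (φB W).injective
  rw [hfe, LinearEquiv.apply_symm_apply, LinearEquiv.apply_symm_apply, exteriorPower.map_apply_ιMulti]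
  rfl

include hke in
theorem ke_wedge (V : Z.affineOpens) (e : Fin p → Sec (kernel (adj j g)) V.1) :
    appS ke V.1 ((φK V).symm (exteriorPower.ιMulti _ p e)) =
      (φBj V).symm (exteriorPower.ιMulti _ p (fun k => appS (kernel.ι (adj j g)) V.1 (e k))) := by
  apply (φBj V).injective
  rw [hke, LinearEquiv.apply_symm_apply, LinearEquiv.apply_symm_apply, exteriorPower.map_apply_ιMulti]
  rfl

include hgB in
theorem gB_wedge (W : X.affineOpens) (e : Fin p → Sec B W.1) :
    secP gB W.1 ((φB W).symm (exteriorPower.ιMulti _ p e)) =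
      (φBj (pre j W)).symm (exteriorPower.ιMulti _ p (fun k => pbS j B (e k))) := by
  have h := hgB W e (pre j W) le_rfl
  have h0 : res LBj (le_refl (j ⁻¹ᵁ W.1)) (secP gB W.1 ((φB W).symm (exteriorPower.ιMulti _ p e))) =
    secP gB W.1 ((φB W).symm (exteriorPower.ιMulti _ p e)) := res_self _ _ _
  refine h0.symm.trans (h.trans ?_)
  congr 2
  funext k
  exact res_self _ _ _

include w hfe hke hgB in
theorem exists_ke {W : X.affineOpens} (y : Sec LA W.1) :
    ∃ z : Sec LK (j ⁻¹ᵁ W.1), appS ke _ z = secP gB W.1 (appS fe W.1 y) := by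
  refine phi_induction φA W (C := fun y => ∃ z : Sec LK (j ⁻¹ᵁ W.1), appS ke _ z = secP gB W.1 (appS fe W.1 y))
    ?_ ?_ ?_ ?_ y
  · exact ⟨0, by simp⟩
  · rintro x y ⟨a, ha⟩ ⟨b, hb⟩
    exact ⟨a + b, by rw [map_add, ha, hb, map_add, map_add]⟩
  · rintro c x ⟨a, ha⟩
    refine ⟨(j.app W.1 c : Γ(Z, j ⁻¹ᵁ W.1)) • a, ?_⟩
    rw [map_smul, ha, map_smul, secP_smul]
  · intro e
    choose c hc using fun k => exists_kappa f g w (e k)
    refine ⟨(φK (pre j W)).symm (exteriorPower.ιMulti _ p c), ?_⟩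
    rw [fe_wedge f φA φB fe hfe, gB_wedge φB φBj gB hgB]
    refine (ke_wedge g φBj φK ke hke (pre j W) c).trans ?_
    congr 2
    funext k
    exact hc k

include hfe hke hgB in
theorem exists_ya (hS : (ShortComplex.mk f g w).ShortExact) {W : X.affineOpens} {κ : Type*} [Fintype κ]
    {b : κ → Sec B W.1} (hb : IsLocBasis b) (z : Sec LK (j ⁻¹ᵁ W.1)) :
    ∃ y : Sec LA W.1, appS ke _ z = secP gB W.1 (appS fe W.1 y) := by
  refine phi_induction φK (pre j W) (C := fun z => ∃ y : Sec LA W.1, appS ke (pre j W).1 z =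
    secP gB W.1 (appS fe W.1 y)) ?_ ?_ ?_ ?_ z
  · exact ⟨0, (map_zero (appS ke (pre j W).1)).trans (by rw [map_zero, map_zero]; rfl)⟩
  · rintro x y ⟨a, ha⟩ ⟨b, hb⟩
    exact ⟨a + b, (map_add (appS ke (pre j W).1) x y).trans (by rw [ha, hb, map_add, map_add]; rfl)⟩
  · rintro c x ⟨a, ha⟩
    obtain ⟨c, rfl⟩ := surjective_app j W c
    refine ⟨c • a, ?_⟩
    rw [map_smul, ha, map_smul, secP_smul]
    rfl
  · intro e
    choose c hc using fun k => exists_a f g w hS hb (e k)
    refine ⟨(φA W).symm (exteriorPower.ιMulti _ p c), ?_⟩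
    rw [fe_wedge f φA φB fe hfe, gB_wedge φB φBj gB hgB]
    refine (ke_wedge g φBj φK ke hke (pre j W) e).trans ?_
    congr 2
    funext k
    exact hc k

end Main

end K882.ElemMod
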