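import Groth.Agent.Coherent.K54.ExtSes

/-!
# Exterior powers of an extension of a line bundle, with the first map given

`exists_ses_of_extMap`: the exact sequence of `Coherent.K54.ExtSes.exists_ses` with the first map the given
`Λ^{p+1} E' → Λ^{p+1} E`.
-/

set_option autoImplicit false

universe u

open CategoryTheory CategoryTheory.Limits AlgebraicGeometry Opposite TopologicalSpace
open scoped TensorProduct
open Groth.Agent.Sga67.Sec Groth.Agent.Sga67.LocBasis Groth.Agent.Sga67.SesImage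
open Groth.Agent.Sga67 Groth.Agent.Sga67.ExtSheaf Groth.Agent.Sga67.ExtClass K54.ExtSes

namespace K882.ExtSes2

variable {X : Scheme.{u}}

theorem exists_ses_image2 {P P' L Q : X.Modules} (m : P ⟶ L) (π : P ⟶ Q) (m' : P' ⟶ L) [Epi π]
    (hb : ∀ (U : X.Opens) (s : Sec P U), appS m U s = 0 → ∀ x ∈ U,
      ∃ (V : X.Opens) (h : V ≤ U), x ∈ V ∧ appS π V (res P h s) = 0)
    (hc : ∀ (U : X.Opens) (s : Sec P U), appS π U s = 0 → ∀ x ∈ U,
      ∃ (V : X.Opens) (h : V ≤ U), x ∈ V ∧ ∃ t : Sec P' V, appS m' V t = appS m V (res P h s))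
    (hd : ∀ (U : X.Opens) (t : Sec P' U), ∀ x ∈ U,
      ∃ (V : X.Opens) (h : V ≤ U), x ∈ V ∧ ∃ s : Sec P V, appS m V s = appS m' V (res P' h t) ∧
        appS π V s = 0) :
    ∃ (j : image m' ⟶ image m) (k : image m ⟶ Q) (w : j ≫ k = 0),
      (ShortComplex.mk j k w).ShortExact ∧ j ≫ image.ι m = image.ι m' := by
  have he : ∀ U (s : Sec P U), appS (image.ι m) U (appS (factorThruImage m) U s) = appS m U s := by
    intro U s
    rw [← appS_comp, image.fac]
  have he' : ∀ U (s : Sec P' U), appS (image.ι m') U (appS (factorThruImage m') U s) = appS m' U s := by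
    intro U s
    rw [← appS_comp, image.fac]
  -- the map `k`
  have hk : kernel.ι (factorThruImage m) ≫ π = 0 := by
    apply hom_ext
    intro U s
    apply eq_of_locally
    intro x hx
    obtain ⟨V, hV, hxV, e⟩ := hb U (appS (kernel.ι (factorThruImage m)) U s) (by
      rw [← he, ← appS_comp (kernel.ι (factorThruImage m)), kernel.condition, appS_zero,
        map_zero]) x hx
    refine ⟨V, hV, hxV, ?_⟩
    rw [← appS_res, appS_comp, appS_res (kernel.ι (factorThruImage m)), e, appS_zero, map_zero]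
  let k : image m ⟶ Q := Abelian.epiDesc (factorThruImage m) π hk
  have hek : factorThruImage m ≫ k = π := Abelian.comp_epiDesc _ _ _
  -- the map `j`
  have hj : image.ι m' ≫ cokernel.π (image.ι m) = 0 := by
    rw [← cancel_epi (factorThruImage m'), comp_zero]
    apply hom_ext
    intro U t
    apply eq_of_locally
    intro x hx
    obtain ⟨V, hV, hxV, s, e, -⟩ := hd U t x hx
    refine ⟨V, hV, hxV, ?_⟩
    rw [← appS_res, appS_comp, appS_comp, he', ← e, ← he, ← appS_comp, cokernel.condition]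
    rw [appS_zero, appS_zero, map_zero]
  let j : image m' ⟶ image m := Abelian.monoLift (image.ι m) (image.ι m') hj
  have hjι : j ≫ image.ι m = image.ι m' := Abelian.monoLift_comp _ _ _
  have key : ∀ (V : X.Opens) (s : Sec P V) (t : Sec P' V), appS m' V t = appS m V s →
      appS j V (appS (factorThruImage m') V t) = appS (factorThruImage m) V s := by
    intro V s t h
    apply injective_of_mono (image.ι m)
    rw [← appS_comp j, hjι, he', he, h]
  have w : j ≫ k = 0 := by
    rw [← cancel_epi (factorThruImage m'), comp_zero]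
    apply hom_ext
    intro U t
    apply eq_of_locally
    intro x hx
    obtain ⟨V, hV, hxV, s, e, e'⟩ := hd U t x hx
    refine ⟨V, hV, hxV, ?_⟩
    rw [← appS_res, appS_comp, appS_comp, key V s _ e.symm, ← appS_comp, hek, e', appS_zero, map_zero]
  have hmono : Mono j := mono_of_mono_fac hjι
  have hepi : Epi k := epi_of_epi_fac hek
  refine ⟨j, k, w, ?_, hjι⟩
  refine { exact := ?_, mono_f := hmono, epi_g := hepi }
  apply exact_of_locally
  intro U y hy x hx
  obtain ⟨V, hV, hxV, s, hs⟩ := locally_surjective_of_epi (factorThruImage m) y x hx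
  have h1 : appS π V s = 0 := by
    rw [← hek, appS_comp, hs, appS_res]
    have : appS k U y = 0 := hy
    rw [this, map_zero]
  obtain ⟨W, hW, hxW, t, ht⟩ := hc V s h1 x hxV
  refine ⟨W, hW.trans hV, hxW, appS (factorThruImage m') W t, ?_⟩
  change appS j W _ = _
  rw [key W _ t ht, appS_res, hs, res_res]

variable {S : ShortComplex X.Modules} (hS : S.ShortExact)
  (h₃ : FlatMod.IsFinLocFreeOfRank 1 S.X₃)

set_option maxHeartbeats 1000000 in
include hS h₃ in
/-- The sequence of images. -/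
theorem ses_core {p : ℕ} {L' L K N M : X.Modules} (φ' : Phi (p + 1) S.X₁ L')
    (φ : Phi (p + 1) S.X₂ L) (ψ : Phi p S.X₁ K) (φ2 : Phi (0 + 1) S.X₂ N) (φ3 : Phi (0 + 1) S.X₃ M)
    (l : N ⟶ M)
    (hl : ∀ (U : X.affineOpens) (s : Sec N U.1),
      φ3 U (appS l U.1 s) = exteriorPower.map (0 + 1) (appS S.g U.1) (φ2 U s))
    (m : CohB1.tensorMod K N ⟶ L)
    (hm : ∀ (U : X.affineOpens) (t : Sec K U.1 ⊗[Γ(X, U.1)] Sec N U.1),
      φ U (appS m U.1 (tau K N U.1 t)) = ExtAlg.mu (show p + (0 + 1) = p + 1 from rfl)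
        (appS S.f U.1) (TensorProduct.map (ψ U).toLinearMap (φ2 U).toLinearMap t))
    (j : L' ⟶ L)
    (hj : ∀ (U : X.affineOpens) (s : Sec L' U.1),
      φ U (appS j U.1 s) = exteriorPower.map (p + 1) (appS S.f U.1) (φ' U s)) :
    ∃ (j' : image j ⟶ image m) (k' : image m ⟶ CohB1.tensorMod K M) (w : j' ≫ k' = 0),
      (ShortComplex.mk j' k' w).ShortExact ∧ j' ≫ image.ι m = image.ι j := by
  have h₃' := isFinLocFree_of_rank h₃
  have := epi_tmap hS h₃' ψ φ2 φ3 l hl
  have hpq : p + (0 + 1) = p + 1 := rfl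
  have hpq' : p + 1 + 0 = p + 1 := rfl
  refine exists_ses_image2 m (tmap K l) j ?_ ?_ ?_
  · -- hb
    intro U s hs x hx
    obtain ⟨W, hW, hxW, ⟨r, σ, hr, hσ, hrσ⟩, t, ht⟩ := exists_good hS h₃' s hx
    refine ⟨W.1, hW, hxW, ?_⟩
    rw [← ht, appS_tmap]
    have h1 : ExtAlg.mu hpq (appS S.f W.1)
        (TensorProduct.map (ψ W).toLinearMap (φ2 W).toLinearMap t) = 0 := by
      rw [← hm W t, ht, appS_res, hs, map_zero, map_zero]
    have h2 := ExtAlg.pi_eq_zero_of_mu_eq_zero hpq (appS S.f W.1) (appS S.g W.1) r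
      (LinearMap.ext hr) (appS_g_f S W.1) _ h1
    rw [← congr_map S.g ψ φ2 φ3 l hl W t] at h2
    have h3 := (map_congr_injective ψ φ3 W).1 (h2.trans (map_zero _).symm)
    rw [h3, map_zero]
  · -- hc
    intro U s hs x hx
    obtain ⟨V, hV, hxV, t, ht⟩ := tau_locsurj _ _ s x hx
    have h1 : tau K M V (TensorProduct.map LinearMap.id (appS l V) t) = 0 := by
      rw [← appS_tmap, ht, appS_res, hs, map_zero]
    obtain ⟨V', hV', hxV', h2⟩ := tau_locinj _ _ _ h1 x hxV
    obtain ⟨W, hW, hxW, ⟨r, σ, hr, hσ, hrσ⟩⟩ := exists_split hS h₃' hxV'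
    have h3 : TensorProduct.map LinearMap.id (appS l W.1) (tres K N (hW.trans hV') t) = 0 := by
      rw [← tres_map]
      have : tres K M (hW.trans hV') (TensorProduct.map LinearMap.id (appS l V) t) =
          tres K M hW (tres K M hV' (TensorProduct.map LinearMap.id (appS l V) t)) :=
        (pres_pres (CohB1.tensorPre K M) hV' hW _).symm
      rw [this, h2, map_zero]
    have h4 : ExtAlg.pi (Sec S.X₁ W.1) p (0 + 1) (appS S.g W.1)
        (TensorProduct.map (ψ W).toLinearMap (φ2 W).toLinearMap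
          (tres K N (hW.trans hV') t)) = 0 := by
      rw [← congr_map S.g ψ φ2 φ3 l hl W, h3, map_zero]
    obtain ⟨t₁, ht₁⟩ := ExtAlg.exists_mu_eq_of_pi_eq_zero hpq hpq'
      (appS S.f W.1) (appS S.g W.1) r σ hrσ _ h4
    obtain ⟨y, hy⟩ := exists_map_eq (appS S.f W.1) (p + 1) rfl t₁
    refine ⟨W.1, (hW.trans hV').trans hV, hxW, (φ' W).symm y, ?_⟩
    apply (φ W).injective
    rw [hj W, LinearEquiv.apply_symm_apply, hy, ht₁, ← hm W, tau_tres, ht, res_res]
  · -- hd
    intro U t x hx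
    obtain ⟨W, hW, hxW, -⟩ := exists_split hS h₃' hx
    obtain ⟨t₂, ht₂, ht₂'⟩ := exists_mu_map_eq hpq
      (appS S.f W.1) (appS S.g W.1) (appS_g_f S W.1) (φ' W (res _ hW t))
    obtain ⟨t₃, rfl⟩ := (map_congr_injective ψ φ2 W).2 t₂
    refine ⟨W.1, hW, hxW, tau K N W.1 t₃, ?_, ?_⟩
    · apply (φ W).injective
      exact ((hm W _).trans ht₂).trans (hj W _).symm
    · rw [appS_tmap]
      rw [← congr_map S.g ψ φ2 φ3 l hl W] at ht₂'
      have h3 := (map_congr_injective ψ φ3 W).1 (ht₂'.trans (map_zero _).symm)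
      rw [h3, map_zero]

include hS h₃ in
/-- **The exact sequence of exterior powers for an extension of a line bundle**:
`0 → Λ^{p+1} E' → Λ^{p+1} E → Λ^p E' ⊗ J → 0`. -/
theorem exists_ses_of_extMap {p : ℕ} {L' L K : X.Modules} (φ' : Phi (p + 1) S.X₁ L')
    (φ : Phi (p + 1) S.X₂ L) (hφ : PhiComp φ) (hK : ExtPow.IsExtPow p S.X₁ K) (j : L' ⟶ L)
    (hj : ∀ (U : X.affineOpens) (s : Sec L' U.1),
      φ U (appS j U.1 s) = exteriorPower.map (p + 1) (appS S.f U.1) (φ' U s)) :
    ∃ (k : L ⟶ CohB1.tensorMod K S.X₃) (w : j ≫ k = 0), (ShortComplex.mk j k w).ShortExact := by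
  obtain ⟨ψ, hψ⟩ := exists_phi hK
  obtain ⟨φ2, hφ2⟩ := exists_phi (TensorOps.isExtPow_one S.X₂)
  obtain ⟨φ3, hφ3⟩ := exists_phi (TensorOps.isExtPow_one S.X₃)
  obtain ⟨l, hl⟩ := exists_extMap S.g φ2 hφ2 φ3 hφ3
  obtain ⟨m, hm⟩ := exists_extMul (rfl : p + 1 = p + 1) S.f ψ hψ φ2 hφ2 φ hφ
  have hme := epi_mul hS h₃ φ ψ φ2 m hm
  have hjm := mono_map hS h₃ φ' φ j hj
  obtain ⟨j', k', w', hse, hj'⟩ := ses_core hS h₃ φ' φ ψ φ2 φ3 l hl m hm j hj
  have i1 : IsIso (factorThruImage j) := by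
    have := mono_of_mono_fac (image.fac j)
    exact isIso_of_mono_of_epi _
  have i2 : IsIso (image.ι m) := by
    have := epi_of_epi_fac (image.fac m)
    exact isIso_of_mono_of_epi _
  let e1 : image j ≅ L' := (asIso (factorThruImage j)).symm
  let e2 : image m ≅ L := asIso (image.ι m)
  have hjj : e1.inv ≫ j' ≫ e2.hom = j := by
    change factorThruImage j ≫ j' ≫ image.ι m = j
    rw [hj', image.fac]
  have w : j ≫ e2.inv ≫ k' = 0 := by
    rw [← hjj]
    simp [w']
  refine ⟨e2.inv ≫ k', w, ?_⟩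
  let e : ShortComplex.mk j' k' w' ≅ ShortComplex.mk j (e2.inv ≫ k') w :=
    ShortComplex.isoMk e1 e2 (Iso.refl _) (by
      change e1.hom ≫ j = j' ≫ e2.hom
      rw [← cancel_epi e1.inv, Iso.inv_hom_id_assoc]
      exact hjj.symm) (by simp)
  exact ShortComplex.shortExact_of_iso e hse

end K882.ExtSes2
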