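import Groth.Agent.HodgeNum.K882.ExtLine

/-!
# Exterior powers of a split extension

`exists_ses_image'`, `ses_step'`, `ses_base'`: the statements of `Sga67.SesImage` and `Sga67.ExtClass` with the quotient
map recorded. `sum_of_split`: for `0 → A → E → B → 0` split, every invariant which is additive on split short exact
sequences takes on `Λ^n E` the value `∑ χ(Λ^i A ⊗ Λ^(n-i) B)`.
-/

set_option autoImplicit false

universe u

open CategoryTheory CategoryTheory.Limits AlgebraicGeometry Opposite TopologicalSpace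
open scoped TensorProduct ZeroObject
open Groth.Agent.Sga67.Sec Groth.Agent.Sga67.LocBasis Groth.Agent.Sga67.SesImage
open Groth.Agent.Sga67.ExtSheaf Groth.Agent.Sga67.ExtClass Groth.Agent.Sga67

namespace K882.ExtSplit

variable {X : Scheme.{u}}

theorem exists_ses_image' {P P' L Q : X.Modules} (m : P ⟶ L) (π : P ⟶ Q) (m' : P' ⟶ L) [Epi π]
    (hb : ∀ (U : X.Opens) (s : Sec P U), appS m U s = 0 → ∀ x ∈ U,
      ∃ (V : X.Opens) (h : V ≤ U), x ∈ V ∧ appS π V (res P h s) = 0)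
    (hc : ∀ (U : X.Opens) (s : Sec P U), appS π U s = 0 → ∀ x ∈ U,
      ∃ (V : X.Opens) (h : V ≤ U), x ∈ V ∧ ∃ t : Sec P' V, appS m' V t = appS m V (res P h s))
    (hd : ∀ (U : X.Opens) (t : Sec P' U), ∀ x ∈ U,
      ∃ (V : X.Opens) (h : V ≤ U), x ∈ V ∧ ∃ s : Sec P V, appS m V s = appS m' V (res P' h t) ∧
        appS π V s = 0) :
    ∃ (j : image m' ⟶ image m) (k : image m ⟶ Q) (w : j ≫ k = 0),
      (ShortComplex.mk j k w).ShortExact ∧ factorThruImage m ≫ k = π := by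
  have he : ∀ U (s : Sec P U), appS (image.ι m) U (appS (factorThruImage m) U s) = appS m U s := by
    intro U s
    rw [← appS_comp, image.fac]
  have he' : ∀ U (s : Sec P' U), appS (image.ι m') U (appS (factorThruImage m') U s) = appS m' U s := by
    intro U s
    rw [← appS_comp, image.fac]
  -- the map `k`
  have hk : kernel.ι (factorThruImage m) ≫ π = 0 := by
    apply hom_ext
    intro U s
    apply eq_of_locally
    intro x hx
    obtain ⟨V, hV, hxV, e⟩ := hb U (appS (kernel.ι (factorThruImage m)) U s) (by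
      rw [← he, ← appS_comp (kernel.ι (factorThruImage m)), kernel.condition, appS_zero,
        map_zero]) x hx
    refine ⟨V, hV, hxV, ?_⟩
    rw [← appS_res, appS_comp, appS_res (kernel.ι (factorThruImage m)), e, appS_zero, map_zero]
  let k : image m ⟶ Q := Abelian.epiDesc (factorThruImage m) π hk
  have hek : factorThruImage m ≫ k = π := Abelian.comp_epiDesc _ _ _
  -- the map `j`
  have hj : image.ι m' ≫ cokernel.π (image.ι m) = 0 := by
    rw [← cancel_epi (factorThruImage m'), comp_zero]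
    apply hom_ext
    intro U t
    apply eq_of_locally
    intro x hx
    obtain ⟨V, hV, hxV, s, e, -⟩ := hd U t x hx
    refine ⟨V, hV, hxV, ?_⟩
    rw [← appS_res, appS_comp, appS_comp, he', ← e, ← he, ← appS_comp, cokernel.condition]
    rw [appS_zero, appS_zero, map_zero]
  let j : image m' ⟶ image m := Abelian.monoLift (image.ι m) (image.ι m') hj
  have hjι : j ≫ image.ι m = image.ι m' := Abelian.monoLift_comp _ _ _
  have key : ∀ (V : X.Opens) (s : Sec P V) (t : Sec P' V), appS m' V t = appS m V s →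
      appS j V (appS (factorThruImage m') V t) = appS (factorThruImage m) V s := by
    intro V s t h
    apply injective_of_mono (image.ι m)
    rw [← appS_comp j, hjι, he', he, h]
  have w : j ≫ k = 0 := by
    rw [← cancel_epi (factorThruImage m'), comp_zero]
    apply hom_ext
    intro U t
    apply eq_of_locally
    intro x hx
    obtain ⟨V, hV, hxV, s, e, e'⟩ := hd U t x hx
    refine ⟨V, hV, hxV, ?_⟩
    rw [← appS_res, appS_comp, appS_comp, key V s _ e.symm, ← appS_comp, hek, e', appS_zero, map_zero]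
  have hmono : Mono j := mono_of_mono_fac hjι
  have hepi : Epi k := epi_of_epi_fac hek
  refine ⟨j, k, w, ?_, hek⟩
  refine { exact := ?_, mono_f := hmono, epi_g := hepi }
  apply exact_of_locally
  intro U y hy x hx
  obtain ⟨V, hV, hxV, s, hs⟩ := locally_surjective_of_epi (factorThruImage m) y x hx
  have h1 : appS π V s = 0 := by
    rw [← hek, appS_comp, hs, appS_res]
    have : appS k U y = 0 := hy
    rw [this, map_zero]
  obtain ⟨W, hW, hxW, t, ht⟩ := hc V s h1 x hxV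
  refine ⟨W, hW.trans hV, hxW, appS (factorThruImage m') W t, ?_⟩
  change appS j W _ = _
  rw [key W _ t ht, appS_res, hs, res_res]

section Main

variable {S : ShortComplex X.Modules} (hS : S.ShortExact) (h₃ : FlatMod.IsFinLocFree S.X₃)

include hS h₃ in
theorem ses_step' {p q n : ℕ} (hpq : p + (q + 1) = n) (hpq' : p + 1 + q = n)
    {Lp Lp1 Lq Lq1 N Mq : X.Modules}
    (φp : Phi p S.X₁ Lp) (φp1 : Phi (p + 1) S.X₁ Lp1) (φq1 : Phi (q + 1) S.X₂ Lq1)
    (φq : Phi q S.X₂ Lq) (φ'' : Phi (q + 1) S.X₃ Mq) (ψ : Phi n S.X₂ N)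
    (l : Lq1 ⟶ Mq)
    (hl : ∀ (U : X.affineOpens) (s : Sec Lq1 U.1),
      φ'' U (appS l U.1 s) = exteriorPower.map (q + 1) (appS S.g U.1) (φq1 U s))
    (m : CohB1.tensorMod Lp Lq1 ⟶ N)
    (hm : ∀ (U : X.affineOpens) (t : Sec Lp U.1 ⊗[Γ(X, U.1)] Sec Lq1 U.1),
      ψ U (appS m U.1 (tau Lp Lq1 U.1 t)) = ExtAlg.mu hpq (appS S.f U.1)
        (TensorProduct.map (φp U).toLinearMap (φq1 U).toLinearMap t))
    (m' : CohB1.tensorMod Lp1 Lq ⟶ N)
    (hm' : ∀ (U : X.affineOpens) (t : Sec Lp1 U.1 ⊗[Γ(X, U.1)] Sec Lq U.1),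
      ψ U (appS m' U.1 (tau Lp1 Lq U.1 t)) = ExtAlg.mu hpq' (appS S.f U.1)
        (TensorProduct.map (φp1 U).toLinearMap (φq U).toLinearMap t)) :
    ∃ (j : image m' ⟶ image m) (k : image m ⟶ CohB1.tensorMod Lp Mq) (w : j ≫ k = 0),
      (ShortComplex.mk j k w).ShortExact ∧ factorThruImage m ≫ k = tmap Lp l := by
  have := epi_tmap hS h₃ φp φq1 φ'' l hl
  refine exists_ses_image' m (tmap Lp l) m' ?_ ?_ ?_
  · -- hb
    intro U s hs x hx
    obtain ⟨W, hW, hxW, ⟨r, σ, hr, hσ, hrσ⟩, t, ht⟩ := exists_good hS h₃ s hx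
    refine ⟨W.1, hW, hxW, ?_⟩
    rw [← ht, appS_tmap]
    have h1 : ExtAlg.mu hpq (appS S.f W.1)
        (TensorProduct.map (φp W).toLinearMap (φq1 W).toLinearMap t) = 0 := by
      rw [← hm W t, ht, appS_res, hs, map_zero, map_zero]
    have h2 := ExtAlg.pi_eq_zero_of_mu_eq_zero hpq (appS S.f W.1) (appS S.g W.1) r
      (LinearMap.ext hr) (appS_g_f S W.1) _ h1
    rw [← congr_map S.g φp φq1 φ'' l hl W t] at h2
    have h3 := (map_congr_injective φp φ'' W).1 (h2.trans (map_zero _).symm)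
    rw [h3, map_zero]
  · -- hc
    intro U s hs x hx
    obtain ⟨V, hV, hxV, t, ht⟩ := tau_locsurj _ _ s x hx
    have h1 : tau Lp Mq V (TensorProduct.map LinearMap.id (appS l V) t) = 0 := by
      rw [← appS_tmap, ht, appS_res, hs, map_zero]
    obtain ⟨V', hV', hxV', h2⟩ := tau_locinj _ _ _ h1 x hxV
    obtain ⟨W, hW, hxW, ⟨r, σ, hr, hσ, hrσ⟩⟩ := exists_split hS h₃ hxV'
    have h3 : TensorProduct.map LinearMap.id (appS l W.1) (tres Lp Lq1 (hW.trans hV') t) = 0 := by
      rw [← tres_map]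
      have : tres Lp Mq (hW.trans hV') (TensorProduct.map LinearMap.id (appS l V) t) =
          tres Lp Mq hW (tres Lp Mq hV' (TensorProduct.map LinearMap.id (appS l V) t)) :=
        (pres_pres (CohB1.tensorPre Lp Mq) hV' hW _).symm
      rw [this, h2, map_zero]
    have h4 : ExtAlg.pi (Sec S.X₁ W.1) p (q + 1) (appS S.g W.1)
        (TensorProduct.map (φp W).toLinearMap (φq1 W).toLinearMap
          (tres Lp Lq1 (hW.trans hV') t)) = 0 := by
      rw [← congr_map S.g φp φq1 φ'' l hl W, h3, map_zero]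
    obtain ⟨t₁, ht₁⟩ := ExtAlg.exists_mu_eq_of_pi_eq_zero hpq hpq' (appS S.f W.1) (appS S.g W.1)
      r σ hrσ _ h4
    obtain ⟨t₂, rfl⟩ := (map_congr_injective φp1 φq W).2 t₁
    refine ⟨W.1, (hW.trans hV').trans hV, hxW, tau Lp1 Lq W.1 t₂, ?_⟩
    apply (ψ W).injective
    rw [hm' W, ht₁, ← hm W, tau_tres, ht, res_res]
  · -- hd
    intro U t x hx
    obtain ⟨W, hW, hxW, -, t₁, ht₁⟩ := exists_good hS h₃ t hx
    obtain ⟨t₂, ht₂, ht₂'⟩ := ExtAlg.exists_mu_eq_of_succ hpq hpq' (appS S.f W.1) (appS S.g W.1)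
      (appS_g_f S W.1) (TensorProduct.map (φp1 W).toLinearMap (φq W).toLinearMap t₁)
    obtain ⟨t₃, rfl⟩ := (map_congr_injective φp φq1 W).2 t₂
    refine ⟨W.1, hW, hxW, tau Lp Lq1 W.1 t₃, ?_, ?_⟩
    · apply (ψ W).injective
      rw [hm W, ht₂, ← hm' W, ht₁]
    · rw [appS_tmap]
      rw [← congr_map S.g φp φq1 φ'' l hl W] at ht₂'
      have h3 := (map_congr_injective φp φ'' W).1 (ht₂'.trans (map_zero _).symm)
      rw [h3, map_zero]

include hS h₃ in
theorem ses_base' {p n : ℕ} (hpq : p + 0 = n) {Lp Lq1 N Mq : X.Modules}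
    (φp : Phi p S.X₁ Lp) (φq1 : Phi 0 S.X₂ Lq1) (φ'' : Phi 0 S.X₃ Mq) (ψ : Phi n S.X₂ N)
    (l : Lq1 ⟶ Mq)
    (hl : ∀ (U : X.affineOpens) (s : Sec Lq1 U.1),
      φ'' U (appS l U.1 s) = exteriorPower.map 0 (appS S.g U.1) (φq1 U s))
    (m : CohB1.tensorMod Lp Lq1 ⟶ N)
    (hm : ∀ (U : X.affineOpens) (t : Sec Lp U.1 ⊗[Γ(X, U.1)] Sec Lq1 U.1),
      ψ U (appS m U.1 (tau Lp Lq1 U.1 t)) = ExtAlg.mu hpq (appS S.f U.1)
        (TensorProduct.map (φp U).toLinearMap (φq1 U).toLinearMap t)) :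
    ∃ (j : image (0 : (0 : X.Modules) ⟶ N) ⟶ image m) (k : image m ⟶ CohB1.tensorMod Lp Mq)
      (w : j ≫ k = 0), (ShortComplex.mk j k w).ShortExact ∧ factorThruImage m ≫ k = tmap Lp l := by
  have := epi_tmap hS h₃ φp φq1 φ'' l hl
  refine exists_ses_image' m (tmap Lp l) (0 : (0 : X.Modules) ⟶ N) ?_ ?_ ?_
  · -- hb
    intro U s hs x hx
    obtain ⟨W, hW, hxW, ⟨r, σ, hr, hσ, hrσ⟩, t, ht⟩ := exists_good hS h₃ s hx
    refine ⟨W.1, hW, hxW, ?_⟩
    rw [← ht, appS_tmap]
    have h1 : ExtAlg.mu hpq (appS S.f W.1)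
        (TensorProduct.map (φp W).toLinearMap (φq1 W).toLinearMap t) = 0 := by
      rw [← hm W t, ht, appS_res, hs, map_zero, map_zero]
    have h2 := ExtAlg.pi_eq_zero_of_mu_eq_zero hpq (appS S.f W.1) (appS S.g W.1) r
      (LinearMap.ext hr) (appS_g_f S W.1) _ h1
    rw [← congr_map S.g φp φq1 φ'' l hl W t] at h2
    have h3 := (map_congr_injective φp φ'' W).1 (h2.trans (map_zero _).symm)
    rw [h3, map_zero]
  · -- hc
    intro U s hs x hx
    obtain ⟨V, hV, hxV, t, ht⟩ := tau_locsurj _ _ s x hx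
    have h1 : tau Lp Mq V (TensorProduct.map LinearMap.id (appS l V) t) = 0 := by
      rw [← appS_tmap, ht, appS_res, hs, map_zero]
    obtain ⟨V', hV', hxV', h2⟩ := tau_locinj _ _ _ h1 x hxV
    obtain ⟨W, hW, hxW, -⟩ := exists_split hS h₃ hxV'
    have h3 : TensorProduct.map LinearMap.id (appS l W.1) (tres Lp Lq1 (hW.trans hV') t) = 0 := by
      rw [← tres_map]
      have : tres Lp Mq (hW.trans hV') (TensorProduct.map LinearMap.id (appS l V) t) =
          tres Lp Mq hW (tres Lp Mq hV' (TensorProduct.map LinearMap.id (appS l V) t)) :=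
        (pres_pres (CohB1.tensorPre Lp Mq) hV' hW _).symm
      rw [this, h2, map_zero]
    have h4 : ExtAlg.pi (Sec S.X₁ W.1) p 0 (appS S.g W.1)
        (TensorProduct.map (φp W).toLinearMap (φq1 W).toLinearMap
          (tres Lp Lq1 (hW.trans hV') t)) = 0 := by
      rw [← congr_map S.g φp φq1 φ'' l hl W, h3, map_zero]
    have h5 := ExtAlg.pi_zero_injective _ (h4.trans (map_zero _).symm)
    refine ⟨W.1, (hW.trans hV').trans hV, hxW, 0, ?_⟩
    apply (ψ W).injective
    rw [map_zero, map_zero, ← res_res _ hV (hW.trans hV'), ← ht, ← tau_tres, hm W, h5, map_zero]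
  · -- hd
    intro U t x hx
    refine ⟨U, le_rfl, hx, 0, ?_, ?_⟩
    · rw [map_zero, appS_zero]
    · rw [map_zero]

end Main

/-- the induced map of a section is a section -/
theorem extMap_section {E E'' L L'' : X.Modules} {q : ℕ} (g : E ⟶ E'') (s : E'' ⟶ E) (hs : s ≫ g = 𝟙 _)
    (φ : Phi q E L) (φ'' : Phi q E'' L'') (l : L ⟶ L'')
    (hl : ∀ (U : X.affineOpens) (x : Sec L U.1), φ'' U (appS l U.1 x) = exteriorPower.map q (appS g U.1) (φ U x))
    (l' : L'' ⟶ L)
    (hl' : ∀ (U : X.affineOpens) (x : Sec L'' U.1), φ U (appS l' U.1 x) = exteriorPower.map q (appS s U.1) (φ'' U x)) :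
    l' ≫ l = 𝟙 _ := by
  apply hom_ext
  intro U y
  apply eq_of_locally
  intro x hx
  obtain ⟨_, ⟨W, rfl⟩, hxW, hW⟩ := Opens.isBasis_iff_nbhd.mp (affineBasis X) hx
  refine ⟨W.1, hW, hxW, ?_⟩
  rw [← appS_res, ← appS_res]
  apply (φ'' W).injective
  rw [appS_comp, hl, hl', ← LinearMap.comp_apply, ← exteriorPower.map_comp]
  have h1 : (appS g W.1) ∘ₗ (appS s W.1) = LinearMap.id := by
    ext m
    change appS g W.1 (appS s W.1 m) = m
    rw [← appS_comp, hs]
    rfl
  rw [h1, exteriorPower.map_id]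
  rfl

/-- sections of the tensor product map -/
theorem tmap_section {A B C : X.Modules} (l : B ⟶ C) (l' : C ⟶ B) (h : l' ≫ l = 𝟙 _) :
    tmap A l' ≫ tmap A l = 𝟙 _ := by
  have h1 : tmap A l' ≫ tmap A l = tmap A (l' ≫ l) := by
    exact (((DCoh.tensorBi (X := X)).obj A).map_comp l' l).symm
  rw [h1, h]
  exact ((DCoh.tensorBi (X := X)).obj A).map_id C

section Inv

variable (χ : X.Modules → ℕ) (hiso : ∀ M N : X.Modules, Nonempty (M ≅ N) → χ M = χ N)
  (hadd : ∀ T : ShortComplex X.Modules, T.ShortExact → FlatMod.IsFinLocFree T.X₁ → FlatMod.IsFinLocFree T.X₃ →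
    (∃ σ : T.X₃ ⟶ T.X₂, σ ≫ T.g = 𝟙 _) → χ T.X₂ = χ T.X₁ + χ T.X₃)

include hadd in
theorem inv_zero {Z : X.Modules} (hZ : IsZero Z) : χ Z = 0 := by
  have hS : (ShortComplex.mk (𝟙 Z) (𝟙 Z) (hZ.eq_of_src _ _)).ShortExact :=
      { exact := ShortComplex.exact_of_isZero_X₂ _ hZ
        mono_f := by dsimp; infer_instance
        epi_g := by dsimp; infer_instance }
  have := hadd _ hS (isFinLocFree_zero hZ) (isFinLocFree_zero hZ) ⟨𝟙 _, by simp⟩
  dsimp at this
  omega

include hiso hadd in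
/-- An invariant which is additive on split sequences, on the exterior powers of a split extension. -/
theorem sum_of_split {S : ShortComplex X.Modules} (hS : S.ShortExact)
    (h₁ : FlatMod.IsFinLocFree S.X₁) (h₃ : FlatMod.IsFinLocFree S.X₃)
    (s : S.X₃ ⟶ S.X₂) (hs : s ≫ S.g = 𝟙 _)
    (L' L'' : ℕ → X.Modules) {N : X.Modules}
    (hL' : ∀ i, ExtPow.IsExtPow i S.X₁ (L' i)) (n : ℕ)
    (hN : ExtPow.IsExtPow n S.X₂ N)
    (hL'' : ∀ i, ExtPow.IsExtPow i S.X₃ (L'' i)) :
    χ N = ∑ i ∈ Finset.range (n + 1), χ (CohB1.tensorMod (L' i) (L'' (n - i))) := by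
  have h₂ := isFinLocFree_of_shortExact hS h₁ h₃
  have hex : ∀ i, ∃ A : X.Modules, ExtPow.IsExtPow i S.X₂ A := fun i => by
    obtain ⟨A, -, hA⟩ := Groth.Agent.Krr.H495.ExtExist.exists_isExtPow i S.X₂ h₂
    exact ⟨A, hA⟩
  choose L hL using hex
  choose φ' hφ' using fun i => exists_phi (hL' i)
  choose φ hφ using fun i => exists_phi (hL i)
  choose φ'' hφ'' using fun i => exists_phi (hL'' i)
  choose l hl using fun q => exists_extMap S.g (φ q) (hφ q) (φ'' q) (hφ'' q)
  choose l' hl' using fun q => exists_extMap s (φ'' q) (hφ'' q) (φ q) (hφ q)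
  have hsec : ∀ q, l' q ≫ l q = 𝟙 _ := fun q => extMap_section S.g s hs (φ q) (φ'' q) (l q) (hl q) (l' q) (hl' q)
  choose m hm using fun (p q n : ℕ) (h : p + q = n) =>
    exists_extMul h S.f (φ' p) (hφ' p) (φ q) (hφ q) (φ n) (hφ n)
  have hfl' : ∀ i, FlatMod.IsFinLocFree (L' i) := fun i => isFinLocFree_of_isExtPow h₁ (hL' i)
  have hfl'' : ∀ i, FlatMod.IsFinLocFree (L'' i) := fun i => isFinLocFree_of_isExtPow h₃ (hL'' i)
  have hfl : ∀ i, FlatMod.IsFinLocFree (L i) := fun i => isFinLocFree_of_isExtPow h₂ (hL i)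
  have hσ : ∀ (p q n : ℕ) (h : p + q = n) (k : image (m p q n h) ⟶ CohB1.tensorMod (L' p) (L'' q))
      (hk : factorThruImage (m p q n h) ≫ k = tmap (L' p) (l q)),
      ∃ σ : CohB1.tensorMod (L' p) (L'' q) ⟶ image (m p q n h), σ ≫ k = 𝟙 _ := fun p q n h k hk =>
    ⟨tmap (L' p) (l' q) ≫ factorThruImage (m p q n h), by
      rw [Category.assoc, hk]
      exact tmap_section _ _ (hsec q)⟩
  have key : ∀ (q p n : ℕ) (h : p + q = n), FlatMod.IsFinLocFree (image (m p q n h)) ∧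
      χ (image (m p q n h)) =
      ∑ i ∈ Finset.range (q + 1), χ (CohB1.tensorMod (L' (p + i)) (L'' (q - i))) := by
    intro q
    induction q with
    | zero =>
      intro p n h
      obtain ⟨j, k, w, hex, hk⟩ := ses_base' hS h₃ h (φ' p) (φ 0) (φ'' 0) (φ n) (l 0) (hl 0)
        (m p 0 n h) (hm p 0 n h)
      have hz : IsZero (image (0 : (0 : X.Modules) ⟶ L n)) :=
        (isZero_zero _).of_iso (imageZero : _ ≅ (0 : X.Modules))
      have hQ := isFinLocFree_tensorMod (hfl' p) (hfl'' 0)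
      have hF : FlatMod.IsFinLocFree (image (m p 0 n h)) :=
        isFinLocFree_of_shortExact hex (isFinLocFree_zero hz) hQ
      refine ⟨hF, ?_⟩
      have := hadd _ hex (isFinLocFree_zero hz) hQ (hσ p 0 n h k hk)
      dsimp only at this
      rw [this, inv_zero χ hadd hz, zero_add]
      simp
    | succ q ih =>
      intro p n h
      have h' : p + 1 + q = n := by omega
      obtain ⟨j, k, w, hex, hk⟩ := ses_step' hS h₃ h h' (φ' p) (φ' (p + 1)) (φ (q + 1)) (φ q)
        (φ'' (q + 1)) (φ n) (l (q + 1)) (hl (q + 1)) (m p (q + 1) n h) (hm p (q + 1) n h)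
        (m (p + 1) q n h') (hm (p + 1) q n h')
      obtain ⟨hF', hcl⟩ := ih (p + 1) n h'
      have hQ := isFinLocFree_tensorMod (hfl' p) (hfl'' (q + 1))
      have hF : FlatMod.IsFinLocFree (image (m p (q + 1) n h)) :=
        isFinLocFree_of_shortExact hex hF' hQ
      refine ⟨hF, ?_⟩
      have := hadd _ hex hF' hQ (hσ p (q + 1) n h k hk)
      dsimp only at this
      rw [this, hcl, Finset.sum_range_succ' _ (q + 1)]
      congr 1
      refine Finset.sum_congr rfl fun i _ => ?_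
      congr 2
      · congr 1; omega
      · congr 1; omega
  have hn : 0 + n = n := zero_add n
  obtain ⟨hF, hcl⟩ := key n 0 n hn
  have hepi : Epi (m 0 n n hn) := by
    apply epi_of_locally_surjective
    intro U s x hx
    obtain ⟨_, ⟨W, rfl⟩, hxW, hW⟩ := Opens.isBasis_iff_nbhd.mp (affineBasis X) hx
    obtain ⟨t₁, ht₁⟩ := ExtAlg.mu_zero_surjective (M' := Sec S.X₁ W.1) hn (appS S.f W.1)
      (φ n W (res _ hW s))
    obtain ⟨t₂, rfl⟩ := (map_congr_injective (φ' 0) (φ n) W).2 t₁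
    refine ⟨W.1, hW, hxW, tau _ _ W.1 t₂, ?_⟩
    apply (φ n W).injective
    rw [hm 0 n n hn W, ht₁]
  have hiso' : IsIso (image.ι (m 0 n n hn)) := by
    have : Epi (image.ι (m 0 n n hn)) := epi_of_epi_fac (image.fac (m 0 n n hn))
    exact isIso_of_mono_of_epi _
  obtain ⟨e⟩ := TensorOps.nonempty_iso_of_isExtPow (Iso.refl S.X₂) hN (hL n)
  rw [hiso N (image (m 0 n n hn)) ⟨e ≪≫ (asIso (image.ι (m 0 n n hn))).symm⟩, hcl]
  refine Finset.sum_congr rfl fun i _ => ?_
  rw [zero_add]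

end Inv

end K882.ExtSplit
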