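import Groth.Agent.HodgeNum.K882.BlowPt
import Groth.Agent.CurvesC.ModDim
import Groth.Agent.S11317

/-!
# Smooth projective varieties and their Hodge numbers

`Vr k n`: smooth projective `k`-varieties of dimension `n`; `V.h p q`; `Bir V' V`: a `k`-morphism `V' ⟶ V` which is an
isomorphism over a nonempty open.
-/

set_option autoImplicit false
universe u

open CategoryTheory CategoryTheory.Limits AlgebraicGeometry TopologicalSpace Opposite

namespace K882.Frame

open K882.Coho K882.IsoMon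

/-- smooth projective varieties of dimension `n` -/
structure Vr (k : Type u) [Field k] (n : ℕ) where
  X : Scheme.{u}
  f : X ⟶ Spec (CommRingCat.of k)
  int : IsIntegral X
  sm : SmoothOfRelativeDimension n f
  N : ℕ
  ι : X ⟶ CohB1.ProjSpace N k
  ci : IsClosedImmersion ι
  hι : ι ≫ CohB1.ProjSpace.toSpec N k = f

attribute [instance] Vr.int Vr.sm Vr.ci

namespace Vr

variable {k : Type u} [Field k] {n : ℕ} (V : Vr k n)

noncomputable instance : V.X.Over (Spec (CommRingCat.of k)) := ⟨V.f⟩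

theorem over_eq : V.X ↘ Spec (CommRingCat.of k) = V.f := rfl

instance : IsProper V.f := by
  have := Groth.Agent.Ega3B.ProjProper.isProper_toSpec V.N k
  rw [← V.hι]
  infer_instance

instance : IsProper (V.X ↘ Spec (CommRingCat.of k)) := inferInstanceAs (IsProper V.f)

instance : SmoothOfRelativeDimension n (V.X ↘ Spec (CommRingCat.of k)) :=
  inferInstanceAs (SmoothOfRelativeDimension n V.f)

instance : Smooth V.f := SmoothOfRelativeDimension.smooth (n := n) V.f

theorem exists_ext (p : ℕ) : ∃ E : V.X.Modules, ExtPow.IsExtPow p (Omega.sheaf V.f) E := by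
  obtain ⟨L, -, hL⟩ := Groth.Agent.Krr.H495.ExtExist.exists_isExtPow p (Omega.sheaf V.f)
    (Groth.Agent.Vancyc.H878.OmegaRank.isFinLocFree_omega V.f)
  exact ⟨L, hL⟩

/-- an exterior power of the differentials -/
noncomputable def ext (p : ℕ) : V.X.Modules := (V.exists_ext p).choose

theorem isExtPow (p : ℕ) : ExtPow.IsExtPow p (Omega.sheaf V.f) (V.ext p) := (V.exists_ext p).choose_spec

/-- Hodge numbers -/
noncomputable def h (p q : ℕ) : ℕ := hd k (V.ext p) q

theorem hd_eq {p : ℕ} {E : V.X.Modules} (hE : ExtPow.IsExtPow p (Omega.sheaf V.f) E) (q : ℕ) :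
    hd k E q = V.h p q :=
  hd_iso (Groth.Agent.Sga67.TensorOps.nonempty_iso_of_isExtPow (Iso.refl _) hE (V.isExtPow p)) q

theorem h_zero (q : ℕ) : V.h 0 q = hd k (Coh.structureModule V.X) q :=
  (V.hd_eq (Groth.Agent.Sga67.TensorOps.isExtPow_zero _) q).symm

theorem h_one (q : ℕ) : V.h 1 q = hd k (Omega.sheaf V.f) q :=
  (V.hd_eq (Groth.Agent.Sga67.TensorOps.isExtPow_one _) q).symm

theorem h_dual [IsAlgClosed k] {p q : ℕ} (hp : p ≤ n) (hq : q ≤ n) : V.h p q = V.h (n - p) (n - q) :=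
  Groth.Agent.S11317.result k n V.N V.X V.ι V.hι p q hp hq _ _ (V.isExtPow p) (V.isExtPow (n - p))

/-- birational morphisms -/
def Bir (V' V : Vr k n) : Prop :=
  ∃ π : V'.X ⟶ V.X, π ≫ V.f = V'.f ∧ ∃ U : V.X.Opens, (U : Set V.X).Nonempty ∧ IsIso (π ∣_ U)

theorem Bir.refl : Bir V V := ⟨𝟙 _, Category.id_comp _, ⊤, ⟨Classical.arbitrary _, trivial⟩, inferInstance⟩

open Groth.Agent.CurvesC.ModDim in
theorem Bir.trans {V₁ V₂ V₃ : Vr k n} (h : Bir V₁ V₂) (h' : Bir V₂ V₃) : Bir V₁ V₃ := by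
  obtain ⟨π, hπ, V, hV, hfV⟩ := h
  obtain ⟨ρ, hρ, U, hU, hgU⟩ := h'
  obtain ⟨O, hO1, hO2, hO3⟩ := exists_open_le ρ U hU V hV
  have h1 : IsIso (ρ ∣_ O) := isIso_morphismRestrict_of_le ρ hO1
  have h2 : IsIso (π ∣_ (ρ ⁻¹ᵁ O)) := isIso_morphismRestrict_of_le π hO3
  refine ⟨π ≫ ρ, by rw [Category.assoc, hρ, hπ], O, hO2, ?_⟩
  rw [morphismRestrict_comp]
  exact IsIso.comp_isIso' h2 h1

end Vr

open Vr

variable {k : Type u} [Field k] {n : ℕ}

/-- `V'` is birational over `V`, with `h^{0,q}` unchanged and `h^{1,q}` raised by `d q`. -/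
def Step (d : ℕ → ℕ) (V' V : Vr k n) : Prop :=
  Bir V' V ∧ (∀ q, V'.h 0 q = V.h 0 q) ∧ ∀ q, V'.h 1 q = V.h 1 q + d q

theorem Step.refl (V : Vr k n) : Step (fun _ => 0) V V := ⟨Bir.refl V, fun _ => rfl, fun _ => rfl⟩

theorem Step.trans {V₁ V₂ V₃ : Vr k n} {d e : ℕ → ℕ} (h : Step d V₁ V₂) (h' : Step e V₂ V₃) :
    Step (fun q => e q + d q) V₁ V₃ :=
  ⟨h.1.trans h'.1, fun q => (h.2.1 q).trans (h'.2.1 q), fun q => by
    rw [h.2.2 q, h'.2.2 q, Nat.add_assoc]⟩

/-- iterating a step -/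
theorem Step.iterate {d : ℕ → ℕ} (H : ∀ V : Vr k n, ∃ V' : Vr k n, Step d V' V) (c : ℕ) (V : Vr k n) :
    ∃ V' : Vr k n, Step (fun q => c * d q) V' V := by
  induction c with
  | zero => exact ⟨V, by simpa using Step.refl V⟩
  | succ c ih =>
    obtain ⟨V₁, h₁⟩ := ih
    obtain ⟨V₂, h₂⟩ := H V₁
    refine ⟨V₂, ?_⟩
    have h := h₂.trans h₁
    have e : (fun q => c * d q + d q) = fun q => (c + 1) * d q := by
      funext q
      ring
    rwa [e] at h

end K882.Frame

namespace K882.Frame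

open Vr

variable {k : Type u} [Field k] {n : ℕ}

/-- the variety given by a scheme with its projective embedding -/
noncomputable def mk' (X : Scheme.{u}) [X.Over (Spec (CommRingCat.of k))] [IsIntegral X]
    [SmoothOfRelativeDimension n (X ↘ Spec (CommRingCat.of k))] {N : ℕ} (ι : X ⟶ CohB1.ProjSpace N k)
    [IsClosedImmersion ι] (hι : ι ≫ CohB1.ProjSpace.toSpec N k = X ↘ Spec (CommRingCat.of k)) : Vr k n :=
  ⟨X, X ↘ Spec (CommRingCat.of k), inferInstance, inferInstance, N, ι, inferInstance, hι⟩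

theorem finrank_mk' (X : Scheme.{u}) [X.Over (Spec (CommRingCat.of k))] [IsIntegral X]
    [SmoothOfRelativeDimension n (X ↘ Spec (CommRingCat.of k))] {N : ℕ} (ι : X ⟶ CohB1.ProjSpace N k)
    [IsClosedImmersion ι] (hι : ι ≫ CohB1.ProjSpace.toSpec N k = X ↘ Spec (CommRingCat.of k)) {p : ℕ}
    {E : X.Modules} (hE : ExtPow.IsExtPow p (Omega.sheaf (X ↘ Spec (CommRingCat.of k))) E) (q : ℕ) :
    Module.finrank k (Coh.HH X E q) = (mk' (n := n) X ι hι).h p q :=
  (mk' (n := n) X ι hι).hd_eq hE q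

/-- the Hodge numbers outside the inner square are unchanged by a step, in dimension at most three -/
theorem Step.outer [IsAlgClosed k] {d : ℕ → ℕ} {V' V : Vr k n} (H : Step d V' V) (h0 : d 0 = 0) (hn : d n = 0)
    (hn3 : n ≤ 3) {p q : ℕ} (hp : p ≤ n) (hq : q ≤ n) (h : p = 0 ∨ q = 0 ∨ p = n ∨ q = n) : V'.h p q = V.h p q := by
  by_cases hp0 : p = 0
  · subst hp0
    exact H.2.1 q
  by_cases hpn : p = n
  · subst hpn
    rw [V'.h_dual le_rfl hq, V.h_dual le_rfl hq, Nat.sub_self]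
    exact H.2.1 _
  have h1 : ∀ q, q = 0 ∨ q = n → V'.h 1 q = V.h 1 q := by
    rintro q (rfl | rfl)
    · rw [H.2.2, h0, Nat.add_zero]
    · rw [H.2.2, hn, Nat.add_zero]
  by_cases hp1 : p = 1
  · subst hp1
    exact h1 q (by omega)
  have h2 : n - p = 1 := by omega
  rw [V'.h_dual hp hq, V.h_dual hp hq, h2]
  exact h1 _ (by omega)

theorem exists_nat (m : ℕ) (hm : 2 ≤ m) (z : ℤ) : ∃ c : ℕ, ((c : ℤ) : ZMod m) = (z : ZMod m) := by
  have : NeZero m := ⟨by omega⟩
  refine ⟨(z : ZMod m).val, ?_⟩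
  rw [Int.cast_natCast, ZMod.natCast_zmod_val]

end K882.Frame
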