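import Groth.Agent.HodgeNum.K882.BlowOmega
import Groth.Agent.ArSurf.K482.DetSes
import Groth.Agent.Surf.K461.SerreDual
import Groth.Agent.Vancyc.H878.RelOmega
import Groth.Agent.Lefpen.H716.CIGeom
import Groth.Agent.S0458
import Groth.Agent.Krr.H487.ExtPull

/-!
# Cohomology of `Ω_{E/Z}` for a family of rational curves

`g : E ⟶ Z` smooth proper of relative dimension one, `g_* O = O`, `R^q g_* O = 0` for `q ≥ 1`, `Z` smooth proper over a
field: `h^(q+1)(E, Ω_{E/Z}) = h^q(Z, O)` and `h^0(E, Ω_{E/Z}) = 0`.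
-/

set_option autoImplicit false
universe u

open CategoryTheory CategoryTheory.Limits AlgebraicGeometry TopologicalSpace Opposite

namespace K882.RelDual

open K882.Coho K882.IsoMon K882.RelLeray K882.BlowOmega K882.Divisor

section Van

variable {k : Type u} [Field k] {X : Scheme.{u}} (p : X ⟶ Spec (CommRingCat.of k))

/-- Grothendieck vanishing on a smooth scheme. -/
theorem van_of_lt (n : ℕ) [SmoothOfRelativeDimension n p] [QuasiCompact p] (M : X.Modules) (q : ℕ) (hq : n < q) :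
    Van M q := by
  have hN : IsNoetherian (Spec (CommRingCat.of k)) := inferInstance
  have : Smooth p := SmoothOfRelativeDimension.smooth (n := n) p
  have hl : IsLocallyNoetherian X := LocallyOfFiniteType.isLocallyNoetherian p
  have hc : CompactSpace X := QuasiCompact.compactSpace_of_compactSpace p
  have hX : IsNoetherian X := { }
  have hs : TopologicalSpace.NoetherianSpace X.toTopCat :=
    (inferInstance : TopologicalSpace.NoetherianSpace X)
  exact Groth.Agent.S0458.result (X := X.toTopCat) n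
    (Groth.Agent.Lefpen.H716.CIGeom.topologicalKrullDim_le_of_smooth n p) (Coh.toAb M) q hq

end Van

variable {k : Type u} [Field k] {E Z : Scheme.{u}} [E.Over (Spec (CommRingCat.of k))]
  [Z.Over (Spec (CommRingCat.of k))] (g : E ⟶ Z)
  (hg : g ≫ (Z ↘ Spec (CommRingCat.of k)) = E ↘ Spec (CommRingCat.of k)) (m : ℕ)
  [hg1 : SmoothOfRelativeDimension 1 g] [hZm : SmoothOfRelativeDimension m (Z ↘ Spec (CommRingCat.of k))]
  [IsProper (Z ↘ Spec (CommRingCat.of k))] [IsProper g]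

include hg in
theorem smooth_E : SmoothOfRelativeDimension (m + 1) (E ↘ Spec (CommRingCat.of k)) := by
  rw [← hg, Nat.add_comm]
  infer_instance

/-- `ω_E = g^* ω_Z ⊗ Ω_{E/Z}`. -/
theorem c_omega {WZ : Z.Modules} (hWZ : ExtPow.IsExtPow m (Omega.sheaf (Z ↘ Spec (CommRingCat.of k))) WZ)
    {WE : E.Modules} (hWE : ExtPow.IsExtPow (m + 1) (Omega.sheaf (g ≫ (Z ↘ Spec (CommRingCat.of k)))) WE) :
    c WE = c ((Scheme.Modules.pullback g).obj WZ) * c (Omega.sheaf g) := by
  have : Smooth g := hg1.smooth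
  obtain ⟨C, hC, ⟨e1⟩, ⟨e2⟩, ⟨e3⟩⟩ := Groth.Agent.Vancyc.H878.RelOmega.exists_shortExact g (Z ↘ Spec (CommRingCat.of k))
  have hZ := Groth.Agent.Vancyc.H878.OmegaRank.isFinLocFreeOfRank_omega m (Z ↘ Spec (CommRingCat.of k))
  have hg' := Groth.Agent.Vancyc.H878.OmegaRank.isFinLocFreeOfRank_omega 1 g
  have h1 := Groth.Agent.Krr.H487.KerRank.isFinLocFreeOfRank_of_iso e1.symm
    (Groth.Agent.Vancyc.H878.Triv.isFinLocFreeOfRank_pullback g hZ)
  have h3 := Groth.Agent.Krr.H487.KerRank.isFinLocFreeOfRank_of_iso e3.symm hg'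
  have hZf := Groth.Agent.Krr.H487.KerRank.isFinLocFree_of_rank hZ
  have hp : ExtPow.IsExtPow m ((Scheme.Modules.pullback g).obj (Omega.sheaf (Z ↘ Spec (CommRingCat.of k))))
      ((Scheme.Modules.pullback g).obj WZ) := by
    refine Groth.Agent.Krr.H487.ExtPull.isExtPow_pullback _ hZf hWZ ?_
    obtain ⟨L', -, hL'⟩ := Groth.Agent.Krr.H495.ExtExist.exists_isExtPow m _
      (Groth.Agent.PerfB.FlatPull.isFinLocFree_pullback g hZf)
    exact ⟨L', hL'⟩
  obtain ⟨L1, hL1⟩ := exists_pows (Groth.Agent.Krr.H487.KerRank.isFinLocFree_of_rank h1)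
  obtain ⟨L2, hL2⟩ := exists_pows (Groth.Agent.Krr.H487.KerRank.isFinLocFree_of_rank
    (Groth.Agent.Krr.H487.KerRank.isFinLocFreeOfRank_mid hC h1 h3))
  have h := K482.DetSes.det_ses hC h1 h3 (hL1 m) (hL2 (m + 1))
    (Groth.Agent.Sga67.TensorOps.isExtPow_one C.X₃)
  rw [← c_eq_iff, c_tensor] at h
  rw [← c_extPow_unique (c_iso e2) (hL2 (m + 1)) hWE, ← h, c_extPow_unique (c_iso e1) (hL1 m) hp, c_iso e3]

theorem exists_top {X : Scheme.{u}} (p : X ⟶ Spec (CommRingCat.of k)) (n : ℕ) [SmoothOfRelativeDimension n p]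
    [IsSeparated p] : ∃ W : X.Modules, ExtPow.IsExtPow n (Omega.sheaf p) W ∧ FlatMod.IsFinLocFree W := by
  have : Smooth p := SmoothOfRelativeDimension.smooth (n := n) p
  obtain ⟨L, hL, hL'⟩ := Groth.Agent.Krr.H495.ExtExist.exists_isExtPow n (Omega.sheaf p)
    (Groth.Agent.Vancyc.H878.OmegaRank.isFinLocFree_omega p)
  exact ⟨L, hL', hL⟩

/-- `h^p(X, O) = h^{n-p}(X, ω)` -/
theorem hd_structure {X : Scheme.{u}} [X.Over (Spec (CommRingCat.of k))] [IsProper (X ↘ Spec (CommRingCat.of k))]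
    (n : ℕ) [SmoothOfRelativeDimension n (X ↘ Spec (CommRingCat.of k))] {W : X.Modules}
    (hW : ExtPow.IsExtPow n (Omega.sheaf (X ↘ Spec (CommRingCat.of k))) W) (q p : ℕ) (h : q + p = n) :
    hd k (Coh.structureModule X) p = hd k W q := by
  have hO : FlatMod.IsFinLocFree (Coh.structureModule X) := Groth.Agent.Sga67.TensorOps.isFinLocFree_structureModule
  have h1 := K461.SerreDual.finrank_eq k n hW (L := Coh.structureModule X) (L' := Coh.structureModule X)
    (c_eq_iff.1 (by rw [c_tensor, c_unit, mul_one])) (Groth.Agent.PerfA.QCohEpi.isQCoh_of_isFinLocFree hO) q p h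
  refine h1.trans (hd_iso (c_eq_iff.1 ?_) q)
  rw [c_tensor, c_unit, mul_one]

variable (hR : ∀ q, 1 ≤ q → IsZero ((Coh.Rpush g q).obj (Coh.structureModule E)))
  (hO : c ((Scheme.Modules.pushforward g).obj (Coh.structureModule E)) = 1)

include hg hR hO in
theorem hd_rel_aux {WZ : Z.Modules} (hWZ : ExtPow.IsExtPow m (Omega.sheaf (Z ↘ Spec (CommRingCat.of k))) WZ)
    (hWZf : FlatMod.IsFinLocFree WZ) (q p : ℕ) (h : q + p = m + 1) :
    hd k (Omega.sheaf g) p = hd k WZ q := by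
  have hsE := smooth_E g hg m
  have hpE : IsProper (E ↘ Spec (CommRingCat.of k)) := by rw [← hg]; infer_instance
  obtain ⟨WE, hWE, hWEf⟩ := exists_top (E ↘ Spec (CommRingCat.of k)) (m + 1)
  have hWE' : ExtPow.IsExtPow (m + 1) (Omega.sheaf (g ≫ (Z ↘ Spec (CommRingCat.of k)))) WE := by rwa [hg]
  have hc := c_omega g m hWZ hWE'
  have hg' := Groth.Agent.Vancyc.H878.OmegaRank.isFinLocFreeOfRank_omega 1 g
  have hinv : PicF.IsInvertible (Omega.sheaf g) := Groth.Agent.Ega2.QCohLocal.isFinLocFreeOfRank_one_iff.mp hg'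
  obtain ⟨L', hL', e⟩ := Groth.Agent.Grpsch.PicGrp.exists_inverse hinv
  have h1 := K461.SerreDual.finrank_eq k (m + 1) hWE e
    (Groth.Agent.PerfA.QCohEpi.isQCoh_of_isFinLocFree (flf_of_inv hinv)) q p h
  refine h1.trans ((hd_iso (c_eq_iff.1 ?_) q).trans (hd_pull g k hg hR hO hWZf q))
  have h2 : c (Omega.sheaf g) * c L' = 1 := by
    rw [← c_tensor, ← c_unit, c_eq_iff]
    exact e
  rw [c_tensor, hc, mul_assoc, h2, mul_one]

include hg hR hO hg1 hZm in
theorem hd_rel_succ (q : ℕ) : hd k (Omega.sheaf g) (q + 1) = hd k (Coh.structureModule Z) q := by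
  obtain ⟨WZ, hWZ, hWZf⟩ := exists_top (Z ↘ Spec (CommRingCat.of k)) m
  rcases Nat.lt_or_ge m q with h | h
  · have hsE := smooth_E g hg m
    have hpE : IsProper (E ↘ Spec (CommRingCat.of k)) := by rw [← hg]; infer_instance
    rw [hd_of_van (van_of_lt (E ↘ Spec (CommRingCat.of k)) (m + 1) _ (q + 1) (by omega)),
      hd_of_van (van_of_lt (Z ↘ Spec (CommRingCat.of k)) m _ q h)]
  · rw [hd_rel_aux g hg m hR hO hWZ hWZf (m - q) (q + 1) (by omega), hd_structure m hWZ (m - q) q (by omega)]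

include hg hR hO hg1 hZm in
theorem hd_rel_zero : hd k (Omega.sheaf g) 0 = 0 := by
  obtain ⟨WZ, hWZ, hWZf⟩ := exists_top (Z ↘ Spec (CommRingCat.of k)) m
  rw [hd_rel_aux g hg m hR hO hWZ hWZf (m + 1) 0 (by omega),
    hd_of_van (van_of_lt (Z ↘ Spec (CommRingCat.of k)) m _ (m + 1) (by omega))]

end K882.RelDual
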