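import Groth.Agent.HodgeNum.K882.SmoothRank
import Groth.Agent.HodgeNum.K882.RelDual
import Groth.Agent.Pic13.K243.ZeroInv
import Groth.Agent.Coherent.K850.RegSec
import Groth.Agent.ProjDual.K271.Bott
import Groth.Agent.Lefpen.H717.ProjIrr
import Groth.Agent.Sga2lef.H24.ToPn
import Groth.Agent.RelAmple.K658.TensorVery
import Groth.Agent.Ega2.H296.PnGen
import Groth.Agent.S15554

/-!
# A smooth hypersurface of degree `r + 1` in `P^r`

`exists_hyp`: `Z ⊆ P^(s+1)` smooth of dimension `s ≥ 1` with `h^q(Z, O) = 1` for `q = 0, s` and `0` otherwise.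
-/

set_option autoImplicit false
universe u

open CategoryTheory CategoryTheory.Limits AlgebraicGeometry TopologicalSpace Opposite

namespace K882.Hyp

open K882.Coho K882.IsoMon K882.Divisor

section Very

variable (r : ℕ) (k : Type u) [Field k]

theorem veryAmple_one : RelAmple.IsRelVeryAmplePn (CohB1.ProjSpace.toSpec r k) (Twist.twistProjSpace r k 1) := by
  have hc : IsIso (Groth.Agent.Ega3A.PChart.chart r (𝟙 (Spec (CommRingCat.of k)))) :=
    (Groth.Agent.Ega3A.PChart.isPullback_chart r (𝟙 (Spec (CommRingCat.of k)))).isIso_fst_of_isIso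
  refine ⟨r, Groth.Agent.Ega3A.PChart.chart r (𝟙 (Spec (CommRingCat.of k))), inferInstance, ?_,
    ⟨(Groth.Agent.Ega3A.PChart.chartTwistIso r (𝟙 (Spec (CommRingCat.of k))) 1).symm⟩⟩
  have h1 := Groth.Agent.Ega3A.PChart.chart_toBase r (𝟙 (Spec (CommRingCat.of k)))
  rw [Category.comp_id] at h1
  exact h1

theorem veryAmple_iso {X S : Scheme.{u}} {f : X ⟶ S} {L L' : X.Modules} (h : c L = c L')
    (hL : RelAmple.IsRelVeryAmplePn f L) : RelAmple.IsRelVeryAmplePn f L' := by
  obtain ⟨n, i, h1, h2, ⟨e⟩⟩ := hL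
  obtain ⟨e'⟩ := c_eq_iff.1 h
  exact ⟨n, i, h1, h2, ⟨e'.symm ≪≫ e⟩⟩

theorem inv_one : PicF.IsInvertible (Twist.twistProjSpace r k 1) :=
  Groth.Agent.Ega3B.ProjFrame.isInvertible_twistProjSpace r k 1

theorem c_pull_id {X : Scheme.{u}} (M : X.Modules) : c ((Scheme.Modules.pullback (𝟙 X)).obj M) = c M :=
  c_iso ((Scheme.Modules.pullbackId X).app M)

theorem veryAmple_pow (d : ℕ) : RelAmple.IsRelVeryAmplePn (CohB1.ProjSpace.toSpec r k)
    (CohB1.tensorPow (Twist.twistProjSpace r k 1) (d + 1)) := by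
  induction d with
  | zero =>
    refine veryAmple_iso ?_ (veryAmple_one r k)
    rw [c_pow, Nat.zero_add, pow_one]
  | succ d ih =>
    have h := K658.TensorVery.main _ _ _ ih
      (Groth.Agent.Ega2.H296.PnGen.isInvertible_pullback_twist (𝟙 (CohB1.ProjSpace r k)))
      _ (Groth.Agent.Ega2.H296.PnGen.generatedBy_pullSec (𝟙 (CohB1.ProjSpace r k)))
    refine veryAmple_iso ?_ h
    rw [c_tensor, c_pull_id, c_pow, c_pow, ← pow_succ]

end Very

section Exists

variable (r : ℕ) (k : Type u) [Field k] [Infinite k]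

theorem exists_divisor (d : ℕ) : ∃ D : (CohB1.ProjSpace r k).IdealSheafData,
    Smooth (D.subschemeι ≫ CohB1.ProjSpace.toSpec r k) ∧ BlowUp.IsEffCartierIdeal D ∧
      c (Twist.twistProjSpace r k 1) ^ (d + 1) * c (ClSub.idealMod D) = 1 := by
  have hpr := Groth.Agent.Ega3B.ProjProper.isProper_toSpec r k
  obtain ⟨M, j, hj, hjf, ⟨e⟩⟩ := Groth.Agent.Sga2lef.H24.ToPn.exists_closedImmersion _ _ (veryAmple_pow r k d)
  have hsm : Smooth (CohB1.ProjSpace.toSpec r k) :=
    SmoothOfRelativeDimension.smooth (n := r) _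
  have : Smooth (j ≫ CohB1.ProjSpace.toSpec M k) := by rw [hjf]; exact hsm
  obtain ⟨s, ⟨x, hx⟩, hs⟩ := Groth.Agent.S15554.result k M (CohB1.ProjSpace r k) j
  set H := PicF2.zeroScheme (Twist.twistProjSpace M k 1) s with hH
  have hinv := inv_one M k
  have hinv' := Groth.Agent.Fdesc.LocGen.isInvertible_pullback j hinv
  obtain ⟨t, hD⟩ : ∃ t, H.comap j = PicF2.zeroScheme ((Scheme.Modules.pullback j).obj (Twist.twistProjSpace M k 1)) t :=
    ⟨_, K850.RegSec.comap_zeroScheme j hinv s⟩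
  have hne : t ≠ 0 := by
    intro h0
    apply hx
    obtain ⟨U, hU, hxU, -, e, he⟩ := Groth.Agent.Pi1C.ZeroScheme.exists_affine_isGen hinv' ⊤ x trivial
    have h1 := Groth.Agent.Pi1C.ZeroScheme.ideal_eq_span t hinv' ⟨U, hU⟩ he
      (c := 0) (by rw [h0, zero_smul]; rfl)
    have h2 : x ∈ (H.comap j).support := by
      rw [hD, Scheme.IdealSheafData.mem_support_iff_of_mem (U := ⟨U, hU⟩) hxU, h1]
      simp
    rw [Scheme.IdealSheafData.support_comap] at h2
    exact h2
  refine ⟨H.comap j, ?_, ?_, ?_⟩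
  · have h1 : (H.comap j).subschemeι = (H.comapIso j).hom ≫ pullback.fst j H.subschemeι := by
      simp
    rw [h1, Category.assoc, ← hjf]
    infer_instance
  · rw [hD]
    exact K243.ZeroInv.isEffCartier_zeroScheme hinv' _ hne
  · have h1 := K243.ZeroInv.isInverseOf_idealMod hinv' _ hne
    rw [isInverseOf_iff] at h1
    rw [hD, ← c_pow, c_iso e]
    exact h1

end Exists

section Cohomology

variable {k : Type u} [Field k]

theorem van_of_hd {X : Scheme.{u}} [X.Over (Spec (CommRingCat.of k))] {M : X.Modules} {q : ℕ} (hf : FinD k M q)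
    (h : hd k M q = 0) : Van M q := by
  rw [van_iff (k := k)]
  rw [finD_iff] at hf
  exact (@Module.finrank_zero_iff k _ _ _ _ _ hf _).1 h

theorem isInverse_tw (r : ℕ) : c (Twist.twistProjSpace r k (-1)) * c (Twist.twistProjSpace r k 1) = 1 :=
  isInverseOf_iff.1 (Groth.Agent.Sga2lef.H24.ToPn.isInverseOf_tw r k)

theorem c_tw_neg (r d : ℕ) : c (Twist.twistProjSpace r k (-(d : ℤ))) = c (Twist.twistProjSpace r k (-1)) ^ d := by
  rw [← c_pow]
  exact (c_eq_iff.2 (Groth.Agent.Sga2lef.H24.ToPn.nonempty_tensorPow_tw r k d)).symm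

theorem eq_of_mul_eq_one {M : Type*} [CommMonoid M] {a b d : M} (h1 : a * b = 1) (h2 : d * a = 1) : b = d := by
  rw [← one_mul b, ← h2, mul_assoc, h1, mul_one]

theorem c_one_tensor {X : Scheme.{u}} (M : X.Modules) : c (CohB1.tensorMod (Coh.structureModule X) M) = c M := by
  rw [c_tensor, c_unit, one_mul]

theorem hd_line (r q : ℕ) (hq : q ≤ r) (d : ℤ) {M : (CohB1.ProjSpace r k).Modules}
    (hM : c M = c (Twist.twistProjSpace r k d)) : hd k M q =
      if 0 < d then
        (if q = 0 then Nat.choose (d.toNat + r - 0) d.toNat * Nat.choose (d.toNat - 1) 0 else 0)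
      else if d < 0 then
        (if q = r then Nat.choose ((-d).toNat + 0) (-d).toNat * Nat.choose ((-d).toNat - 1) (r - 0) else 0)
      else if q = 0 then 1 else 0 := by
  rw [← K271.Bott.finrank_eq k r (Nat.zero_le r) hq (Groth.Agent.Sga67.TensorOps.isExtPow_zero _) d]
  refine hd_iso (c_eq_iff.1 ?_) q
  rw [hM, c_one_tensor]

/-- cohomology of `O` on projective space -/
theorem hd_O (r q : ℕ) {M : (CohB1.ProjSpace r k).Modules} (hM : c M = 1) (hf : FlatMod.IsFinLocFree M) :
    hd k M q = if q = 0 then 1 else 0 := by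
  rcases Nat.lt_or_ge r q with h | h
  · have hpr := Groth.Agent.Ega3B.ProjProper.isProper_toSpec r k
    rw [hd_of_van (RelDual.van_of_lt (CohB1.ProjSpace.toSpec r k) r M q h), if_neg (by omega)]
  · have h0 : c M = c (Twist.twistProjSpace r k ((0 : ℕ) : ℤ)) := by
      have h2 := c_tw_neg (k := k) r 0
      rw [pow_zero, Nat.cast_zero, neg_zero] at h2
      rw [hM, Nat.cast_zero, h2]
    rw [hd_line r q h _ h0]
    simp

/-- cohomology of `O(-r-1)` on `P^r` -/
theorem hd_can (r q : ℕ) {M : (CohB1.ProjSpace r k).Modules}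
    (hM : c M = c (Twist.twistProjSpace r k (-((r + 1 : ℕ) : ℤ)))) :
    hd k M q = if q = r then 1 else 0 := by
  rcases Nat.lt_or_ge r q with h | h
  · have hpr := Groth.Agent.Ega3B.ProjProper.isProper_toSpec r k
    rw [hd_of_van (RelDual.van_of_lt (CohB1.ProjSpace.toSpec r k) r M q h), if_neg (by omega)]
  · rw [hd_line r q h _ hM]
    have h1 : ¬ (0 < (-((r + 1 : ℕ) : ℤ))) := by omega
    have h2 : (-((r + 1 : ℕ) : ℤ)) < 0 := by omega
    rw [if_neg h1, if_pos h2, neg_neg, Int.toNat_natCast]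
    simp

end Cohomology

section Main

variable {k : Type u} [Field k] [Infinite k]

/-- A smooth hypersurface of degree `s + 2` in `P^(s+1)`. -/
theorem exists_hyp (s : ℕ) (hs : 1 ≤ s) : ∃ D : (CohB1.ProjSpace (s + 1) k).IdealSheafData,
    SmoothOfRelativeDimension s (D.subschemeι ≫ CohB1.ProjSpace.toSpec (s + 1) k) ∧
    ∀ (_ : D.subscheme.Over (Spec (CommRingCat.of k))), D.subschemeι ≫ CohB1.ProjSpace.toSpec (s + 1) k =
      D.subscheme ↘ Spec (CommRingCat.of k) → ∀ q, hd k (Coh.structureModule D.subscheme) q =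
        (if q = 0 then 1 else 0) + (if q = s then 1 else 0) := by
  obtain ⟨D, hsm, hD, hc⟩ := exists_divisor (s + 1) k (s + 1)
  have hpr := Groth.Agent.Ega3B.ProjProper.isProper_toSpec (s + 1) k
  have hpr' : IsProper (CohB1.ProjSpace (s + 1) k ↘ Spec (CommRingCat.of k)) := hpr
  have hI : PicF.IsInvertible (ClSub.idealMod D) := Groth.Agent.Dix.IdealModCartier.isInvertible_idealMod hD
  have hIf := flf_of_inv hI
  have hIc : c (ClSub.idealMod D) = c (Twist.twistProjSpace (s + 1) k (-((s + 1 + 1 : ℕ) : ℤ))) := by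
    rw [c_tw_neg]
    refine eq_of_mul_eq_one hc ?_
    rw [← mul_pow, isInverse_tw, one_pow]
  have hcon : FlatMod.IsFinLocFreeOfRank 1 (Omega.conormal D.subschemeι) := by
    have hker : D.subschemeι.ker = D := D.ker_subschemeι
    rw [Omega.conormal, hker, Groth.Agent.Ega2.QCohLocal.isFinLocFreeOfRank_one_iff]
    exact Groth.Agent.Fdesc.LocGen.isInvertible_pullback D.subschemeι hI
  refine ⟨D, SmoothRank.smooth_of_conormal D.subschemeι _ s hcon, ?_⟩
  intro hover hcomp q
  have hO : FlatMod.IsFinLocFree (Coh.structureModule (CohB1.ProjSpace (s + 1) k)) :=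
    Groth.Agent.Sga67.TensorOps.isFinLocFree_structureModule
  have hS := Groth.Agent.VarietyB.RestrSeq.restrSeq_shortExact
    (Groth.Agent.VarietyB.TensCoh.HasBases.of_isFinLocFree hO) D
  set S := Groth.Agent.VarietyB.RestrSeq.restrSeq
    (Groth.Agent.VarietyB.TensCoh.HasBases.of_isFinLocFree hO) D with hSdef
  have h1 : ∀ q, hd k S.X₁ q = if q = s + 1 then 1 else 0 := fun q =>
    hd_can (s + 1) q (by
      change c (CohB1.tensorMod (Coh.structureModule _) (ClSub.idealMod D)) = _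
      rw [c_one_tensor, hIc])
  have h2 : ∀ q, hd k S.X₂ q = if q = 0 then 1 else 0 := fun q => hd_O (s + 1) q rfl hO
  have h3 : ∀ q, hd k S.X₃ q = hd k (Coh.structureModule D.subscheme) q := fun q => by
    change hd k ((Scheme.Modules.pushforward D.subschemeι).obj ((Scheme.Modules.pullback D.subschemeι).obj
      (Coh.structureModule _))) q = _
    rw [hd_push k D.subschemeι hcomp]
    exact hd_iso (c_eq_iff.1 (c_pull_unit _)) q
  have v1 : ∀ q, q ≠ s + 1 → Van S.X₁ q := fun q hq =>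
    van_of_hd (BlowOmega.finD_flf (flf_tensor hO hIf) q) (by rw [h1, if_neg hq])
  have v2 : ∀ q, q ≠ 0 → Van S.X₂ q := fun q hq =>
    van_of_hd (BlowOmega.finD_flf hO q) (by rw [h2, if_neg hq])
  rw [← h3]
  by_cases hq0 : q = 0
  · subst hq0
    rw [← hd₂₃ hS 0 (v1 0 (by omega)) (v1 1 (by omega)), h2, if_pos rfl, if_neg (by omega)]
  by_cases hqs : q = s
  · subst hqs
    rw [hd₃₁ hS q (v2 q hq0) (v2 (q + 1) (by omega)), h1, if_pos rfl, if_neg hq0, if_pos rfl]
  rw [hd_of_van (van₃ hS q (v2 q hq0) (v1 (q + 1) (by omega))), if_neg hq0, if_neg hqs]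

end Main

end K882.Hyp
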