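import Groth.Agent.HodgeNum.K882.ProdHodge
import Mathlib.LinearAlgebra.FreeModule.Finite.Basic

/-!
# Hodge numbers of a product, given the linear Künneth isomorphism
-/

set_option autoImplicit false
universe u

open CategoryTheory CategoryTheory.Limits AlgebraicGeometry TopologicalSpace
open scoped TensorProduct
open K882.Coho K882.IsoMon K882.Divisor

namespace K882.KunnethNum

theorem finrank_pi_tensor {k : Type u} [Field k] (n : ℕ) (A B : ℕ → Type u) [∀ i, AddCommGroup (A i)]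
    [∀ i, Module k (A i)] [∀ i, AddCommGroup (B i)] [∀ i, Module k (B i)] [∀ i, Module.Finite k (A i)]
    [∀ i, Module.Finite k (B i)] :
    Module.finrank k (Π p : Fin (n + 1), A (p : ℕ) ⊗[k] B (n - (p : ℕ))) =
      ∑ j ∈ Finset.range (n + 1), Module.finrank k (A j) * Module.finrank k (B (n - j)) := by
  rw [Module.finrank_pi_fintype, Finset.sum_range]
  exact Finset.sum_congr rfl fun i _ => Module.finrank_tensorProduct

/-- The linear Künneth isomorphism, as a statement. -/
def Kun (k : Type u) [Field k] : Prop :=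
  ∀ (X : Scheme.{u}) [X.Over (Spec (CommRingCat.of k))] [CompactSpace ↥X]
    [IsAffineHom (pullback.diagonal (X ↘ (Spec (CommRingCat.of k))))]
    (Y : Scheme.{u}) [Y.Over (Spec (CommRingCat.of k))] [CompactSpace ↥Y]
    [IsAffineHom (pullback.diagonal (Y ↘ (Spec (CommRingCat.of k))))]
    (F : X.Modules) (_ : Coh.IsQCoh F) (G : Y.Modules) (_ : Coh.IsQCoh G) (n : ℕ),
    letI : (pullback (X ↘ (Spec (CommRingCat.of k))) (Y ↘ (Spec (CommRingCat.of k)))).Over (Spec (CommRingCat.of k)) :=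
      ⟨pullback.fst (X ↘ (Spec (CommRingCat.of k))) (Y ↘ (Spec (CommRingCat.of k))) ≫ (X ↘ (Spec (CommRingCat.of k)))⟩
    Nonempty ((Π p : Fin (n + 1), Coh.HH X F (p : ℕ) ⊗[k] Coh.HH Y G (n - (p : ℕ))) ≃ₗ[k]
      Coh.HH (pullback (X ↘ (Spec (CommRingCat.of k))) (Y ↘ (Spec (CommRingCat.of k))))
        (CohB1.tensorMod ((Scheme.Modules.pullback (pullback.fst (X ↘ (Spec (CommRingCat.of k)))
          (Y ↘ (Spec (CommRingCat.of k))))).obj F)
          ((Scheme.Modules.pullback (pullback.snd (X ↘ (Spec (CommRingCat.of k)))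
          (Y ↘ (Spec (CommRingCat.of k))))).obj G)) n)

theorem hd_kunneth (k : Type u) [Field k] (K : Kun.{u} k) (X Y : Scheme.{u}) [X.Over (Spec (CommRingCat.of k))]
    [Y.Over (Spec (CommRingCat.of k))] [IsProper (X ↘ (Spec (CommRingCat.of k)))]
    [IsProper (Y ↘ (Spec (CommRingCat.of k)))]
    [inst : (pullback (X ↘ Spec (CommRingCat.of k)) (Y ↘ Spec (CommRingCat.of k))).Over (Spec (CommRingCat.of k))]
    (hover : pullback (X ↘ Spec (CommRingCat.of k)) (Y ↘ Spec (CommRingCat.of k)) ↘ Spec (CommRingCat.of k) =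
      pullback.fst (X ↘ Spec (CommRingCat.of k)) (Y ↘ Spec (CommRingCat.of k)) ≫ (X ↘ Spec (CommRingCat.of k)))
    (F : X.Modules) (hF : FlatMod.IsFinLocFree F) (G : Y.Modules) (hG : FlatMod.IsFinLocFree G) (n : ℕ) :
    hd k (CohB1.tensorMod ((Scheme.Modules.pullback (pullback.fst (X ↘ Spec (CommRingCat.of k))
      (Y ↘ Spec (CommRingCat.of k)))).obj F) ((Scheme.Modules.pullback (pullback.snd (X ↘ Spec (CommRingCat.of k))
      (Y ↘ Spec (CommRingCat.of k)))).obj G)) n =
      ∑ j ∈ Finset.range (n + 1), hd k F j * hd k G (n - j) := by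
  have hX : CompactSpace X := QuasiCompact.compactSpace_of_compactSpace (X ↘ (Spec (CommRingCat.of k)))
  have hY : CompactSpace Y := QuasiCompact.compactSpace_of_compactSpace (Y ↘ (Spec (CommRingCat.of k)))
  have hi : inst = ⟨pullback.fst (X ↘ (Spec (CommRingCat.of k))) (Y ↘ (Spec (CommRingCat.of k))) ≫
    (X ↘ (Spec (CommRingCat.of k)))⟩ := by
    cases inst
    congr 1
  subst hi
  obtain ⟨e⟩ := K X Y F (Groth.Agent.PerfA.CohSerre.isCoh_of_isFinLocFree hF).1 G
    (Groth.Agent.PerfA.CohSerre.isCoh_of_isFinLocFree hG).1 n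
  have h1 : ∀ i, Module.Finite k (Coh.HH X F i) := K882.ProdHodge.finD_flf hF
  have h2 : ∀ i, Module.Finite k (Coh.HH Y G i) := K882.ProdHodge.finD_flf hG
  letI : (pullback (X ↘ Spec (CommRingCat.of k)) (Y ↘ Spec (CommRingCat.of k))).Over (Spec (CommRingCat.of k)) :=
    ⟨pullback.fst (X ↘ (Spec (CommRingCat.of k))) (Y ↘ (Spec (CommRingCat.of k))) ≫ (X ↘ (Spec (CommRingCat.of k)))⟩
  have h3 := finrank_pi_tensor (k := k) n (Coh.HH X F) (Coh.HH Y G)
  exact (LinearEquiv.finrank_eq e).symm.trans h3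

end K882.KunnethNum
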