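import Groth.Agent.HodgeNum.K882.Second
import Groth.Agent.HodgeNum.K108.PtHodge

/-!
# The blow-up of a point raises the inner diagonal Hodge numbers by one
-/

set_option autoImplicit false
universe u

open CategoryTheory CategoryTheory.Limits AlgebraicGeometry TopologicalSpace Opposite

namespace K882.PointStep

open K882.Frame K882.Frame.Vr K882.Second

variable {k : Type u} [Field k] [IsAlgClosed k]

theorem exists_pstep {r : ℕ} (V : Vr k (r + 1)) : ∃ V' : Vr k (r + 1), PStep 1 V' V := by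
  obtain ⟨x, hx⟩ := K882.Steps.exists_point V.f
  obtain ⟨X₁, b, i, N₁, ι₁, hb, hM, hsm, hci, hι, hsq, hi, hker, -⟩ :=
    Groth.Agent.HodgeNum.K108.PointBlow.exists_blowUp r V.N V.f V.ι V.hι x hx
  have hint := hM.integral
  let _ : X₁.Over (Spec (CommRingCat.of k)) := ⟨b ≫ V.f⟩
  let V' : Vr k (r + 1) := ⟨X₁, b ≫ V.f, hint, hsm, N₁, ι₁, hci, hι⟩
  have hV : Groth.Agent.HodgeNum.K108.Tower.IsVar r V.f := ⟨V.int, V.sm, V.N, V.ι, V.ci, V.hι⟩
  refine ⟨V', ⟨b, rfl, hM.exists_isIso⟩, fun p q _ _ => ?_⟩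
  have h := Groth.Agent.HodgeNum.K108.PtHodge.hodgeStep k r V.f hV x hx b hb p q (V'.ext p) (V'.isExtPow p)
    (V.ext p) (V.isExtPow p)
  have e : (if p = q ∧ 1 ≤ p ∧ p + 1 ≤ r + 1 then 1 else 0) = if p = q ∧ 1 ≤ p ∧ p ≤ r then 1 else 0 := by
    simp only [Nat.add_le_add_iff_right]
  rw [e]
  exact h

end K882.PointStep
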