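import Groth.Agent.HodgeNum.K882.ExtSplit
import Groth.Agent.HodgeNum.K882.OmegaProd
import Groth.Agent.HodgeNum.K882.Coho2
import Groth.Agent.HodgeNum.K882.Divisor
import Groth.Agent.Picfga.CurveRelDim
import Groth.Agent.PerfA.CohSerre
import Groth.Agent.S0002

/-!
# Hodge numbers of a product, up to the Künneth formula

`exists_relDim`; `finD_flf`: finiteness of the cohomology of a finite locally free module on a proper scheme;
`hd_extPow_biprod`; `hd_prod`: `h^q(X ×_k Y, Ω^p) = ∑_i h^q(p₁^* Ω^i_X ⊗ p₂^* Ω^(p-i)_Y)`.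
-/

set_option autoImplicit false
universe u

open CategoryTheory CategoryTheory.Limits AlgebraicGeometry TopologicalSpace
open K882.Coho K882.IsoMon K882.Divisor

namespace K882.ProdHodge

/-- An integral scheme smooth over a field is smooth of some relative dimension. -/
theorem exists_relDim (k : Type u) [Field k] (X : Scheme.{u}) (f : X ⟶ Spec (CommRingCat.of k))
    [Smooth f] [IsIntegral X] : ∃ n : ℕ, SmoothOfRelativeDimension n f := by
  choose m V hV hxV hsm hdim hbasic using Groth.Agent.Picfga.CurveRelDim.exists_local_data k X f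
  have hconst : ∀ x y, m x = m y := by
    intro x y
    obtain ⟨z, hz⟩ := nonempty_preirreducible_inter (V x).2 (V y).2 ⟨x, hxV x⟩ ⟨y, hxV y⟩
    obtain ⟨a, b, hab, hza⟩ := exists_basicOpen_le_affine_inter (hV x) (hV y) z hz
    have h1 := hbasic x a ⟨z, hza⟩
    have h2 := hbasic y b ⟨z, hab ▸ hza⟩
    rw [← hab, h1] at h2
    exact_mod_cast h2
  have : Nonempty X := inferInstance
  obtain ⟨x₀⟩ := this
  refine ⟨m x₀, ⟨fun x => ?_⟩⟩
  obtain ⟨U, hU, e, hs⟩ := hsm x
  rw [hconst x x₀] at hs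
  exact ⟨U, hU, V x, hV x, hxV x, e, hs⟩

/-- cohomology of finite locally free modules on a proper scheme is finite dimensional -/
theorem finD_flf {k : Type u} [Field k] {X : Scheme.{u}} [X.Over (Spec (CommRingCat.of k))]
    [IsProper (X ↘ Spec (CommRingCat.of k))] {M : X.Modules} (hM : FlatMod.IsFinLocFree M) (q : ℕ) :
    FinD k M q := Groth.Agent.S0002.result k X M (Groth.Agent.PerfA.CohSerre.isCoh_of_isFinLocFree hM) q

theorem finD_coh {k : Type u} [Field k] {X : Scheme.{u}} [X.Over (Spec (CommRingCat.of k))]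
    [IsProper (X ↘ Spec (CommRingCat.of k))] {M : X.Modules} (hM : Coh.IsCoh M) (q : ℕ) :
    FinD k M q := Groth.Agent.S0002.result k X M hM q

/-- exterior powers of a direct sum, numerically -/
theorem hd_extPow_biprod {k : Type u} [Field k] {P : Scheme.{u}} [P.Over (Spec (CommRingCat.of k))]
    [IsProper (P ↘ Spec (CommRingCat.of k))] {A B O N : P.Modules} (hA : FlatMod.IsFinLocFree A)
    (hB : FlatMod.IsFinLocFree B) (e : Nonempty (A ⊞ B ≅ O)) (LA LB : ℕ → P.Modules)
    (hLA : ∀ i, ExtPow.IsExtPow i A (LA i)) (hLB : ∀ i, ExtPow.IsExtPow i B (LB i)) (p q : ℕ)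
    (hN : ExtPow.IsExtPow p O N) :
    hd k N q = ∑ i ∈ Finset.range (p + 1), hd k (CohB1.tensorMod (LA i) (LB (p - i))) q := by
  obtain ⟨e⟩ := e
  let S : ShortComplex P.Modules := ShortComplex.mk (biprod.inl : A ⟶ A ⊞ B) biprod.snd biprod.inl_snd
  have sp : S.Splitting :=
    { r := biprod.fst
      s := biprod.inr
      f_r := biprod.inl_fst
      s_g := biprod.inr_snd
      id := biprod.total }
  have hS : S.ShortExact := sp.shortExact
  have hAB : FlatMod.IsFinLocFree (A ⊞ B) :=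
    Groth.Agent.Sga67.LocBasis.isFinLocFree_of_shortExact (S := S) hS hA hB
  obtain ⟨N', -, hN'⟩ := Groth.Agent.Krr.H495.ExtExist.exists_isExtPow p (A ⊞ B) hAB
  rw [hd_iso (Groth.Agent.Sga67.TensorOps.nonempty_iso_of_isExtPow e.symm hN hN') q]
  exact K882.ExtSplit.sum_of_split (fun M => hd k M q) (fun M N h => hd_iso h q)
    (fun T hT h1 h3 ⟨σ, hσ⟩ => hd_of_section hT σ hσ q (finD_flf h1 q) (finD_flf h3 q))
    (S := S) hS hA hB sp.s sp.s_g LA LB hLA p hN' hLB

theorem hd_prod (k : Type u) [Field k] (X Y : Scheme.{u}) (f : X ⟶ Spec (CommRingCat.of k))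
    (g : Y ⟶ Spec (CommRingCat.of k)) [IsIntegral X] [IsIntegral Y] [Smooth f] [Smooth g] [IsProper f] [IsProper g]
    [(pullback f g).Over (Spec (CommRingCat.of k))]
    (hover : pullback f g ↘ Spec (CommRingCat.of k) = pullback.fst f g ≫ f)
    (E₁ : ℕ → X.Modules) (hE₁ : ∀ i, ExtPow.IsExtPow i (Omega.sheaf f) (E₁ i))
    (E₂ : ℕ → Y.Modules) (hE₂ : ∀ i, ExtPow.IsExtPow i (Omega.sheaf g) (E₂ i))
    (p q : ℕ) (E : (pullback f g).Modules)
    (hE : ExtPow.IsExtPow p (Omega.sheaf (pullback f g ↘ Spec (CommRingCat.of k))) E) :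
    hd k E q = ∑ i ∈ Finset.range (p + 1), hd k (CohB1.tensorMod
      ((Scheme.Modules.pullback (pullback.fst f g)).obj (E₁ i))
      ((Scheme.Modules.pullback (pullback.snd f g)).obj (E₂ (p - i)))) q := by
  have hprop : IsProper (pullback f g ↘ Spec (CommRingCat.of k)) := by
    rw [hover]; infer_instance
  have hsep : QuasiCompact (pullback.diagonal (pullback f g ↘ Spec (CommRingCat.of k))) := inferInstance
  obtain ⟨a, ha⟩ := exists_relDim k X f
  obtain ⟨b, hb⟩ := exists_relDim k Y g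
  have hfl₁ := Groth.Agent.PerfB.FlatPull.isFinLocFree_pullback (pullback.fst f g)
    (Groth.Agent.Vancyc.H878.OmegaRank.isFinLocFree_omega f)
  have hfl₂ := Groth.Agent.PerfB.FlatPull.isFinLocFree_pullback (pullback.snd f g)
    (Groth.Agent.Vancyc.H878.OmegaRank.isFinLocFree_omega g)
  have hex₁ : ∀ i, ExtPow.IsExtPow i ((Scheme.Modules.pullback (pullback.fst f g)).obj (Omega.sheaf f))
      ((Scheme.Modules.pullback (pullback.fst f g)).obj (E₁ i)) := fun i => by
    refine Groth.Agent.Krr.H487.ExtPull.isExtPow_pullback _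
      (Groth.Agent.Vancyc.H878.OmegaRank.isFinLocFree_omega f) (hE₁ i) ?_
    obtain ⟨L, -, hL⟩ := Groth.Agent.Krr.H495.ExtExist.exists_isExtPow i _ hfl₁
    exact ⟨L, hL⟩
  have hex₂ : ∀ i, ExtPow.IsExtPow i ((Scheme.Modules.pullback (pullback.snd f g)).obj (Omega.sheaf g))
      ((Scheme.Modules.pullback (pullback.snd f g)).obj (E₂ i)) := fun i => by
    refine Groth.Agent.Krr.H487.ExtPull.isExtPow_pullback _
      (Groth.Agent.Vancyc.H878.OmegaRank.isFinLocFree_omega g) (hE₂ i) ?_
    obtain ⟨L, -, hL⟩ := Groth.Agent.Krr.H495.ExtExist.exists_isExtPow i _ hfl₂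
    exact ⟨L, hL⟩
  have hiso := K882.OmegaProd.isIso_desc f g (pullback f g ↘ Spec (CommRingCat.of k)) hover.symm
    (pullback.condition.symm.trans hover.symm) (a := a) (b := b)
  exact hd_extPow_biprod hfl₁ hfl₂ ⟨asIso (K882.OmegaProd.desc f g _ hover.symm
    (pullback.condition.symm.trans hover.symm))⟩ _ _ hex₁ hex₂ p q hE

end K882.ProdHodge
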