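import Groth.Agent.HodgeNum.K882.Twist
import Groth.Agent.Coh.K415.LerayGen
import Groth.Agent.CohqB.RelVan
import Groth.Agent.Ega4B.RpushCompare
import Groth.Agent.Ega3B.RpushAbCmp
import Groth.Agent.S0927

/-!
# Cohomology and direct images

* `hd_of_isZero`: if `R^q f_* M = 0` for `q ≥ 1`, `h^q(X, M) = h^q(Y, f_* M)`;
* `van_of_isZero`: if `R^q f_* M = 0` for all `q`, then `H^q(X, M) = 0` for all `q`;
* `isZero_tensor`: `R^q f_* M = 0` implies `R^q f_* (f^* V ⊗ M) = 0` for `V` finite locally free;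
* `hd_pull`: if `f_* O = O` and `R^q f_* O = 0` for `q ≥ 1`, then `h^q(f^* V) = h^q(V)`.
-/

set_option autoImplicit false
universe u

open CategoryTheory CategoryTheory.Limits AlgebraicGeometry TopologicalSpace Opposite

namespace K882.RelLeray

open K882.Coho K882.IsoMon

variable {X Y : Scheme.{u}} (f : X ⟶ Y)

theorem isAcyc_of_isZero (M : X.Modules) (h : ∀ q, 1 ≤ q → IsZero ((Coh.Rpush f q).obj M)) :
    Groth.Agent.Cohder.RDAcyc.IsAcyc (Scheme.Modules.pushforward f) M := fun q hq => h q hq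

variable (k : Type u) [Field k] [X.Over (Spec (CommRingCat.of k))] [Y.Over (Spec (CommRingCat.of k))]

include k in
theorem hd_of_isZero (hf : f ≫ (Y ↘ Spec (CommRingCat.of k)) = X ↘ Spec (CommRingCat.of k)) (M : X.Modules)
    (h : ∀ q, 1 ≤ q → IsZero ((Coh.Rpush f q).obj M)) (q : ℕ) :
    hd k M q = hd k ((Scheme.Modules.pushforward f).obj M) q := by
  obtain ⟨e⟩ := K415.LerayGen.exists_equiv_of_isAcyc f k hf M (isAcyc_of_isZero f M h) q
  exact (LinearEquiv.finrank_eq e).symm

omit [X.Over (Spec (CommRingCat.of k))] [Y.Over (Spec (CommRingCat.of k))] in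
include k in
theorem van_of_isZero' (p : Y ⟶ Spec (CommRingCat.of k)) (M : X.Modules)
    (h : ∀ q, 1 ≤ q → IsZero ((Coh.Rpush f q).obj M)) (q : ℕ)
    (hv : Van ((Scheme.Modules.pushforward f).obj M) q) : Van M q := by
  let _ : Y.Over (Spec (CommRingCat.of k)) := ⟨p⟩
  let _ : X.Over (Spec (CommRingCat.of k)) := ⟨f ≫ p⟩
  obtain ⟨e⟩ := K415.LerayGen.exists_equiv_of_isAcyc f k rfl M (isAcyc_of_isZero f M h) q
  exact ⟨fun x y => e.symm.injective (hv.elim _ _)⟩

theorem isZero_push {M : X.Modules} (h : IsZero ((Coh.Rpush f 0).obj M)) :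
    IsZero ((Scheme.Modules.pushforward f).obj M) := by
  exact h.of_iso ((Functor.rightDerivedZeroIsoSelf (F := Scheme.Modules.pushforward f)).app M).symm

omit [X.Over (Spec (CommRingCat.of k))] [Y.Over (Spec (CommRingCat.of k))] in
include k in
theorem van_of_isZero (p : Y ⟶ Spec (CommRingCat.of k)) (M : X.Modules) (h : ∀ q, IsZero ((Coh.Rpush f q).obj M)) (q : ℕ) : Van M q :=
  van_of_isZero' f k p M (fun q _ => h q) q (van_zeroMod (isZero_push f (h 0)) q)

theorem isZero_tensor {M : X.Modules} {V : Y.Modules} (hV : FlatMod.IsFinLocFree V) (q : ℕ)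
    (h : IsZero ((Coh.Rpush f q).obj M)) :
    IsZero ((Coh.Rpush f q).obj (CohB1.tensorMod ((Scheme.Modules.pullback f).obj V) M)) := by
  obtain ⟨e⟩ := Groth.Agent.S0927.result f M V hV q
  exact (Functor.map_isZero (DCoh.tensorBi.obj V) h).of_iso e.symm

theorem c_push_tensor (M : X.Modules) {V : Y.Modules} (hV : FlatMod.IsFinLocFree V) :
    c ((Scheme.Modules.pushforward f).obj (CohB1.tensorMod ((Scheme.Modules.pullback f).obj V) M)) =
      c V * c ((Scheme.Modules.pushforward f).obj M) := by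
  obtain ⟨e⟩ := Groth.Agent.S0927.result f M V hV 0
  have e1 := (Functor.rightDerivedZeroIsoSelf (F := Scheme.Modules.pushforward f)).app M
  have e2 := (Functor.rightDerivedZeroIsoSelf (F := Scheme.Modules.pushforward f)).app
    (CohB1.tensorMod ((Scheme.Modules.pullback f).obj V) M)
  refine (c_iso (e2.symm ≪≫ e.symm)).trans ?_
  rw [c_tensor, c_iso (show (Coh.Rpush f 0).obj M ≅ _ from e1)]

include k in
theorem hd_pull (hf : f ≫ (Y ↘ Spec (CommRingCat.of k)) = X ↘ Spec (CommRingCat.of k))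
    (hR : ∀ q, 1 ≤ q → IsZero ((Coh.Rpush f q).obj (Coh.structureModule X)))
    (hO : c ((Scheme.Modules.pushforward f).obj (Coh.structureModule X)) = 1) {V : Y.Modules}
    (hV : FlatMod.IsFinLocFree V) (q : ℕ) : hd k ((Scheme.Modules.pullback f).obj V) q = hd k V q := by
  have h1 : hd k ((Scheme.Modules.pullback f).obj V) q =
      hd k (CohB1.tensorMod ((Scheme.Modules.pullback f).obj V) (Coh.structureModule X)) q := by
    refine hd_iso (c_eq_iff.1 ?_) q
    rw [c_tensor, c_unit, mul_one]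
  rw [h1, hd_of_isZero f k hf _ (fun q hq => isZero_tensor f hV q (hR q hq)) q]
  refine hd_iso (c_eq_iff.1 ?_) q
  rw [c_push_tensor f _ hV, hO, mul_one]

end K882.RelLeray
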