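import Groth.Agent.HodgeNum.K882.Steps

/-!
# Shifting the second outer Hodge numbers (S20005), up to the Hodge numbers of the blow-up of a point
-/

set_option autoImplicit false
universe u

open CategoryTheory CategoryTheory.Limits AlgebraicGeometry TopologicalSpace Opposite

namespace K882.Second

open K882.Frame K882.Frame.Vr

variable {k : Type u} [Field k] [IsAlgClosed k] {n : ℕ}

/-- `V'` is birational over `V` and has the Hodge numbers of `V`, raised by `c` on the inner diagonal. -/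
def PStep (c : ℕ) (V' V : Vr k n) : Prop :=
  Bir V' V ∧ ∀ p q, p ≤ n → q ≤ n → V'.h p q = V.h p q + if p = q ∧ 1 ≤ p ∧ p + 1 ≤ n then c else 0

theorem PStep.iterate (H : ∀ V : Vr k n, ∃ V' : Vr k n, PStep 1 V' V) (c : ℕ) (V : Vr k n) :
    ∃ V' : Vr k n, PStep c V' V := by
  induction c with
  | zero => exact ⟨V, Bir.refl V, fun p q _ _ => by simp⟩
  | succ c ih =>
    obtain ⟨V₁, h₁⟩ := ih
    obtain ⟨V₂, h₂⟩ := H V₁
    refine ⟨V₂, h₂.1.trans h₁.1, fun p q hp hq => ?_⟩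
    rw [h₂.2 p q hp hq, h₁.2 p q hp hq]
    split_ifs <;> omega

/-- The conclusion of S20005, in terms of `V.h`. -/
def Good (m r : ℕ) (b : ℤ) (V' V : Vr k n) : Prop :=
  ((V'.h r 1 : ℤ) : ZMod m) = ((V.h r 1 : ℤ) : ZMod m) + (b : ZMod m) ∧
  ((V'.h 1 r : ℤ) : ZMod m) = ((V.h 1 r : ℤ) : ZMod m) + (b : ZMod m) ∧
  ∀ p : ℕ, r < p → p ≤ n → V'.h p 1 = V.h p 1 ∧ V'.h 1 p = V.h 1 p

theorem exists_good (H : ∀ V : Vr k n, ∃ V' : Vr k n, PStep 1 V' V) (m : ℕ) (hm : 2 ≤ m) (hn : 2 ≤ n) (r : ℕ)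
    (hr : r = 1 ∨ r + 1 = n) (b : ℤ) (V : Vr k n) : ∃ V' : Vr k n, Bir V' V ∧ Good m r b V' V := by
  obtain ⟨c, hc⟩ := exists_nat m hm b
  by_cases hr1 : r = 1
  · subst hr1
    obtain ⟨V', h⟩ := PStep.iterate H c V
    have e1 : V'.h 1 1 = V.h 1 1 + c := by
      rw [h.2 1 1 (by omega) (by omega), if_pos ⟨rfl, le_rfl, hn⟩]
    refine ⟨V', h.1, ?_, ?_, fun p hp hp' => ⟨?_, ?_⟩⟩
    · rw [e1, ← hc]
      push_cast
      ring
    · rw [e1, ← hc]
      push_cast
      ring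
    · rw [h.2 p 1 hp' (by omega), if_neg (by omega), Nat.add_zero]
    · rw [h.2 1 p (by omega) hp', if_neg (by omega), Nat.add_zero]
  · obtain ⟨s, rfl⟩ : ∃ s, n = s + 2 := ⟨n - 2, by omega⟩
    obtain rfl : r = s + 1 := by omega
    obtain ⟨V', h⟩ := Step.iterate (K882.Steps.exists_AB (k := k) (s := s) (by omega)) c V
    have e1 : V'.h 1 (s + 1) = V.h 1 (s + 1) + c := by
      rw [h.2.2 (s + 1)]
      simp only [if_neg hr1, if_true, Nat.zero_add, Nat.mul_one]
    have e2 : V'.h (s + 1) 1 = V.h (s + 1) 1 + c := by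
      rw [V'.h_dual (by omega) (by omega), V.h_dual (p := s + 1) (by omega) (by omega)]
      have a1 : s + 2 - (s + 1) = 1 := by omega
      have a2 : s + 2 - 1 = s + 1 := by omega
      rw [a1, a2, e1]
    refine ⟨V', h.1, ?_, ?_, fun p hp hp' => ?_⟩
    · rw [e2, ← hc]
      push_cast
      ring
    · rw [e1, ← hc]
      push_cast
      ring
    · obtain rfl : p = s + 2 := by omega
      refine ⟨?_, ?_⟩
      · rw [V'.h_dual le_rfl (by omega), V.h_dual (p := s + 2) le_rfl (by omega), Nat.sub_self]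
        exact h.2.1 _
      · rw [h.2.2 (s + 2)]
        simp

end K882.Second
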