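import Groth.Agent.Vancyc.H878.OmegaRank
import Groth.Agent.Krr.H487.KerRank
import Groth.Agent.Vancyc.H878.Triv
import Groth.Agent.HodgeNum.K882.Conormal

/-!
# The rank of the differentials determines the relative dimension of a smooth morphism
-/

set_option autoImplicit false
universe u

open CategoryTheory CategoryTheory.Limits AlgebraicGeometry TopologicalSpace Opposite

namespace K882.SmoothRank

open Groth.Agent.Sga67.Sec Groth.Agent.Sga67.LocBasis Groth.Agent.CurvesB.OmegaDer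
open Groth.Agent.VarietyB Groth.Agent.Vancyc.H878.OmegaRank Groth.Agent.Krr.H487.KerRank

theorem smoothOfRelDim_of_rank {X Y : Scheme.{u}} (f : X ⟶ Y) [Smooth f] [QuasiCompact (pullback.diagonal f)] {n : ℕ}
    (hr : FlatMod.IsFinLocFreeOfRank n (Omega.sheaf f)) : SmoothOfRelativeDimension n f := by
  refine ⟨fun x => ?_⟩
  obtain ⟨U, hU, W, hW, hx, e, h⟩ := Smooth.exists_isStandardSmooth f x
  let := algX f e
  let := modO f e
  have := isScalarTower f e
  have h2 : Algebra.IsStandardSmooth Γ(Y, U) Γ(X, W) := h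
  have h3 : Nontrivial Γ(X, W) := by
    have : Nonempty W := ⟨⟨x, hx⟩⟩
    infer_instance
  obtain ⟨ι, σ, hσ, hι, ⟨P⟩⟩ := h2.out
  have h1 : Algebra.IsStandardSmoothOfRelativeDimension P.dimension Γ(Y, U) Γ(X, W) :=
    P.isStandardSmoothOfRelativeDimension rfl
  have h4 : Module.finrank Γ(X, W) Ω[Γ(X, W)⁄Γ(Y, U)] = P.dimension :=
    Module.finrank_eq_of_rank_eq (Algebra.IsStandardSmoothOfRelativeDimension.rank_kaehlerDifferential P.dimension)
  let b := (Module.finBasisOfFinrankEq Γ(X, W) Ω[Γ(X, W)⁄Γ(Y, U)] h4).map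
    (LinearEquiv.ofBijective _ (bijective_lift f e hU hW))
  have hb := isLocBasis_of_isQCoh (isQCoh_omega f) hW b
  obtain ⟨V, hV, c, hc⟩ := (isFinLocFreeOfRank_iff _).mp hr x
  have hn := card_eq hb hc x hx hV
  simp only [Fintype.card_fin] at hn
  rw [hn] at h1
  exact ⟨U, hU, W, hW, hx, e, h1⟩

/-- The rank of the third term of a short exact sequence. -/
theorem isFinLocFreeOfRank_right {X : Scheme.{u}} {S : ShortComplex X.Modules} (hS : S.ShortExact) {a b : ℕ}
    (h₁ : FlatMod.IsFinLocFreeOfRank a S.X₁) (h₂ : FlatMod.IsFinLocFreeOfRank (a + b) S.X₂)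
    (h₃ : FlatMod.IsFinLocFree S.X₃) : FlatMod.IsFinLocFreeOfRank b S.X₃ := by
  apply isFinLocFreeOfRank_of_forall h₃
  intro x U k c hx hc
  obtain ⟨V, hV, d, hd⟩ := (isFinLocFreeOfRank_iff _).mp h₁ x
  obtain ⟨W, e, hxW, he⟩ := exists_basis_mid hS hd hV hc hx
  obtain ⟨W', hW', e', he'⟩ := (isFinLocFreeOfRank_iff _).mp h₂ x
  have := card_eq he he' x hxW hW'
  simp only [Fintype.card_sum, Fintype.card_fin] at this
  omega

/-- A smooth closed subscheme with invertible conormal module has relative dimension one less. -/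
theorem smooth_of_conormal {X Z S : Scheme.{u}} (i : Z ⟶ X) [IsClosedImmersion i] (p : X ⟶ S) [IsSeparated p] (n : ℕ)
    [SmoothOfRelativeDimension (n + 1) p] [Smooth (i ≫ p)]
    (hc : FlatMod.IsFinLocFreeOfRank 1 (Omega.conormal i)) : SmoothOfRelativeDimension n (i ≫ p) := by
  obtain ⟨T, hT, ⟨e1⟩, ⟨e2⟩, ⟨e3⟩⟩ := Conormal.exists_shortExact i p
  have h2 : FlatMod.IsFinLocFreeOfRank (n + 1) (Omega.sheaf p) := isFinLocFreeOfRank_omega _ _
  have h2' := isFinLocFreeOfRank_of_iso e2.symm (Groth.Agent.Vancyc.H878.Triv.isFinLocFreeOfRank_pullback i h2)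
  have h3 : FlatMod.IsFinLocFree (Omega.sheaf (i ≫ p)) := isFinLocFree_omega _
  have h3' := Groth.Agent.Sga67.LocBasis.isFinLocFree_of_iso e3.symm h3
  rw [Nat.add_comm] at h2'
  exact smoothOfRelDim_of_rank _ (isFinLocFreeOfRank_of_iso e3
    (isFinLocFreeOfRank_right hT (isFinLocFreeOfRank_of_iso e1.symm hc) h2' h3'))

end K882.SmoothRank
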