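import Groth.Agent.HodgeNum.K882.Frame
import Groth.Agent.HodgeNum.K882.Hyp
import Groth.Agent.HodgeNum.K108.PointBlow
import Mathlib.AlgebraicGeometry.AlgClosed.Basic

/-!
# The steps: blow-up of a point; blow-up of a point followed by a codimension two centre in the exceptional divisor
-/

set_option autoImplicit false
universe u

open CategoryTheory CategoryTheory.Limits AlgebraicGeometry TopologicalSpace Opposite

namespace K882.Steps

open K882.Coho K882.IsoMon K882.Frame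

variable {k : Type u} [Field k] [IsAlgClosed k]

theorem exists_point {X : Scheme.{u}} [Nonempty X] (f : X ⟶ Spec (CommRingCat.of k)) [LocallyOfFiniteType f]
    [QuasiCompact f] : ∃ x : Spec (CommRingCat.of k) ⟶ X, x ≫ f = 𝟙 _ := by
  have : CompactSpace X := QuasiCompact.compactSpace_of_compactSpace f
  obtain ⟨x, -, hx⟩ := IsClosed.exists_closed_singleton (X := X) isClosed_univ Set.univ_nonempty
  exact ⟨pointOfClosedPoint f x hx, pointOfClosedPoint_comp f x hx⟩

theorem ne_bot_of_isEff {X : Scheme.{u}} [Nonempty X] {D : X.IdealSheafData} (hD : BlowUp.IsEffCartierIdeal D) :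
    D ≠ ⊥ := by
  intro h
  obtain ⟨U, hz, a, ha, hU⟩ := hD (Classical.arbitrary X)
  have h0 : a = 0 := by
    have h1 : a ∈ D.ideal U := by rw [hU]; exact Ideal.mem_span_singleton_self a
    rw [h] at h1
    exact (Submodule.mem_bot _).1 h1
  subst h0
  have h3 : Nontrivial Γ(X, U.1) := (X.presheaf.germ U.1 _ hz).hom.domain_nontrivial
  exact zero_notMem_nonZeroDivisors ha

/-- The blow-up of a point. -/
theorem exists_point_blow {r : ℕ} (hr : 1 ≤ r) (V : Vr k (r + 1)) :
    ∃ (V' : Vr k (r + 1)) (i : CohB1.ProjSpace r k ⟶ V'.X),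
      Step (fun q => if q = 1 then 1 else 0) V' V ∧ IsClosedImmersion i ∧
        i ≫ V'.f = CohB1.ProjSpace.toSpec r k ∧ i.ker ≠ ⊥ := by
  obtain ⟨x, hx⟩ := exists_point V.f
  obtain ⟨X₁, b, i, N₁, ι₁, hb, hM, hsm, hci, hι, hsq, hi, hker, -⟩ :=
    Groth.Agent.HodgeNum.K108.PointBlow.exists_blowUp r V.N V.f V.ι V.hι x hx
  have hint := hM.integral
  let _ : X₁.Over (Spec (CommRingCat.of k)) := ⟨b ≫ V.f⟩
  let V' : Vr k (r + 1) := ⟨X₁, b ≫ V.f, hint, hsm, N₁, ι₁, hci, hι⟩
  have hxc : IsClosedImmersion x := by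
    have : IsClosedImmersion (x ≫ V.f) := by rw [hx]; infer_instance
    exact IsClosedImmersion.of_comp x V.f
  refine ⟨V', i, ⟨⟨b, rfl, hM.exists_isIso⟩, fun q => ?_, fun q => ?_⟩, hi, ?_, ?_⟩
  · rw [Vr.h_zero, Vr.h_zero]
    have : SmoothOfRelativeDimension (0 + (r + 1)) (V.X ↘ Spec (CommRingCat.of k)) := by
      rw [Nat.zero_add]; infer_instance
    let _ : (Spec (CommRingCat.of k)).Over (Spec (CommRingCat.of k)) := ⟨𝟙 _⟩
    have : SmoothOfRelativeDimension 0 (Spec (CommRingCat.of k) ↘ Spec (CommRingCat.of k)) :=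
      inferInstanceAs (SmoothOfRelativeDimension 0 (𝟙 _))
    exact BlowTwo.hd_structure_blow (k := k) (X := V.X) (X' := X₁) b x rfl hx hb 0 r q
  · rw [Vr.h_one, Vr.h_one]
    exact BlowPt.hd_omega_point (k := k) (X := V.X) (X' := X₁) b x rfl hx hb r hr q
  · change i ≫ b ≫ V.f = _
    rw [← Category.assoc, hsq.w, Category.assoc, hx, Category.comp_id]
  · rw [hker]
    exact ne_bot_of_isEff hb.1

/-- The blow-up of a codimension two centre. -/
theorem exists_two_blow {m : ℕ} (V : Vr k (m + 2)) {Z : Scheme.{u}} [Z.Over (Spec (CommRingCat.of k))]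
    (z : Z ⟶ V.X) [IsClosedImmersion z] (hz : z ≫ V.f = Z ↘ Spec (CommRingCat.of k))
    [SmoothOfRelativeDimension m (Z ↘ Spec (CommRingCat.of k))] (hne : z.ker ≠ ⊥) (d : ℕ → ℕ) (hd0 : d 0 = 0)
    (hd : ∀ q, hd k (Coh.structureModule Z) q = d (q + 1)) : ∃ V' : Vr k (m + 2), Step d V' V := by
  have h1 : SmoothOfRelativeDimension m (z ≫ V.f) := by rw [hz]; infer_instance
  have h2 : SmoothOfRelativeDimension (m + (1 + 1)) V.f := V.sm
  obtain ⟨X₁, b, N₁, ι₁, hb, hM, hsm, hci, hι⟩ :=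
    Groth.Agent.HodgeNum.K108.PointBlow.exists_blowUp_centre m 1 V.N V.f V.ι V.hι z hne
  have hint := hM.integral
  let _ : X₁.Over (Spec (CommRingCat.of k)) := ⟨b ≫ V.f⟩
  let V' : Vr k (m + 2) := ⟨X₁, b ≫ V.f, hint, hsm, N₁, ι₁, hci, hι⟩
  refine ⟨V', ⟨⟨b, rfl, hM.exists_isIso⟩, fun q => ?_, fun q => ?_⟩⟩
  · rw [Vr.h_zero, Vr.h_zero]
    exact BlowTwo.hd_structure_blow (k := k) (X := V.X) (X' := X₁) b z rfl hz hb m 1 q
  · rw [Vr.h_one, Vr.h_one]
    have h := BlowTwo.hd_omega_two (k := k) (X := V.X) (X' := X₁) b z rfl hz hb m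
    rcases q with _ | q
    · rw [hd0]
      exact h.1
    · rw [← hd q]
      exact h.2 q

end K882.Steps

namespace K882.Steps

open K882.Coho K882.IsoMon K882.Frame

variable {k : Type u} [Field k] [IsAlgClosed k]

/-- Blow-up of a point, then of a smooth hypersurface of degree `s + 2` of the exceptional divisor. -/
theorem exists_AB {s : ℕ} (hs : 1 ≤ s) (V : Vr k (s + 2)) :
    ∃ V' : Vr k (s + 2), Step (fun q => (if q = 1 then 2 else 0) + (if q = s + 1 then 1 else 0)) V' V := by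
  obtain ⟨V₁, i, h₁, hi, hif, hne⟩ := exists_point_blow (r := s + 1) (by omega) V
  obtain ⟨D, hD, hcoh⟩ := Hyp.exists_hyp (k := k) s hs
  let _ : D.subscheme.Over (Spec (CommRingCat.of k)) := ⟨D.subschemeι ≫ CohB1.ProjSpace.toSpec (s + 1) k⟩
  have hsm : SmoothOfRelativeDimension s (D.subscheme ↘ Spec (CommRingCat.of k)) := hD
  have hz : (D.subschemeι ≫ i) ≫ V₁.f = D.subscheme ↘ Spec (CommRingCat.of k) := by
    rw [Category.assoc, hif]
    rfl
  have hne' : (D.subschemeι ≫ i).ker ≠ ⊥ := fun h =>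
    hne (le_bot_iff.1 ((Scheme.Hom.le_ker_comp D.subschemeι i).trans h.le))
  obtain ⟨V₂, h₂⟩ := exists_two_blow V₁ (D.subschemeι ≫ i) hz hne'
    (fun q => (if q = 1 then 1 else 0) + (if q = s + 1 then 1 else 0)) (by simp) (fun q => by
      rw [hcoh _ rfl q]
      simp)
  refine ⟨V₂, ?_⟩
  have h := h₂.trans h₁
  have e : (fun q => (if q = 1 then 1 else 0) + ((if q = 1 then 1 else 0) + (if q = s + 1 then 1 else 0))) =
      fun q : ℕ => (if q = 1 then 2 else 0) + (if q = s + 1 then 1 else 0) := by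
    funext q
    split_ifs <;> rfl
  rwa [e] at h

end K882.Steps
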