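import Groth.Agent.HodgeNum.K882.Coho2
import Groth.Agent.HodgeNum.K882.IsoMon
import Groth.Agent.Dcoh.MonTm
import Groth.Agent.VarietyB.RestrSeq
import Groth.Agent.PerfA.IdealModule
import Groth.Agent.Sga67.LocBasisOps

/-!
# Cohomology of an elementary modification, twisting argument

`D` an ideal sheaf on `X` with invertible ideal module `I`, `M` with `M ⊗ I ≅ O`, `0 → P → Ω → j_* N → 0` exact. If all
cohomology of `j^*(M ⊗ P)` vanishes, then `h^q(Ω) = h^q(P) + h^q(j_* N)` for all `q`.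
-/

set_option autoImplicit false
universe u

open CategoryTheory CategoryTheory.Limits AlgebraicGeometry Opposite TopologicalSpace MonoidalCategory
open Groth.Agent.Dcoh.MonTm Groth.Agent.VarietyB.RestrSeq Groth.Agent.PerfA.IdealModule
open scoped Groth.Agent.Dcoh.MonCat
open K882.Coho K882.IsoMon

namespace K882.Twist

section Coh

variable {X : Scheme.{u}} {k : Type u} [Field k] [X.Over (Spec (CommRingCat.of k))]
variable {S : ShortComplex X.Modules} (hS : S.ShortExact)

theorem rk_of_inj (q : ℕ) (h : Function.Injective ((HF k (q + 1)).map S.f).hom) : rk k hS q = 0 := by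
  have h1 : (dl k hS q).hom = 0 := by
    refine LinearMap.ext fun x => ?_
    apply h
    rw [LinearMap.zero_apply, map_zero]
    exact (exact_df hS q _).mpr ⟨x, rfl⟩
  rw [rk, h1, LinearMap.range_zero, finrank_bot]

include hS in
theorem inj_of_van₃ (q : ℕ) (h : Van S.X₃ q) : Function.Injective ((HF k (q + 1)).map S.f).hom := by
  rw [van_iff (k := k)] at h
  rw [injective_iff_map_eq_zero]
  intro x hx
  obtain ⟨y, rfl⟩ := (exact_df hS q x).mp hx
  rw [Subsingleton.elim y 0, map_zero]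

theorem inj_of_comp {A B C : X.Modules} (f : A ⟶ B) (g : B ⟶ C) (q : ℕ)
    (h : Function.Injective ((HF k q).map (f ≫ g)).hom) : Function.Injective ((HF k q).map f).hom := by
  intro x y hxy
  apply h
  rw [Functor.map_comp, ModuleCat.hom_comp, LinearMap.comp_apply, LinearMap.comp_apply, hxy]

end Coh

section Mul

variable {X : Scheme.{u}} (D : X.IdealSheafData)

/-- Multiplication `F ⊗ I → F`. -/
noncomputable def mul (F : X.Modules) : F ⊗ ClSub.idealMod D ⟶ F := F ◁ ClSub.idealModι D ≫ (ρ_ F).hom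

theorem mul_eq (F : X.Modules) : mul D F = tensIdealι F D := by
  rw [mul, tensIdealι, rightUnitor_eq]
  rfl

theorem mul_tm (F : X.Modules) {U : X.Opens} (x : Γ(F, U)) (a : Γ(ClSub.idealMod D, U)) :
    (mul D F).app U (tm x a) = val D a • x := by
  rw [mul, comp_ap, whiskerLeft_tm]
  exact rightUnitor_hom_tm x _

theorem mul_natural {F G : X.Modules} (f : F ⟶ G) : f ▷ ClSub.idealMod D ≫ mul D G = mul D F ≫ f := by
  refine ext₂ _ _ fun U x a => ?_
  rw [comp_ap, comp_ap, whiskerRight_tm, mul_tm, mul_tm, Scheme.Modules.Hom.app_smul]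

theorem val_smul_push (N : D.subscheme.Modules) {U : X.Opens} (a : Γ(ClSub.idealMod D, U))
    (n : Γ((Scheme.Modules.pushforward D.subschemeι).obj N, U)) : val D a • n = 0 := by
  have h1 : (D.subschemeι.app U).hom (val D a) = 0 := by
    rw [← toSubscheme_app_apply]
    exact (exact_app D U _).mpr ⟨a, rfl⟩
  change (D.subschemeι.app U).hom (val D a) • (show Γ(N, D.subschemeι ⁻¹ᵁ U) from n) = 0
  rw [h1, zero_smul]

theorem mul_push (M : X.Modules) (N : D.subscheme.Modules) :
    mul D (M ⊗ (Scheme.Modules.pushforward D.subschemeι).obj N) = 0 := by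
  refine ext₃ _ _ fun U m n a => ?_
  rw [mul_tm, ← tm_smul, val_smul_push, tm_zero]
  rfl

theorem shortExact_left {E : X.Modules} (hE : FlatMod.IsFinLocFree E) {S : ShortComplex X.Modules}
    (hS : S.ShortExact) (w : E ◁ S.f ≫ E ◁ S.g = 0) : (ShortComplex.mk (E ◁ S.f) (E ◁ S.g) w).ShortExact :=
  Groth.Agent.VarietyB.ExactLoc.tensor_shortExact (Groth.Agent.VarietyB.TensCoh.HasBases.of_isFinLocFree hE) S hS

theorem w_left (E : X.Modules) (S : ShortComplex X.Modules) : E ◁ S.f ≫ E ◁ S.g = 0 :=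
  (S.map (DCoh.tensorBi.obj E)).zero

theorem w_right (E : X.Modules) (S : ShortComplex X.Modules) : S.f ▷ E ≫ S.g ▷ E = 0 := by
  refine ext₂ _ _ fun U x a => ?_
  rw [comp_ap, whiskerRight_tm, whiskerRight_tm, ← comp_ap, S.zero]
  exact zero_tm a

theorem shortExact_right {E : X.Modules} (hE : FlatMod.IsFinLocFree E) {S : ShortComplex X.Modules}
    (hS : S.ShortExact) : (ShortComplex.mk (S.f ▷ E) (S.g ▷ E) (w_right E S)).ShortExact := by
  refine ShortComplex.shortExact_of_iso ?_ (shortExact_left hE hS (w_left E S))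
  refine ShortComplex.isoMk (β_ _ _) (β_ _ _) (β_ _ _) ?_ ?_
  · exact (BraidedCategory.braiding_naturality_right E S.f).symm
  · exact (BraidedCategory.braiding_naturality_right E S.g).symm

end Mul

variable {X : Scheme.{u}} {k : Type u} [Field k] [X.Over (Spec (CommRingCat.of k))] (D : X.IdealSheafData)

theorem hd_twist (hI : FlatMod.IsFinLocFree (ClSub.idealMod D)) {M : X.Modules} (hM : FlatMod.IsFinLocFree M)
    (hMI : c M * c (ClSub.idealMod D) = 1) {P Ω : X.Modules} {N : D.subscheme.Modules} (f : P ⟶ Ω)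
    (g : Ω ⟶ (Scheme.Modules.pushforward D.subschemeι).obj N) (w : f ≫ g = 0)
    (hS : (ShortComplex.mk f g w).ShortExact) (hP : FlatMod.IsFinLocFree P)
    (hP' : ∀ q, FinD k P q) (hN' : ∀ q, FinD k ((Scheme.Modules.pushforward D.subschemeι).obj N) q)
    (hvan : ∀ q, Van ((Scheme.Modules.pullback D.subschemeι).obj (CohB1.tensorMod M P)) q) (q : ℕ) :
    hd k Ω q = hd k P q + hd k ((Scheme.Modules.pushforward D.subschemeι).obj N) q := by
  have hS₁ := shortExact_left hM hS (w_left M _)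
  have hm₁ : Mono (M ◁ f) := hS₁.mono_f
  have hS₂ := shortExact_right hI hS₁
  have h0 : mul D (M ⊗ Ω) ≫ M ◁ g = 0 := by
    rw [← mul_natural, mul_push, comp_zero]
  let ψ : (M ⊗ Ω) ⊗ ClSub.idealMod D ⟶ M ⊗ P := hS₁.exact.lift (mul D (M ⊗ Ω)) h0
  have hψ : ψ ≫ M ◁ f = mul D (M ⊗ Ω) := hS₁.exact.lift_f _ _
  have key : (M ◁ f) ▷ ClSub.idealMod D ≫ ψ = mul D (M ⊗ P) := by
    rw [← cancel_mono (M ◁ f), Category.assoc, hψ, mul_natural]
  have hMP : FlatMod.IsFinLocFree (CohB1.tensorMod M P) :=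
    Groth.Agent.Sga67.LocBasis.isFinLocFree_tensorMod hM hP
  have hR := restrSeq_shortExact (Groth.Agent.VarietyB.TensCoh.HasBases.of_isFinLocFree hMP) D
  have hinj : ∀ q, Function.Injective ((HF k (q + 1)).map ((M ◁ f) ▷ ClSub.idealMod D)).hom := by
    intro q
    refine inj_of_comp _ ψ _ ?_
    rw [key, mul_eq]
    exact inj_of_van₃ hR q (van_push' _ _ _ (hvan q))
  have hrk : ∀ q, rk k hS₂ q = 0 := fun q => rk_of_inj hS₂ q (hinj q)
  have hc : ∀ F : X.Modules, c ((M ⊗ F) ⊗ ClSub.idealMod D) = c F := by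
    intro F
    change c (CohB1.tensorMod (CohB1.tensorMod M F) (ClSub.idealMod D)) = c F
    rw [c_tensor, c_tensor, mul_right_comm, hMI, one_mul]
  have e1 := fun q => hd_iso (k := k) (c_eq_iff.mp (hc P)) q
  have e2 := fun q => hd_iso (k := k) (c_eq_iff.mp (hc Ω)) q
  have e3 := fun q => hd_iso (k := k) (c_eq_iff.mp (hc ((Scheme.Modules.pushforward D.subschemeι).obj N))) q
  have f1 := fun q => finD_iso (k := k) (c_eq_iff.mp (hc P).symm) q (hP' q)
  have f3 := fun q => finD_iso (k := k) (c_eq_iff.mp (hc ((Scheme.Modules.pushforward D.subschemeι).obj N)).symm) q (hN' q)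
  have f2 := fun q => finD₂ hS₂ q (f1 q) (f3 q)
  rw [← e1, ← e2, ← e3]
  cases q with
  | zero =>
    have h := hd_les_zero hS₂ (f1 0) (f2 0) (f3 0)
    rw [hrk, add_zero] at h
    exact h
  | succ q =>
    have h := hd_les_succ hS₂ q (f1 _) (f2 _) (f3 _)
    rw [hrk, hrk, add_zero, add_zero] at h
    exact h

end K882.Twist
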